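import Cfsg.Agent.ClassicalMax.SpTwo.Main
import Cfsg.Agent.NotMax.TensorFrame
import Cfsg.Agent.Classical.QuadClass

/-!
The stabiliser of a decomposition `Sp₂ ⊗ O` of the symplectic space is maximal.
-/

set_option autoImplicit false
set_option linter.unusedSectionVars false

namespace Cfsg.Agent.ClassicalMax.SpTwo

open Module QuadraticMap Cfsg.Agent.Classical Cfsg.Agent.ClassicalMax
open scoped Kronecker

variable {ι : Type} [Fintype ι] [DecidableEq ι] {F : Type*} [Field F] {n : ℕ}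

/-- coordinates of a decomposition with a first factor of dimension two -/
noncomputable def pairFrame (e : ι ≃ Fin 2 × Fin n) (P : GL ι F) :
    ((Fin n → F) × (Fin n → F)) ≃ₗ[F] (ι → F) where
  toFun u := (P : Matrix ι ι F).mulVec (fun i => ![u.1, u.2] (e i).1 (e i).2)
  map_add' u v := by
    rw [← Matrix.mulVec_add]
    congr 1
    funext i
    show ![u.1 + v.1, u.2 + v.2] (e i).1 (e i).2 = ![u.1, u.2] (e i).1 (e i).2 + ![v.1, v.2] (e i).1 (e i).2
    generalize (e i).1 = a
    fin_cases a <;> simp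
  map_smul' c u := by
    rw [RingHom.id_apply, ← Matrix.mulVec_smul]
    congr 1
    funext i
    show ![c • u.1, c • u.2] (e i).1 (e i).2 = c • ![u.1, u.2] (e i).1 (e i).2
    generalize (e i).1 = a
    fin_cases a <;> simp
  invFun v := (fun j => ((P⁻¹ : GL ι F) : Matrix ι ι F).mulVec v (e.symm (0, j)),
    fun j => ((P⁻¹ : GL ι F) : Matrix ι ι F).mulVec v (e.symm (1, j)))
  left_inv u := by
    simp only [Matrix.mulVec_mulVec, ← Units.val_mul, inv_mul_cancel, Units.val_one, Matrix.one_mulVec,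
      Equiv.apply_symm_apply]
    rfl
  right_inv v := by
    refine (congrArg ((P : Matrix ι ι F).mulVec) (funext fun i => ?_)).trans
      (show (P : Matrix ι ι F).mulVec (((P⁻¹ : GL ι F) : Matrix ι ι F).mulVec v) = v by
        rw [Matrix.mulVec_mulVec, ← Units.val_mul, mul_inv_cancel, Units.val_one, Matrix.one_mulVec])
    rcases h : e i with ⟨p, q⟩
    have hi : e.symm (p, q) = i := by rw [← h, Equiv.symm_apply_apply]
    simp only [h]
    fin_cases p <;> simp [← hi]

theorem pairFrame_eq (e : ι ≃ Fin 2 × Fin n) (P : GL ι F) (u : (Fin n → F) × (Fin n → F)) :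
    pairFrame e P u = NotMax.pureT e P ![1, 0] u.1 + NotMax.pureT e P ![0, 1] u.2 := by
  rw [NotMax.pureT_apply, NotMax.pureT_apply, ← Matrix.mulVec_add]
  show (P : Matrix ι ι F).mulVec _ = _
  congr 1
  funext i
  simp only [Pi.add_apply, Function.comp_apply]
  generalize e i = a
  obtain ⟨p, q⟩ := a
  fin_cases p <;> simp

/-- pure tensors in the coordinates -/
theorem pairFrame_pure (e : ι ≃ Fin 2 × Fin n) (P : GL ι F) (x : Fin 2 → F) (y : Fin n → F) :
    pairFrame e P (x 0 • y, x 1 • y) = NotMax.pureT e P x y := by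
  have hx : x = x 0 • (![1, 0] : Fin 2 → F) + x 1 • ![0, 1] := by funext i; fin_cases i <;> simp
  rw [pairFrame_eq]
  conv_rhs => rw [hx]
  simp only [map_add, map_smul, LinearMap.add_apply, LinearMap.smul_apply]

/-- membership in the stabiliser from the action in coordinates -/
theorem mem_tensor_of (e : ι ≃ Fin 2 × Fin n) (P : GL ι F) (G : GL ι F) (A : GL (Fin 2) F) (B : GL (Fin n) F)
    (h : ∀ y₁ y₂ : Fin n → F, (G : Matrix ι ι F).mulVec (pairFrame e P (y₁, y₂)) =
      pairFrame e P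
        ((A : Matrix (Fin 2) (Fin 2) F) 0 0 • (B : Matrix (Fin n) (Fin n) F).mulVec y₁ +
          (A : Matrix (Fin 2) (Fin 2) F) 0 1 • (B : Matrix (Fin n) (Fin n) F).mulVec y₂,
         (A : Matrix (Fin 2) (Fin 2) F) 1 0 • (B : Matrix (Fin n) (Fin n) F).mulVec y₁ +
          (A : Matrix (Fin 2) (Fin 2) F) 1 1 • (B : Matrix (Fin n) (Fin n) F).mulVec y₂)) :
    G ∈ Cfsg.Geo.tensorProductSubgroup 2 n e P := by
  classical
  let k : GL (Fin 2 × Fin n) F :=
    ⟨(A : Matrix (Fin 2) (Fin 2) F) ⊗ₖ (B : Matrix (Fin n) (Fin n) F),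
      ((A⁻¹ : GL (Fin 2) F) : Matrix (Fin 2) (Fin 2) F) ⊗ₖ ((B⁻¹ : GL (Fin n) F) : Matrix (Fin n) (Fin n) F), by
      rw [← Matrix.mul_kronecker_mul, ← Units.val_mul, ← Units.val_mul, mul_inv_cancel, mul_inv_cancel, Units.val_one,
        Units.val_one, Matrix.one_kronecker_one], by
      rw [← Matrix.mul_kronecker_mul, ← Units.val_mul, ← Units.val_mul, inv_mul_cancel, inv_mul_cancel, Units.val_one,
        Units.val_one, Matrix.one_kronecker_one]⟩
  refine Subgroup.mem_map.2 ⟨_, Subgroup.mem_map.2 ⟨k, ⟨A, B, rfl⟩, rfl⟩, ?_⟩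
  refine Units.ext (Matrix.ext_of_mulVec_single fun i => ?_)
  obtain ⟨⟨y₁, y₂⟩, hy⟩ := (pairFrame e P).surjective (Pi.single i 1)
  rw [← hy, h]
  have hR : ((Cfsg.Geo.glReindex e.symm k : GL ι F) : Matrix ι ι F) =
      (k : Matrix (Fin 2 × Fin n) (Fin 2 × Fin n) F).submatrix e e := rfl
  rw [MulEquiv.coe_toMonoidHom, MulAut.conj_apply, Units.val_mul, Units.val_mul, MulEquiv.coe_toMonoidHom, hR]
  show ((P : Matrix ι ι F) * _ * _).mulVec ((P : Matrix ι ι F).mulVec _) = (P : Matrix ι ι F).mulVec _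
  rw [Matrix.mulVec_mulVec, Matrix.mul_assoc, ← Units.val_mul, inv_mul_cancel, Units.val_one, Matrix.mul_one,
    ← Matrix.mulVec_mulVec]
  congr 1
  rw [Matrix.submatrix_mulVec_equiv]
  funext j
  simp only [Function.comp_apply]
  generalize e j = a
  obtain ⟨p, q⟩ := a
  show ((A : Matrix (Fin 2) (Fin 2) F) ⊗ₖ (B : Matrix (Fin n) (Fin n) F)).mulVec _ (p, q) = _
  simp only [Matrix.mulVec, dotProduct, Matrix.kroneckerMap_apply, Fintype.sum_prod_type, Fin.sum_univ_two,
    Function.comp_apply, Equiv.apply_symm_apply]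
  fin_cases p <;> simp [Matrix.mulVec, dotProduct, Finset.mul_sum, mul_assoc]

variable {m : ℕ} [Fintype F]

/-- the reduction of maximality to the statement that every element preserves the decomposition -/
theorem isMaximal_of_inT (hn : 3 ≤ n) (hodd : Odd (Fintype.card F)) (e : (Fin m ⊕ Fin m) ≃ Fin 2 × Fin n)
    (P : GL (Fin m ⊕ Fin m) F) (f₁ : (Fin 2 → F) → (Fin 2 → F) → F) (f₂ : (Fin n → F) → (Fin n → F) → F)
    (hf₁ : Cfsg.Geo.IsSymplecticForm f₁) (hf₂ : Cfsg.Geo.IsSymmetricForm f₂)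
    (hT : Cfsg.Geo.IsTensorFormStructure id (Cfsg.sympForm m F) f₁ f₂ e P)
    (hInT : ∀ (Q : QuadraticForm F (Fin n → F)) (X : Subgroup (((Fin n → F) × (Fin n → F)) ≃ₗ[F] ((Fin n → F) × (Fin n → F)))),
      (∀ x y, pS Q x y = f₂ x y) → Over Q X → ¬ Done Q X → ∀ g ∈ X, InT g) :
    Cfsg.Geo.IsMaximalIn (Cfsg.spGL m F) (Cfsg.Geo.tensorProductSubgroup 2 n e P ⊓ Cfsg.spGL m F) := by
  classical
  have h2 : (2 : F) ≠ 0 := Ring.two_ne_zero fun h => by
    have h' := FiniteField.even_card_of_char_two h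
    obtain ⟨r, hr⟩ := hodd
    omega
  -- the quadratic form
  let bS : LinearMap.BilinForm F (Fin n → F) := LinearMap.mk₂ F f₂ hf₂.bilinear.add_left
    (fun c x y => hf₂.bilinear.smul_left c x y) hf₂.bilinear.add_right (fun c x y => hf₂.bilinear.smul_right c x y)
  set Q : QuadraticForm F (Fin n → F) := ((2 : F)⁻¹ • bS).toQuadraticMap with hQ
  have hpol : ∀ x y, pS Q x y = f₂ x y := fun x y => by
    rw [pS_apply, hQ, polar, LinearMap.BilinMap.toQuadraticMap_apply, LinearMap.BilinMap.toQuadraticMap_apply,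
      LinearMap.BilinMap.toQuadraticMap_apply]
    have h21 : (2 : F)⁻¹ * 2 = 1 := inv_mul_cancel₀ h2
    simp only [map_add, LinearMap.add_apply, LinearMap.smul_apply, smul_eq_mul]
    show 2⁻¹ * f₂ x x + 2⁻¹ * f₂ y x + (2⁻¹ * f₂ x y + 2⁻¹ * f₂ y y) - 2⁻¹ * f₂ x x - 2⁻¹ * f₂ y y = f₂ x y
    rw [hf₂.symm y x]
    linear_combination f₂ x y * h21
  have hnd : (polarBilin Q).Nondegenerate := by
    constructor
    · intro v hv
      by_contra hne
      obtain ⟨x, hx⟩ := (hf₂.nondegenerate v hne).2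
      exact hx ((hpol v x).symm.trans (hv x))
    · intro v hv
      by_contra hne
      obtain ⟨x, hx⟩ := (hf₂.nondegenerate v hne).1
      exact hx ((hpol x v).symm.trans (hv x))
  set L := pairFrame e P with hL
  obtain ⟨c, hc, hform⟩ := NotMax.form_pureT id (fun _ _ => rfl) hT
    (NotMax.formOfGram_bilinear id hf₁.bilinear.add_left hf₁.bilinear.smul_left hf₁.bilinear.add_right
      fun c v x => hf₁.bilinear.smul_right c v x)
    (NotMax.formOfGram_bilinear id hf₂.bilinear.add_left hf₂.bilinear.smul_left hf₂.bilinear.add_right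
      fun c v x => hf₂.bilinear.smul_right c v x)
  set e0 : Fin 2 → F := ![1, 0]
  set e1 : Fin 2 → F := ![0, 1]
  have hexp : ∀ x y : Fin 2 → F, f₁ x y = (x 0 * y 1 - x 1 * y 0) * f₁ e0 e1 := fun x y => by
    have hx : ∀ z : Fin 2 → F, z = z 0 • e0 + z 1 • e1 := fun z => by funext i; fin_cases i <;> simp [e0, e1]
    have hb := hf₁.bilinear
    conv_lhs => rw [hx x, hx y]
    simp only [hb.add_left, hb.add_right, hb.smul_left, hb.smul_right, hf₁.alternating, hf₁.skew e1 e0]
    ring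
  have hε : f₁ e0 e1 ≠ 0 := fun h0 => by
    obtain ⟨x, hx⟩ := (hf₁.nondegenerate e0 (fun h => by simpa [e0] using congrFun h 0)).2
    exact hx (by rw [hexp, h0, mul_zero])
  set κ := c * f₁ e0 e1 with hκ
  have hκ0 : κ ≠ 0 := mul_ne_zero hc hε
  have hfL : ∀ u v, sympB m F (L u) (L v) = κ * fW Q u v := fun u v => by
    rw [hL, pairFrame_eq, pairFrame_eq, map_add, map_add, LinearMap.add_apply, LinearMap.add_apply]
    simp only [sympB_apply, hform, hf₁.alternating, hf₁.skew ![0, 1] ![1, 0], fW_apply, hpol, hκ, e0, e1]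
    ring
  set hA := sympB_isAlt (F := F) (m := m)
  set φ : (((Fin n → F) × (Fin n → F)) ≃ₗ[F] ((Fin n → F) × (Fin n → F))) →*
      ((Fin m ⊕ Fin m → F) ≃ₗ[F] (Fin m ⊕ Fin m → F)) :=
    MonoidHom.mk' (fun g => L.symm.trans (g.trans L)) (fun g h => LinearEquiv.ext fun x => by simp) with hφ
  have hφL : ∀ g u, φ g (L u) = L (g u) := fun g u => by simp [hφ]
  have hφiso : ∀ g, (∀ u v, fW Q (g u) (g v) = fW Q u v) → φ g ∈ Alt.isoGroup (sympB m F) := fun g hg x y => by
    obtain ⟨u, rfl⟩ := L.surjective x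
    obtain ⟨v, rfl⟩ := L.surjective y
    rw [hφL, hφL, hfL, hfL, hg]
  have hmem : ∀ (g : ((Fin n → F) × (Fin n → F)) ≃ₗ[F] ((Fin n → F) × (Fin n → F))) (α β γ δ : F)
      (T : (Fin n → F) →ₗ[F] (Fin n → F)),
      (∀ a b, g (a, b) = (α • T a + β • T b, γ • T a + δ • T b)) →
      (glEquiv (Fin m ⊕ Fin m) F).symm (φ g) ∈ Cfsg.Geo.tensorProductSubgroup 2 n e P := by
    intro g α β γ δ T hg
    have hTi : Function.Injective T := (injective_iff_map_eq_zero T).2 fun x hx => by
      have := g.injective (show g (x, 0) = g 0 by rw [hg, hx, map_zero g]; simp)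
      simpa using this
    have hd : α * δ - β * γ ≠ 0 := fun h0 => by
      have hz : ∀ p q : F, p * α + q * γ = 0 → p * β + q * δ = 0 → p = 0 ∧ q = 0 := fun p q h1 h2 => by
        have key : ∀ u : (Fin n → F) × (Fin n → F), p • u.1 + q • u.2 = 0 := fun u => by
          obtain ⟨⟨a, b⟩, rfl⟩ := g.surjective u
          rw [hg]
          rw [show p • (α • T a + β • T b) + q • (γ • T a + δ • T b) =
            (p * α + q * γ) • T a + (p * β + q * δ) • T b by module, h1, h2, zero_smul, zero_smul, add_zero]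
        have k1 := congrFun (key (Pi.single ⟨0, by omega⟩ 1, 0)) ⟨0, by omega⟩
        have k2 := congrFun (key (0, Pi.single ⟨0, by omega⟩ 1)) ⟨0, by omega⟩
        simp at k1 k2
        exact ⟨k1, k2⟩
      obtain ⟨hδ, hβ⟩ := hz δ (-β) (by linear_combination h0) (by ring)
      obtain ⟨hγ, hα⟩ := hz γ (-α) (by ring) (by linear_combination -h0)
      have := g.injective (show g (Pi.single ⟨0, by omega⟩ 1, 0) = g 0 by
        rw [hg, neg_eq_zero.1 hα, hγ, map_zero g]; simp)
      simp at this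
    let A : GL (Fin 2) F := Matrix.GeneralLinearGroup.mkOfDetNeZero !![α, β; γ, δ]
      (by rw [Matrix.det_fin_two]; simpa using hd)
    let B : GL (Fin n) F := (glEquiv (Fin n) F).symm (LinearEquiv.ofInjectiveEndo T hTi)
    refine mem_tensor_of e P _ A B fun y₁ y₂ => ?_
    rw [symm_mulVec, ← hL, hφL, hg]
    simp only [B, symm_mulVec]
    rfl
  refine isMaximalIn_spGL _ ?_ fun M hM ⟨g, hgM, hgi, hgK⟩ => ?_
  · -- some transvection is outside
    obtain ⟨b, hb, hQb⟩ : ∃ b : Fin n → F, b ≠ 0 ∧ Q b = 0 := by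
      have hO : Over Q ((⊤ : Subgroup _) ⊓ Alt.isoGroup (fW Q)) := by
        refine ⟨h2, hnd, by rw [Module.finrank_fintype_fun_eq_card, Fintype.card_fin]; exact hn, fun a b c ha hb => ?_,
          fun g hg => hg.2, fun α β γ δ h => ⟨trivial, fun x y => ?_⟩, fun k hk => ⟨trivial, rt_iso hk⟩⟩
        · rcases eq_or_ne c 0 with rfl | hc
          · exact ⟨0, 0, by simp⟩
          obtain ⟨x, y, hxy⟩ := Quad.exists_binary_one h2 (div_ne_zero ha hc) (div_ne_zero hb hc)
          exact ⟨x, y, by field_simp at hxy; linear_combination hxy⟩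
        · simp only [sl_apply, fW_apply, map_add, map_smul, LinearMap.add_apply, LinearMap.smul_apply, smul_eq_mul]
          linear_combination (pS Q x.1 y.2 - pS Q x.2 y.1) * h
      obtain ⟨b, -, hb, hQb⟩ := hO.exists_singular ⊤ (by
        rw [finrank_top, Module.finrank_fintype_fun_eq_card, Fintype.card_fin]; exact hn)
      exact ⟨b, hb, hQb⟩
    obtain ⟨x, -, hbx⟩ := Quad.exists_perp hnd (S := ⊥) (x := b) (by simpa using hb)
    have hbx' : pS Q b x = 1 := hbx
    refine ⟨L (0, b), 1, fun hm => ?_⟩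
    obtain ⟨A, B, hAB⟩ := NotMax.exists_pair e P hm
    have h1 := hAB e0 x
    rw [symm_mulVec, ← pairFrame_pure, ← pairFrame_pure, ← hL, Alt.tv_apply, hfL, ← map_smul, ← map_add,
      L.injective.eq_iff, fW_apply, hpol, hpol] at h1
    have hxb : f₂ x b = 1 := by rw [hf₂.symm, ← hpol, hbx']
    set z := (B : Matrix (Fin n) (Fin n) F).mulVec x
    set a' := (A : Matrix (Fin 2) (Fin 2) F).mulVec e0
    have h00 : f₂ 0 0 = 0 := by rw [← hpol]; simp
    simp only [hxb, h00, e0, Matrix.cons_val_zero, Matrix.cons_val_one, Matrix.head_cons, one_smul, zero_smul, map_zero,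
      LinearMap.zero_apply, sub_zero, Prod.smul_mk, smul_zero, Prod.mk_add_mk, add_zero, zero_add, one_mul, mul_one,
      Prod.mk.injEq] at h1
    obtain ⟨k1, k2⟩ := h1
    rw [k1] at hbx'
    have hk := congrArg (pS Q b) k2
    rw [map_smul, map_smul, pS_self, hQb, mul_zero, smul_zero, smul_eq_mul, eq_comm, mul_eq_zero] at hk
    rw [map_smul, smul_eq_mul] at hbx'
    rcases hk with h | h
    · rw [h, zero_smul, smul_eq_zero] at k2
      exact k2.elim hκ0 hb
    · rw [h, mul_zero] at hbx'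
      exact zero_ne_one hbx'
  · -- every transvection is in a larger group
    set X := (M ⊓ Alt.isoGroup (sympB m F)).comap φ with hX
    have hO : Over Q X := by
      refine ⟨h2, hnd, by rw [Module.finrank_fintype_fun_eq_card, Fintype.card_fin]; exact hn, fun a b c ha hb => ?_,
        fun g hg u v => ?_, fun α β γ δ h => ?_, fun k hk => ?_⟩
      · rcases eq_or_ne c 0 with rfl | hc
        · exact ⟨0, 0, by simp⟩
        obtain ⟨x, y, hxy⟩ := Quad.exists_binary_one h2 (div_ne_zero ha hc) (div_ne_zero hb hc)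
        exact ⟨x, y, by field_simp at hxy; linear_combination hxy⟩
      · have := hg.2 (L u) (L v)
        rw [hφL, hφL, hfL, hfL] at this
        exact mul_left_cancel₀ hκ0 this
      · have hi : φ (sl α β γ δ h) ∈ Alt.isoGroup (sympB m F) := hφiso _ fun x y => by
          simp only [sl_apply, fW_apply, map_add, map_smul, LinearMap.add_apply, LinearMap.smul_apply, smul_eq_mul]
          linear_combination (pS Q x.1 y.2 - pS Q x.2 y.1) * h
        exact ⟨hM _ hi (hmem _ α β γ δ LinearMap.id fun a b => rfl), hi⟩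
      · have hi : φ (rt k) ∈ Alt.isoGroup (sympB m F) := hφiso _ (rt_iso hk)
        exact ⟨hM _ hi (hmem _ 1 0 0 1 k.toLinearMap fun a b => by rw [rt_apply]; simp), hi⟩
    by_cases hD : Done Q X
    · intro v c'
      obtain ⟨u, rfl⟩ := L.surjective v
      have := (hD u (c' * κ)).1
      rwa [show φ (Alt.tv fW_alt u (c' * κ)) = Alt.tv hA (L u) c' from LinearEquiv.ext fun x => by
        obtain ⟨w, rfl⟩ := L.surjective x
        rw [hφL, Alt.tv_apply, Alt.tv_apply, hfL, map_add, map_smul, mul_assoc]] at this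
    · exfalso
      set g' := L.trans (g.trans L.symm)
      have hg' : φ g' = g := LinearEquiv.ext fun x => by simp [hφ, g']
      obtain ⟨α, β, γ, δ, T, hT'⟩ := hInT Q X hpol hO hD g' (show φ g' ∈ M ⊓ Alt.isoGroup (sympB m F) from
        hg'.symm ▸ ⟨hgM, hgi⟩)
      exact hgK (hg' ▸ hmem g' α β γ δ T hT')

/-- the stabiliser of a decomposition `Sp₂ ⊗ O` with second factor of dimension at least five is maximal -/
theorem isMaximal_tensor (hn : 5 ≤ n) (hodd : Odd (Fintype.card F)) (e : (Fin m ⊕ Fin m) ≃ Fin 2 × Fin n)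
    (P : GL (Fin m ⊕ Fin m) F) (f₁ : (Fin 2 → F) → (Fin 2 → F) → F) (f₂ : (Fin n → F) → (Fin n → F) → F)
    (hf₁ : Cfsg.Geo.IsSymplecticForm f₁) (hf₂ : Cfsg.Geo.IsSymmetricForm f₂)
    (hT : Cfsg.Geo.IsTensorFormStructure id (Cfsg.sympForm m F) f₁ f₂ e P) :
    Cfsg.Geo.IsMaximalIn (Cfsg.spGL m F) (Cfsg.Geo.tensorProductSubgroup 2 n e P ⊓ Cfsg.spGL m F) :=
  isMaximal_of_inT (by omega) hodd e P f₁ f₂ hf₁ hf₂ hT fun _ _ _ hO hD _ hg =>
    hO.inT (by rw [Module.finrank_fintype_fun_eq_card, Fintype.card_fin]; exact hn) hD hg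

end Cfsg.Agent.ClassicalMax.SpTwo
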