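import Cfsg.Agent.ClassicalMax.Symplectic
import Cfsg.Agent.Classical.QuadForm

/-!
Overgroups of `Sp₂ ⊗ O(Q)` in the symplectic group of `W × W`: the set-up, and the step from one non-scalar element of
the radical of the stabiliser of `W × 0` to all transvections.
-/

set_option autoImplicit false
set_option linter.unusedSectionVars false

namespace Cfsg.Agent.ClassicalMax.SpTwo

open Module QuadraticMap Cfsg.Agent.Classical Cfsg.Agent.ClassicalMax

variable {F W : Type*} [Field F] [AddCommGroup W] [Module F W] {Q : QuadraticForm F W}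

/-- the polar form -/
noncomputable def pS (Q : QuadraticForm F W) : W →ₗ[F] W →ₗ[F] F := polarBilin Q

theorem pS_apply (x y : W) : pS Q x y = polar Q x y := rfl

theorem pS_symm (x y : W) : pS Q x y = pS Q y x := polar_comm _ x y

theorem pS_self (x : W) : pS Q x x = 2 * Q x := Quad.polar_self' x

theorem q_add (x y : W) : Q (x + y) = Q x + Q y + pS Q x y := Quad.map_add' x y

theorem q_smul (a : F) (x : W) : Q (a • x) = a * a * Q x := Quad.map_smul' a x

/-- the alternating form on two copies of `W` -/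
noncomputable def fW (Q : QuadraticForm F W) : LinearMap.BilinForm F (W × W) :=
  LinearMap.mk₂ F (fun x y => pS Q x.1 y.2 - pS Q x.2 y.1)
    (fun x x' y => by simp only [Prod.fst_add, Prod.snd_add, map_add, LinearMap.add_apply]; ring)
    (fun c x y => by simp only [Prod.smul_fst, Prod.smul_snd, map_smul, LinearMap.smul_apply, smul_eq_mul]; ring)
    (fun x y y' => by simp only [Prod.fst_add, Prod.snd_add, map_add]; ring)
    (fun c x y => by simp only [Prod.smul_fst, Prod.smul_snd, map_smul, smul_eq_mul]; ring)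

theorem fW_apply (x y : W × W) : fW Q x y = pS Q x.1 y.2 - pS Q x.2 y.1 := rfl

theorem fW_alt : (fW Q).IsAlt := fun x => by rw [fW_apply, pS_symm, sub_self]

/-- an element of the first factor -/
def sl (α β γ δ : F) (h : α * δ - β * γ = 1) : (W × W) ≃ₗ[F] (W × W) where
  toFun x := (α • x.1 + β • x.2, γ • x.1 + δ • x.2)
  map_add' x y := by ext <;> simp only [Prod.fst_add, Prod.snd_add, smul_add] <;> abel
  map_smul' c x := by
    ext <;> simp only [Prod.smul_fst, Prod.smul_snd, smul_add, smul_comm c, RingHom.id_apply]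
  invFun x := (δ • x.1 + (-β) • x.2, (-γ) • x.1 + α • x.2)
  left_inv x := by
    ext <;> simp only [] <;> match_scalars <;> first | ring1 | linear_combination h | linear_combination -h
  right_inv x := by
    ext <;> simp only [] <;> match_scalars <;> first | ring1 | linear_combination h | linear_combination -h

theorem sl_apply {α β γ δ : F} (h : α * δ - β * γ = 1) (x : W × W) :
    sl α β γ δ h x = (α • x.1 + β • x.2, γ • x.1 + δ • x.2) := rfl

/-- an element of the second factor -/
def rt (k : W ≃ₗ[F] W) : (W × W) ≃ₗ[F] (W × W) := k.prodCongr k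

theorem rt_apply (k : W ≃ₗ[F] W) (x : W × W) : rt k x = (k x.1, k x.2) := rfl

theorem rt_iso {k : W ≃ₗ[F] W} (hk : k ∈ Quad.oG Q) (x y : W × W) : fW Q (rt k x) (rt k y) = fW Q x y := by
  simp only [fW_apply, rt_apply, pS_apply, Quad.polar_eq_of_mem hk]

/-- the map preserves the decomposition -/
def InT (g : (W × W) ≃ₗ[F] (W × W)) : Prop :=
  ∃ (α β γ δ : F) (T : W →ₗ[F] W), ∀ a b : W, g (a, b) = (α • T a + β • T b, γ • T a + δ • T b)

/-- the standing hypotheses -/
structure Over (Q : QuadraticForm F W) (X : Subgroup ((W × W) ≃ₗ[F] (W × W))) : Prop where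
  two : (2 : F) ≠ 0
  nd : (polarBilin Q).Nondegenerate
  dim : 3 ≤ finrank F W
  val : ∀ a b c : F, a ≠ 0 → b ≠ 0 → ∃ x y : F, a * x ^ 2 + b * y ^ 2 = c
  iso : ∀ g ∈ X, g ∈ Alt.isoGroup (fW Q)
  sl_mem : ∀ (α β γ δ : F) (h : α * δ - β * γ = 1), sl α β γ δ h ∈ X
  rt_mem : ∀ k ∈ Quad.oG Q, rt k ∈ X

/-- every transvection is in `X` -/
def Done (Q : QuadraticForm F W) (X : Subgroup ((W × W) ≃ₗ[F] (W × W))) : Prop :=
  ∀ v : W × W, v ∈ centres (fW_alt (Q := Q)) X

variable {X : Subgroup ((W × W) ≃ₗ[F] (W × W))} [FiniteDimensional F W]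

namespace Over

theorem perp_self_zero (hO : Over Q X) {x : W} (h : ∀ y, pS Q x y = 0) : x = 0 := hO.nd.1 x h

theorem finrank_inf_ker (U : Submodule F W) (f : W →ₗ[F] F) :
    finrank F U ≤ finrank F ↥(U ⊓ LinearMap.ker f) + 1 := by
  have h1 := (f.comp U.subtype).finrank_range_add_finrank_ker
  have h2 : finrank F (LinearMap.range (f.comp U.subtype)) ≤ 1 :=
    (Submodule.finrank_le _).trans (le_of_eq (Module.finrank_self F))
  have h3 : finrank F (LinearMap.ker (f.comp U.subtype)) = finrank F ↥(U ⊓ LinearMap.ker f) := by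
    rw [LinearMap.ker_comp, ← Submodule.finrank_map_subtype_eq U, Submodule.map_comap_subtype]
  omega

/-- a subspace of dimension three has a singular vector -/
theorem exists_singular (hO : Over Q X) (U : Submodule F W) (hU : 3 ≤ finrank F U) :
    ∃ s ∈ U, s ≠ 0 ∧ Q s = 0 := by
  have ne : ∀ Z : Submodule F W, 1 ≤ finrank F Z → ∃ z ∈ Z, z ≠ 0 := fun Z hZ =>
    Z.exists_mem_ne_zero_of_ne_bot fun h => by rw [h, finrank_bot] at hZ; omega
  obtain ⟨a, ha, ha0⟩ := ne U (by omega)
  by_cases hQa : Q a = 0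
  · exact ⟨a, ha, ha0, hQa⟩
  have h1 := finrank_inf_ker U (pS Q a)
  obtain ⟨b, hb, hb0⟩ := ne (U ⊓ LinearMap.ker (pS Q a)) (by omega)
  by_cases hQb : Q b = 0
  · exact ⟨b, hb.1, hb0, hQb⟩
  have h2 := finrank_inf_ker (U ⊓ LinearMap.ker (pS Q a)) (pS Q b)
  obtain ⟨c, hc, hc0⟩ := ne (U ⊓ LinearMap.ker (pS Q a) ⊓ LinearMap.ker (pS Q b)) (by omega)
  by_cases hQc : Q c = 0
  · exact ⟨c, hc.1.1, hc0, hQc⟩
  obtain ⟨x, y, hxy⟩ := hO.val _ _ (-Q c) hQa hQb
  have hab : pS Q a b = 0 := hb.2
  have hbc : pS Q b c = 0 := hc.2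
  have hac : pS Q a c = 0 := hc.1.2
  refine ⟨x • a + y • b + c, U.add_mem (U.add_mem (U.smul_mem _ ha) (U.smul_mem _ hb.1)) hc.1.1, fun h => hQc ?_, ?_⟩
  · have := congrArg (fun u => pS Q u c) h
    simp only [map_add, LinearMap.add_apply, map_smul, LinearMap.smul_apply, hbc, hac, smul_eq_mul, mul_zero, zero_add,
      map_zero, LinearMap.zero_apply, pS_self] at this
    exact (mul_eq_zero.1 this).resolve_left hO.two
  · rw [q_add, q_add, q_smul, q_smul]
    simp only [map_add, LinearMap.add_apply, map_smul, LinearMap.smul_apply, hab, hbc, hac, smul_eq_mul, mul_zero, add_zero]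
    linear_combination hxy

/-- a singular vector has a singular partner -/
theorem exists_partner (hO : Over Q X) {s : W} (hs : s ≠ 0) (hQs : Q s = 0) :
    ∃ t, pS Q s t = 1 ∧ Q t = 0 := by
  obtain ⟨w, -, hw⟩ := Quad.exists_perp hO.nd (S := ⊥) (x := s) (by simpa using hs)
  have hw' : pS Q s w = 1 := hw
  refine ⟨w + (-Q w) • s, by rw [map_add, map_smul, pS_self, hQs, mul_zero, smul_zero, add_zero, hw'], ?_⟩
  rw [q_add, q_smul, hQs, map_smul, pS_symm, hw', smul_eq_mul]
  ring

/-- transitivity on vectors of equal value -/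
theorem exists_map (hO : Over Q X) {x y : W} (hx : x ≠ 0) (hy : y ≠ 0) (h : Q x = Q y) :
    ∃ k ∈ Quad.oG Q, k x = y := by
  obtain ⟨k, hk, hkx⟩ := Quad.witt_family hO.nd 1 ![x] ![y] (LinearIndependent.of_subsingleton 0 hx)
    (LinearIndependent.of_subsingleton 0 hy) (fun i => by fin_cases i; simp [h])
    (fun i j => by fin_cases i; fin_cases j; simp [Quad.polar_self', h])
  exact ⟨k, hk, hkx 0⟩

/-- transitivity on the pairs of equal values -/
theorem exists_map₂ (hO : Over Q X) {a b a' b' : W} (hab : LinearIndependent F ![a, b])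
    (hab' : LinearIndependent F ![a', b']) (ha : Q a = Q a') (hb : Q b = Q b') (h : pS Q a b = pS Q a' b') :
    ∃ k ∈ Quad.oG Q, k a = a' ∧ k b = b' := by
  obtain ⟨k, hk, hkx⟩ := Quad.witt_family hO.nd 2 ![a, b] ![a', b'] hab hab'
    (fun i => by fin_cases i <;> simp [ha, hb])
    (fun i j => by
      show pS Q (![a, b] i) (![a, b] j) = pS Q (![a', b'] i) (![a', b'] j)
      fin_cases i <;> fin_cases j <;> simp [pS_self, ha, hb, h, pS_symm b a, pS_symm b' a'])
  exact ⟨k, hk, hkx 0, hkx 1⟩

/-- an anisotropic vector and one orthogonal to it are independent -/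
theorem indep_of_perp (hO : Over Q X) {a d : W} (ha : Q a ≠ 0) (hd : d ≠ 0) (had : pS Q a d = 0) :
    LinearIndependent F ![a, d] := by
  refine LinearIndependent.pair_iff.2 fun s t e => ?_
  have h1 := congrArg (pS Q a) e
  rw [map_add, map_smul, map_smul, pS_self, had, smul_zero, add_zero, map_zero, smul_eq_mul, mul_eq_zero] at h1
  have hs : s = 0 := h1.resolve_right (mul_ne_zero hO.two ha)
  rw [hs, zero_smul, zero_add, smul_eq_zero] at e
  exact ⟨hs, e.resolve_right hd⟩

/-- a property passed between anisotropic vectors with an anisotropic sum or difference holds for all of them -/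
theorem aniso_conn (hO : Over Q X) (P : W → Prop)
    (hP : ∀ a a' : W, Q a ≠ 0 → Q a' ≠ 0 → (Q (a + a') ≠ 0 ∨ Q (a - a') ≠ 0) → P a → P a')
    {a a' : W} (ha : Q a ≠ 0) (ha' : Q a' ≠ 0) (h : P a) : P a' := by
  by_cases h1 : Q (a + a') ≠ 0 ∨ Q (a - a') ≠ 0
  · exact hP a a' ha ha' h1 h
  push Not at h1
  obtain ⟨h1, h2⟩ := h1
  rw [q_add] at h1
  rw [sub_eq_add_neg, q_add, QuadraticMap.map_neg, map_neg] at h2
  have hpair : pS Q a a' = 0 :=
    (mul_eq_zero.1 (show (2 : F) * pS Q a a' = 0 by linear_combination h1 - h2)).resolve_left hO.two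
  have hneg : Q a' = -Q a := by linear_combination h1 - hpair
  obtain ⟨c, hc, hc0⟩ : ∃ c ∈ LinearMap.ker (pS Q a) ⊓ LinearMap.ker (pS Q a'), c ≠ 0 := by
    refine Submodule.exists_mem_ne_zero_of_ne_bot fun h0 => ?_
    have e1 := finrank_inf_ker (⊤ : Submodule F W) (pS Q a)
    have e2 := finrank_inf_ker (⊤ ⊓ LinearMap.ker (pS Q a)) (pS Q a')
    rw [top_inf_eq] at e1 e2
    rw [h0, finrank_bot] at e2
    rw [finrank_top] at e1
    have := hO.dim
    omega
  have hca : pS Q a c = 0 := hc.1
  have hca' : pS Q a' c = 0 := hc.2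
  obtain ⟨e, hea, hea', hQe⟩ : ∃ e, pS Q a e = 0 ∧ pS Q a' e = 0 ∧ Q e ≠ 0 := by
    by_cases hQc : Q c = 0
    swap
    · exact ⟨c, hca, hca', hQc⟩
    have hns : c ∉ Submodule.span F ({a, a'} : Set W) := fun hm => by
      obtain ⟨s, t, hst⟩ := Submodule.mem_span_pair.1 hm
      have e1 := congrArg (pS Q a) hst
      have e2 := congrArg (pS Q a') hst
      rw [map_add, map_smul, map_smul, pS_self, hpair, hca, smul_zero, add_zero, smul_eq_mul, mul_eq_zero] at e1
      rw [map_add, map_smul, map_smul, pS_symm a' a, hpair, pS_self, hca', smul_zero, zero_add, smul_eq_mul,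
        mul_eq_zero] at e2
      exact hc0 (by rw [← hst, e1.resolve_right (mul_ne_zero hO.two ha), e2.resolve_right (mul_ne_zero hO.two ha'),
        zero_smul, zero_smul, add_zero])
    obtain ⟨w, hw, hcw⟩ := Quad.exists_perp hO.nd hns
    have hcw' : pS Q c w = 1 := hcw
    refine ⟨c + (-Q w + 1) • c + w, ?_, ?_, ?_⟩
    · rw [map_add, map_add, map_smul, hca, show pS Q a w = 0 from hw a (Submodule.subset_span (by simp)), smul_zero,
        add_zero, add_zero]
    · rw [map_add, map_add, map_smul, hca', show pS Q a' w = 0 from hw a' (Submodule.subset_span (by simp)), smul_zero,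
        add_zero, add_zero]
    · rw [q_add, q_add, q_smul]
      simp only [map_add, LinearMap.add_apply, map_smul, LinearMap.smul_apply, pS_self, hQc, hcw', smul_eq_mul,
        mul_zero, add_zero, zero_add]
      intro e0
      exact hO.two (by linear_combination e0)
  by_cases h3 : Q a + Q e = 0
  · have hm : Q (a' + e) ≠ 0 := by
      rw [q_add, hea', add_zero]
      intro e0
      exact mul_ne_zero hO.two ha (by linear_combination hneg + h3 - e0)
    refine hP (a' + e) a' hm ha' (Or.inr (by rwa [add_sub_cancel_left])) (hP a (a' + e) ha hm (Or.inl ?_) h)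
    rw [q_add, q_add, map_add, hpair, hea, hea', add_zero, add_zero, add_zero]
    intro e0
    exact ha (by linear_combination hneg + h3 - e0)
  · have hm : Q (a + e) ≠ 0 := by rwa [q_add, hea, add_zero]
    refine hP (a + e) a' hm ha' (Or.inl ?_) (hP a (a + e) ha hm (Or.inr (by rwa [sub_add_cancel_left, QuadraticMap.map_neg])) h)
    rw [q_add, q_add, hea, map_add, LinearMap.add_apply, hpair, pS_symm e a', hea', hneg]
    intro e0
    exact hQe (by linear_combination e0)

end Over

end Cfsg.Agent.ClassicalMax.SpTwo
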