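import Cfsg.Agent.ClassicalMax.SpTwo.Plane

/-!
Overgroups of `Sp₂ ⊗ O(Q)` in dimension at least five: the image of an anisotropic plane is a pure plane or a twisted
one; the twisted ones are excluded unless every transvection is present.
-/

set_option autoImplicit false
set_option linter.unusedSectionVars false

namespace Cfsg.Agent.ClassicalMax.SpTwo

open Module QuadraticMap Cfsg.Agent.Classical Cfsg.Agent.ClassicalMax

variable {F W : Type*} [Field F] [AddCommGroup W] [Module F W] [FiniteDimensional F W] {Q : QuadraticForm F W}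
  {X : Subgroup ((W × W) ≃ₗ[F] (W × W))}

/-- the diagonal block of the reflection in a twisted plane -/
noncomputable def spA (Q : QuadraticForm F W) (a b : W) (ν : F) : W →ₗ[F] W :=
  LinearMap.id - (ν * Q a - Q b)⁻¹ • (ν • (pS Q a).smulRight a - (pS Q b).smulRight b)

/-- the off-diagonal block of the reflection in a twisted plane -/
noncomputable def spR (Q : QuadraticForm F W) (a b : W) (ν : F) : W →ₗ[F] W :=
  (ν * Q a - Q b)⁻¹ • ((pS Q b).smulRight a - (pS Q a).smulRight b)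

theorem spA_apply (a b : W) (ν : F) (x : W) :
    spA Q a b ν x = x - (ν * Q a - Q b)⁻¹ • (ν • pS Q a x • a - pS Q b x • b) := rfl

theorem spR_apply (a b : W) (ν : F) (x : W) :
    spR Q a b ν x = (ν * Q a - Q b)⁻¹ • (pS Q b x • a - pS Q a x • b) := rfl

/-- the reflection in a twisted plane is in the group -/
def InS (Q : QuadraticForm F W) (X : Subgroup ((W × W) ≃ₗ[F] (W × W))) (a b : W) (ν : F) : Prop :=
  ∃ s ∈ X, ∀ x : W × W, s x = (spA Q a b ν x.1 + spR Q a b ν x.2, ν • spR Q a b ν x.1 + spA Q a b ν x.2)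

/-- room for the arguments: four dimensions, and an anisotropic vector orthogonal to any two -/
structure Roomy (Q : QuadraticForm F W) : Prop where
  dim : 4 ≤ finrank F W
  aniso : ∀ a b : W, ∃ h, pS Q a h = 0 ∧ pS Q b h = 0 ∧ Q h ≠ 0

namespace Over

/-- the elements orthogonal to a subspace and all singular lie in it -/
theorem mem_of_perp_singular (hO : Over Q X) {S : Submodule F W}
    (hall : ∀ z, (∀ s ∈ S, pS Q s z = 0) → Q z = 0) {z : W} (hz : ∀ s ∈ S, pS Q s z = 0) : z ∈ S := by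
  by_contra hzS
  obtain ⟨w, hw, hzw⟩ := Quad.exists_perp hO.nd hzS
  have hzw' : pS Q z w = 1 := hzw
  have hw' : ∀ s ∈ S, pS Q s w = 0 := hw
  have h := hall (z + w) fun s hs => by rw [map_add, hz s hs, hw' s hs, add_zero]
  rw [q_add, hall z hz, hall w hw', hzw', zero_add, zero_add] at h
  exact one_ne_zero h

/-- an anisotropic vector orthogonal to two given ones -/
theorem exists_aniso_perp (hO : Over Q X) (h5 : 5 ≤ finrank F W) (a b : W) :
    ∃ h, pS Q a h = 0 ∧ pS Q b h = 0 ∧ Q h ≠ 0 := by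
  by_contra! hall
  have := Quad.two_mul_finrank_le hO.nd (W := LinearMap.ker (pS Q a) ⊓ LinearMap.ker (pS Q b))
    fun w hw => hall w hw.1 hw.2
  have e1 := finrank_inf_ker (⊤ : Submodule F W) (pS Q a)
  have e2 := finrank_inf_ker (⊤ ⊓ LinearMap.ker (pS Q a)) (pS Q b)
  rw [top_inf_eq] at e1 e2
  rw [finrank_top] at e1
  omega

theorem roomy_of_five (hO : Over Q X) (h5 : 5 ≤ finrank F W) : Roomy Q :=
  ⟨by omega, hO.exists_aniso_perp h5⟩

/-- what is orthogonal to all anisotropic vectors orthogonal to `l₁` and `l₂` is a combination of them -/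
theorem mem_pair_of_aniso (hO : Over Q X) (hR : Roomy Q) {l₁ l₂ v : W}
    (h : ∀ x, Q x ≠ 0 → pS Q l₁ x = 0 → pS Q l₂ x = 0 → pS Q v x = 0) :
    v ∈ Submodule.span F ({l₁, l₂} : Set W) := by
  by_contra hv
  obtain ⟨w, hw, hvw⟩ := Quad.exists_perp hO.nd hv
  have hvw' : pS Q v w = 1 := hvw
  have hw1 : pS Q l₁ w = 0 := hw l₁ (Submodule.subset_span (by simp))
  have hw2 : pS Q l₂ w = 0 := hw l₂ (Submodule.subset_span (by simp))
  by_cases hQw : Q w = 0
  swap
  · exact one_ne_zero (hvw'.symm.trans (h w hQw hw1 hw2))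
  obtain ⟨z, hz1, hz2, hQz⟩ := hR.aniso l₁ l₂
  have hvz := h z hQz hz1 hz2
  have e : ∀ t : F, Q (w + t • z) ≠ 0 → False := fun t ht => by
    have := h (w + t • z) ht (by rw [map_add, map_smul, hw1, hz1, smul_zero, add_zero])
      (by rw [map_add, map_smul, hw2, hz2, smul_zero, add_zero])
    rw [map_add, map_smul, hvw', hvz, smul_zero, add_zero] at this
    exact one_ne_zero this
  by_cases h1 : Q (w + (1 : F) • z) = 0
  swap
  · exact e 1 h1
  refine e (-1) fun h2 => hQz ?_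
  rw [q_add, q_smul, map_smul, hQw, smul_eq_mul] at h1 h2
  exact (mul_eq_zero.1 (show (2 : F) * Q z = 0 by linear_combination h1 + h2)).resolve_left hO.two

/-- normal form of an element whose image of the plane over `c` has no pure vector -/
theorem twist (hO : Over Q X) {g : (W × W) ≃ₗ[F] (W × W)} (hg : g ∈ X) {c : W} (hc : Q c ≠ 0)
    (hli : LinearIndependent F ![(g (c, 0)).1, (g (0, c)).1]) {p r' q s' : F}
    (hb1e : p • (g (c, 0)).1 + r' • (g (0, c)).1 = (g (c, 0)).2)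
    (hb2e : q • (g (c, 0)).1 + s' • (g (0, c)).1 = (g (0, c)).2)
    (hdet : ∀ t : F, (p - t) * (s' - t) - q * r' ≠ 0) :
    ∃ (a b : W) (ν : F), LinearIndependent F ![a, b] ∧ ν * Q a - Q b ≠ 0 ∧ (∀ t : F, t ^ 2 ≠ ν) ∧ InS Q X a b ν ∧
        (g (c, 0)).1 ∈ Submodule.span F ({a, b} : Set W) ∧ (g (c, 0)).2 ∈ Submodule.span F ({a, b} : Set W) ∧
        (g (0, c)).1 ∈ Submodule.span F ({a, b} : Set W) ∧ (g (0, c)).2 ∈ Submodule.span F ({a, b} : Set W) ∧
        a ∈ Submodule.span F ({(g (c, 0)).1, (g (0, c)).1} : Set W) ∧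
        b ∈ Submodule.span F ({(g (c, 0)).1, (g (0, c)).1} : Set W) := by
  have two := hO.two
  set r := Quad.refl hc with hr
  set k₁ := g (c, 0) with hk₁
  set k₂ := g (0, c) with hk₂
  have hk12 : fW Q k₁ k₂ = 2 * Q c := by
    rw [hk₁, hk₂, hO.iso g hg, fW_apply]; simp [pS_self]
  set s := g * rt r * g⁻¹
  have hsX : s ∈ X := mul_mem (mul_mem hg (hO.rt_mem r (Quad.refl_mem hc))) (inv_mem hg)
  have hs : ∀ x, s x = x - (Q c)⁻¹ • (fW Q x k₂ • k₁ - fW Q x k₁ • k₂) := fun x => by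
    obtain ⟨w, rfl⟩ := g.surjective x
    show g (rt r (g⁻¹ (g w))) = _
    have e : rt r w = w - (Q c)⁻¹ • (fW Q w (0, c) • ((c, 0) : W × W) - fW Q w (c, 0) • ((0, c) : W × W)) := by
      rw [rt_apply, hr, Quad.refl_apply, Quad.refl_apply, ← pS_apply, ← pS_apply]
      ext <;> simp [fW_apply, div_eq_inv_mul, smul_smul]
    rw [Alt.inv_apply_self, e, map_sub, map_smul, map_sub, map_smul, map_smul, hk₁, hk₂, hO.iso g hg, hO.iso g hg]
  set a₁ := k₁.1 with ha₁
  set b₁ := k₁.2 with hb₁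
  set a₂ := k₂.1 with ha₂
  set b₂ := k₂.2 with hb₂
  have hind : ∀ t₁ t₂ : F, t₁ • k₁ + t₂ • k₂ = 0 → t₁ = 0 ∧ t₂ = 0 := fun t₁ t₂ e => by
    have e1 := congrArg (fun z => fW Q z k₂) e
    have e2 := congrArg (fun z => fW Q k₁ z) e
    simp only [map_add, map_smul, LinearMap.add_apply, LinearMap.smul_apply, fW_alt k₁, fW_alt k₂, hk12, smul_eq_mul,
      mul_zero, add_zero, zero_add, map_zero, LinearMap.zero_apply] at e1 e2
    exact ⟨(mul_eq_zero.1 e1).resolve_right (mul_ne_zero two hc), (mul_eq_zero.1 e2).resolve_right (mul_ne_zero two hc)⟩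
  have hr' : r' ≠ 0 := fun h0 => hdet p (by rw [h0]; ring)
  set t := -(p + s') / 2 with ht
  set p' := (p - s') / 2 with hp'
  set a := a₁
  set b := b₁ + t • a₁ with hb
  have hbe : b = p' • a₁ + r' • a₂ := by
    rw [hb, ← hb1e, ht, hp']
    match_scalars <;> field_simp <;> ring
  set ν := p' ^ 2 + q * r' with hν
  have hb2' : b₂ + t • a₂ = q • a₁ - p' • a₂ := by
    rw [← hb2e, ht, hp']
    match_scalars <;> field_simp <;> ring
  have hli' : LinearIndependent F ![a, b] := LinearIndependent.pair_iff.2 fun x y e => by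
    obtain ⟨f1, f2⟩ := LinearIndependent.pair_iff.1 hli (x + y * p') (y * r') (by rw [← e, hbe]; module)
    have hy : y = 0 := (mul_eq_zero.1 f2).resolve_right hr'
    exact ⟨by linear_combination f1 - p' * hy, hy⟩
  set m := (sl 1 0 t 1 (by ring) : (W × W) ≃ₗ[F] (W × W)) with hm
  have hmX : m ∈ X := hO.sl_mem _ _ _ _ _
  set K₁ : W × W := (a, b) with hK₁
  set K₂ : W × W := (b, ν • a) with hK₂
  have hm1 : m k₁ = K₁ := by
    rw [hm, sl_apply, hK₁]
    ext <;> simp [hb, ha₁, hb₁, add_comm, a]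
  have hm2 : r' • m k₂ = K₂ - p' • K₁ := by
    rw [hm, sl_apply, hK₁, hK₂]
    ext
    · simp only [one_smul, zero_smul, add_zero, Prod.smul_fst, Prod.fst_sub, hbe, a, ← ha₂]
      module
    · simp only [one_smul, Prod.smul_snd, Prod.snd_sub, ← ha₂, ← hb₂, add_comm (t • a₂), hb2', hbe, a, hν]
      module
  have hkap : ν * Q a - Q b = r' * Q c := by
    have e1 : fW Q K₁ K₂ = r' * (2 * Q c) := by
      have e := congrArg (fW Q K₁) hm2
      rw [map_smul, map_sub, map_smul, fW_alt K₁, smul_zero, sub_zero, smul_eq_mul, ← hm1, hO.iso m hmX, hk12, hm1] at e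
      exact e.symm
    simp only [hK₁, hK₂, fW_apply, map_smul, pS_self, smul_eq_mul] at e1
    exact mul_left_cancel₀ two (by linear_combination e1)
  refine ⟨a, b, ν, hli', by rw [hkap]; exact mul_ne_zero hr' hc, fun t' e => hdet (t' - t) ?_,
    ⟨m * s * m⁻¹, mul_mem (mul_mem hmX hsX) (inv_mem hmX), fun x => ?_⟩, Submodule.subset_span (by simp [a, ha₁]), ?_, ?_,
    ?_, Submodule.subset_span (by simp [a, ha₁]), Submodule.mem_span_pair.2 ⟨p', r', hbe.symm⟩⟩
  · rw [hν] at e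
    rw [ht, hp'] at *
    linear_combination (norm := (field_simp; ring)) e
  · obtain ⟨w, rfl⟩ := m.surjective x
    rw [LinearEquiv.mul_apply, LinearEquiv.mul_apply, Alt.inv_apply_self, hs, map_sub, map_smul, map_sub, map_smul, map_smul,
      hm1, ← hO.iso m hmX w k₂, ← hO.iso m hmX w k₁, hm1]
    have hm2' : m k₂ = r'⁻¹ • (K₂ - p' • K₁) := by rw [← hm2, smul_smul, inv_mul_cancel₀ hr', one_smul]
    rw [hm2']
    generalize m w = x
    rw [spA_apply, spR_apply, spA_apply, spR_apply, hkap]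
    simp only [map_smul, map_sub, hK₁, hK₂, fW_apply, Prod.smul_fst, Prod.smul_snd, smul_eq_mul, pS_symm x.1, pS_symm x.2,
      LinearMap.smul_apply]
    ext <;> simp only [Prod.fst_sub, Prod.snd_sub, Prod.smul_fst, Prod.smul_snd] <;> match_scalars <;> field_simp <;> ring
  · exact Submodule.mem_span_pair.2 ⟨-t, 1, by rw [hb]; module⟩
  · refine Submodule.mem_span_pair.2 ⟨-(p' / r'), 1 / r', ?_⟩
    show _ = a₂
    rw [hbe]
    match_scalars <;> field_simp <;> ring
  · refine Submodule.mem_span_pair.2 ⟨q - s' * p' / r', s' / r', ?_⟩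
    show _ = b₂
    rw [← hb2e, hbe]
    match_scalars <;> field_simp <;> ring

/-- the image of an anisotropic plane is a pure plane or a twisted plane -/
theorem dich (hO : Over Q X) (hR : Roomy Q) (hD : ¬ Done Q X) {g : (W × W) ≃ₗ[F] (W × W)} (hg : g ∈ X)
    {c : W} (hc : Q c ≠ 0) :
    (∃ (σ : W) (α β γ δ : F), g (c, 0) = (α • σ, γ • σ) ∧ g (0, c) = (β • σ, δ • σ)) ∨
      ∃ (a b : W) (ν : F), LinearIndependent F ![a, b] ∧ ν * Q a - Q b ≠ 0 ∧ (∀ t : F, t ^ 2 ≠ ν) ∧ InS Q X a b ν ∧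
        (g (c, 0)).1 ∈ Submodule.span F ({a, b} : Set W) ∧ (g (c, 0)).2 ∈ Submodule.span F ({a, b} : Set W) ∧
        (g (0, c)).1 ∈ Submodule.span F ({a, b} : Set W) ∧ (g (0, c)).2 ∈ Submodule.span F ({a, b} : Set W) := by
  have two := hO.two
  have hstep := hO.step_of_four hR.dim
  set r := Quad.refl hc with hr
  set k₁ := g (c, 0) with hk₁
  set k₂ := g (0, c) with hk₂
  have hk12 : fW Q k₁ k₂ = 2 * Q c := by
    rw [hk₁, hk₂, hO.iso g hg, fW_apply]; simp [pS_self]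
  set s := g * rt r * g⁻¹
  have hsX : s ∈ X := mul_mem (mul_mem hg (hO.rt_mem r (Quad.refl_mem hc))) (inv_mem hg)
  have hs : ∀ x, s x = x - (Q c)⁻¹ • (fW Q x k₂ • k₁ - fW Q x k₁ • k₂) := fun x => by
    obtain ⟨w, rfl⟩ := g.surjective x
    show g (rt r (g⁻¹ (g w))) = _
    have e : rt r w = w - (Q c)⁻¹ • (fW Q w (0, c) • ((c, 0) : W × W) - fW Q w (c, 0) • ((0, c) : W × W)) := by
      rw [rt_apply, hr, Quad.refl_apply, Quad.refl_apply, ← pS_apply, ← pS_apply]
      ext <;> simp [fW_apply, div_eq_inv_mul, smul_smul]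
    rw [Alt.inv_apply_self, e, map_sub, map_smul, map_sub, map_smul, map_smul, hk₁, hk₂, hO.iso g hg, hO.iso g hg]
  set a₁ := k₁.1 with ha₁
  set b₁ := k₁.2 with hb₁
  set a₂ := k₂.1 with ha₂
  set b₂ := k₂.2 with hb₂
  have hind : ∀ t₁ t₂ : F, t₁ • k₁ + t₂ • k₂ = 0 → t₁ = 0 ∧ t₂ = 0 := fun t₁ t₂ e => by
    have e1 := congrArg (fun z => fW Q z k₂) e
    have e2 := congrArg (fun z => fW Q k₁ z) e
    simp only [map_add, map_smul, LinearMap.add_apply, LinearMap.smul_apply, fW_alt k₁, fW_alt k₂, hk12, smul_eq_mul,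
      mul_zero, add_zero, zero_add, map_zero, LinearMap.zero_apply] at e1 e2
    exact ⟨(mul_eq_zero.1 e1).resolve_right (mul_ne_zero two hc), (mul_eq_zero.1 e2).resolve_right (mul_ne_zero two hc)⟩
  -- anisotropic `x` with a fixed pure vector over it is orthogonal to all components
  have key : ∀ (u₁ u₂ : F) (x : W), (u₁ ≠ 0 ∨ u₂ ≠ 0) → Q x ≠ 0 → pS Q (u₁ • b₁ - u₂ • a₁) x = 0 →
      pS Q (u₁ • b₂ - u₂ • a₂) x = 0 → pS Q a₁ x = 0 ∧ pS Q b₁ x = 0 ∧ pS Q a₂ x = 0 ∧ pS Q b₂ x = 0 := by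
    intro u₁ u₂ x hu hx h1 h2
    simp only [map_sub, map_smul, LinearMap.sub_apply, LinearMap.smul_apply, smul_eq_mul] at h1 h2
    have ef : ∀ (w₁ w₂ : F) (k : W × W), fW Q (w₁ • x, w₂ • x) k = w₁ * pS Q k.2 x - w₂ * pS Q k.1 x := fun w₁ w₂ k => by
      simp [fW_apply, pS_symm x]
    have hfix : s (u₁ • x, u₂ • x) = (u₁ • x, u₂ • x) := by
      rw [hs, ef, ef, h1, h2]; simp
    obtain hpl := (hO.plane hstep hsX hx hu hfix).resolve_left hD
    have hall : ∀ w₁ w₂ : F, s (w₁ • x, w₂ • x) = (w₁ • x, w₂ • x) := by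
      intro w₁ w₂
      obtain ⟨z₁, z₂, hz⟩ := hpl w₁ w₂
      have hx0 : x ≠ 0 := fun h => hx (by rw [h, QuadraticMap.map_zero])
      -- the pairing with the fixed vector shows that the difference is a multiple of it
      have hpair := hO.iso s hsX (u₁ • x, u₂ • x) (w₁ • x, w₂ • x)
      rw [hfix, hz] at hpair
      simp only [fW_apply, map_smul, LinearMap.smul_apply, smul_eq_mul, pS_self] at hpair
      have hdet : u₁ * (z₂ - w₂) = u₂ * (z₁ - w₁) :=
        mul_right_cancel₀ (mul_ne_zero two hx) (by linear_combination hpair)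
      obtain ⟨t, ht1, ht2⟩ : ∃ t : F, z₁ = w₁ + t * u₁ ∧ z₂ = w₂ + t * u₂ := by
        rcases hu with h | h
        · exact ⟨(z₁ - w₁) / u₁, by rw [div_mul_cancel₀ _ h]; ring, by
            rw [div_mul_eq_mul_div, ← mul_comm u₂, ← hdet, mul_div_cancel_left₀ _ h]; ring⟩
        · exact ⟨(z₂ - w₂) / u₂, by rw [div_mul_eq_mul_div, ← mul_comm u₁, hdet, mul_div_cancel_left₀ _ h]; ring,
            by rw [div_mul_cancel₀ _ h]; ring⟩
      have hz' : s (w₁ • x, w₂ • x) = (w₁ • x, w₂ • x) + t • ((u₁ • x, u₂ • x) : W × W) := by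
        rw [hz, ht1, ht2]; ext <;> simp [add_smul, mul_smul]
      have hss : s (s (w₁ • x, w₂ • x)) = (w₁ • x, w₂ • x) := by
        show g (rt r (g⁻¹ (g (rt r (g⁻¹ (w₁ • x, w₂ • x)))))) = _
        rw [Alt.inv_apply_self]
        have : ∀ y : W × W, rt r (rt r y) = y := fun y => by
          have hrr : ∀ v : W, r (r v) = v := fun v => by
            rw [hr, Quad.refl_apply, Quad.refl_apply, ← pS_apply, ← pS_apply, map_sub, map_smul, LinearMap.sub_apply,
              LinearMap.smul_apply, pS_self, smul_eq_mul]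
            match_scalars <;> field_simp <;> ring
          rw [rt_apply, rt_apply, hrr, hrr]
        rw [this, Alt.apply_inv_self]
      rw [hz', map_add, map_smul, hfix, hz', add_assoc, ← add_smul, add_eq_left, smul_eq_zero] at hss
      rcases hss with ht | ht
      · rw [hz', (mul_eq_zero.1 (show (2 : F) * t = 0 by linear_combination ht)).resolve_left two, zero_smul, add_zero]
      · rw [hz', ht, smul_zero, add_zero]
    have hz : ∀ w₁ w₂ : F, fW Q (w₁ • x, w₂ • x) k₁ = 0 ∧ fW Q (w₁ • x, w₂ • x) k₂ = 0 := fun w₁ w₂ => by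
      have := hs (w₁ • x, w₂ • x)
      rw [hall, eq_comm, sub_eq_self, smul_eq_zero, sub_eq_add_neg, ← neg_smul] at this
      obtain ⟨e1, e2⟩ := hind _ _ (this.resolve_left (inv_ne_zero hc))
      exact ⟨neg_eq_zero.1 e2, e1⟩
    have e10 := hz 1 0
    have e01 := hz 0 1
    rw [ef, ef] at e10 e01
    refine ⟨?_, ?_, ?_, ?_⟩
    · linear_combination -e01.1
    · linear_combination e10.1
    · linear_combination -e01.2
    · linear_combination e10.2
  have hspan : ∀ u₁ u₂ : F, (u₁ ≠ 0 ∨ u₂ ≠ 0) →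
      a₁ ∈ Submodule.span F ({u₁ • b₁ - u₂ • a₁, u₁ • b₂ - u₂ • a₂} : Set W) ∧
      b₁ ∈ Submodule.span F ({u₁ • b₁ - u₂ • a₁, u₁ • b₂ - u₂ • a₂} : Set W) ∧
      a₂ ∈ Submodule.span F ({u₁ • b₁ - u₂ • a₁, u₁ • b₂ - u₂ • a₂} : Set W) ∧
      b₂ ∈ Submodule.span F ({u₁ • b₁ - u₂ • a₁, u₁ • b₂ - u₂ • a₂} : Set W) := fun u₁ u₂ hu =>
    ⟨hO.mem_pair_of_aniso hR fun x hx e1 e2 => (key u₁ u₂ x hu hx e1 e2).1,
      hO.mem_pair_of_aniso hR fun x hx e1 e2 => (key u₁ u₂ x hu hx e1 e2).2.1,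
      hO.mem_pair_of_aniso hR fun x hx e1 e2 => (key u₁ u₂ x hu hx e1 e2).2.2.1,
      hO.mem_pair_of_aniso hR fun x hx e1 e2 => (key u₁ u₂ x hu hx e1 e2).2.2.2⟩
  have hbspan : b₁ ∈ Submodule.span F ({a₁, a₂} : Set W) ∧ b₂ ∈ Submodule.span F ({a₁, a₂} : Set W) := by
    obtain ⟨-, e1, -, e2⟩ := hspan 0 (-1) (Or.inr (neg_ne_zero.2 one_ne_zero))
    simp only [zero_smul, zero_sub, neg_smul, one_smul, neg_neg] at e1 e2
    exact ⟨e1, e2⟩
  by_cases hli : LinearIndependent F ![a₁, a₂]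
  swap
  · left
    obtain ⟨σ, t₁, t₂, e1, e2⟩ : ∃ (σ : W) (t₁ t₂ : F), a₁ = t₁ • σ ∧ a₂ = t₂ • σ := by
      by_cases h0 : a₁ = 0
      · exact ⟨a₂, 0, 1, by rw [h0, zero_smul], by rw [one_smul]⟩
      rw [LinearIndependent.pair_iff' h0] at hli
      push Not at hli
      obtain ⟨t, ht⟩ := hli
      exact ⟨a₁, 1, t, by rw [one_smul], ht.symm⟩
    obtain ⟨p, q, hpq⟩ := Submodule.mem_span_pair.1 hbspan.1
    obtain ⟨p', q', hpq'⟩ := Submodule.mem_span_pair.1 hbspan.2
    refine ⟨σ, t₁, t₂, p * t₁ + q * t₂, p' * t₁ + q' * t₂, Prod.ext e1 ?_, Prod.ext e2 ?_⟩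
    · show b₁ = _
      rw [← hpq, e1, e2, smul_smul, smul_smul, add_smul]
    · show b₂ = _
      rw [← hpq', e1, e2, smul_smul, smul_smul, add_smul]
  right
  obtain ⟨p, r', hb1e⟩ := Submodule.mem_span_pair.1 hbspan.1
  obtain ⟨q, s', hb2e⟩ := Submodule.mem_span_pair.1 hbspan.2
  have hdet : ∀ t : F, (p - t) * (s' - t) - q * r' ≠ 0 := fun t e => by
    obtain ⟨ha, -, ha', -⟩ := hspan 1 t (Or.inl one_ne_zero)
    obtain ⟨x, y, hxy⟩ := Submodule.mem_span_pair.1 ha
    obtain ⟨x', y', hxy'⟩ := Submodule.mem_span_pair.1 ha'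
    rw [← hb1e, ← hb2e, ← sub_eq_zero] at hxy hxy'
    obtain ⟨f1, f2⟩ := LinearIndependent.pair_iff.1 hli (x * (p - t) + y * q - 1) (x * r' + y * (s' - t))
      (by rw [← hxy]; module)
    obtain ⟨f3, f4⟩ := LinearIndependent.pair_iff.1 hli (x' * (p - t) + y' * q) (x' * r' + y' * (s' - t) - 1)
      (by rw [← hxy']; module)
    exact one_ne_zero (α := F) (by
      linear_combination (x * y' - y * x') * e - (x' * r' + y' * (s' - t)) * f1 + (x' * (p - t) + y' * q) * f2 - f4)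
  obtain ⟨a, b, ν, w1, w2, w3, w4, w5, w6, w7, w8, -, -⟩ := hO.twist hg hc hli hb1e hb2e hdet
  exact ⟨a, b, ν, w1, w2, w3, w4, w5, w6, w7, w8⟩

end Over

end Cfsg.Agent.ClassicalMax.SpTwo
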