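import Cfsg.Agent.ClassicalMax.SpTwo.Main
import Cfsg.Agent.ClassicalMax.SpTwo.Bridge
import Mathlib.NumberTheory.LegendreSymbol.QuadraticChar.Basic

/-!
Overgroups of `Sp₂ ⊗ O₄⁻` in the symplectic group: twisted planes do not occur, and the stabiliser of the
decomposition is maximal.
-/

set_option autoImplicit false
set_option linter.unusedSectionVars false

namespace Cfsg.Agent.ClassicalMax.SpTwo

open Module QuadraticMap Cfsg.Agent.Classical Cfsg.Agent.ClassicalMax

variable {F W : Type*} [Field F] [AddCommGroup W] [Module F W] [FiniteDimensional F W] {Q : QuadraticForm F W}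
  {X : Subgroup ((W × W) ≃ₗ[F] (W × W))}

/-- the product of two non-squares is a square -/
theorem sq_of_nonsq [Finite F] {x y : F} (hx : ¬ ∃ t, t * t = x) (hy : ¬ ∃ t, t * t = y) : ∃ t, t * t = x * y := by
  classical
  have : Fintype F := Fintype.ofFinite F
  by_contra h
  have hn : ∀ {z : F}, (¬ ∃ t, t * t = z) → quadraticChar F z = -1 := fun {z} hz =>
    quadraticChar_neg_one_iff_not_isSquare.2 fun ⟨t, ht⟩ => hz ⟨t, ht.symm⟩
  have e := hn h
  rw [map_mul, hn hx, hn hy] at e
  norm_num at e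

namespace Over

/-- an anisotropic vector with given values, or a singular obstruction -/
theorem exists_pair_four (hO : Over Q X) (hR : Roomy Q) (h4 : finrank F W = 4) {a b : W}
    (hab : LinearIndependent F ![a, b]) (u v : F) :
    (∃ h e, Q h ≠ 0 ∧ pS Q a h = 0 ∧ pS Q b h = 0 ∧ pS Q h e = 0 ∧ Q (e + h) ≠ 0 ∧ pS Q a e = u ∧ pS Q b e = v) ∨
      ∃ p q : F, (p ≠ 0 ∨ q ≠ 0) ∧ Q (p • a + q • b) = 0 ∧ pS Q a (p • a + q • b) = 0 ∧
        pS Q b (p • a + q • b) = 0 ∧ p * u + q * v = 0 := by
  obtain ⟨h, hah, hbh, hh⟩ := hR.aniso a b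
  have h2h : (2 : F) * Q h ≠ 0 := mul_ne_zero hO.two hh
  have ind := LinearIndependent.pair_iff.1 hab
  obtain ⟨wa, hwa, hawa⟩ := Quad.exists_perp hO.nd (S := Submodule.span F ({b, h} : Set W)) (x := a) (fun hm => by
    obtain ⟨p, q, hpq⟩ := Submodule.mem_span_pair.1 hm
    have e1 := congrArg (pS Q h) hpq
    rw [map_add, map_smul, map_smul, pS_symm h b, hbh, pS_symm h a, hah, pS_self, smul_zero, zero_add, smul_eq_mul,
      mul_eq_zero] at e1
    rw [e1.resolve_right h2h, zero_smul, add_zero] at hpq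
    exact one_ne_zero (ind 1 (-p) (by rw [← hpq]; module)).1)
  obtain ⟨wb, hwb, hbwb⟩ := Quad.exists_perp hO.nd (S := Submodule.span F ({a, h} : Set W)) (x := b) (fun hm => by
    obtain ⟨p, q, hpq⟩ := Submodule.mem_span_pair.1 hm
    have e1 := congrArg (pS Q h) hpq
    rw [map_add, map_smul, map_smul, pS_symm h a, hah, pS_symm h b, hbh, pS_self, smul_zero, zero_add, smul_eq_mul,
      mul_eq_zero] at e1
    rw [e1.resolve_right h2h, zero_smul, add_zero] at hpq
    exact one_ne_zero (ind (-p) 1 (by rw [← hpq]; module)).2)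
  have f1 : pS Q a wa = 1 := hawa
  have f2 : pS Q b wa = 0 := hwa b (Submodule.subset_span (by simp))
  have f3 : pS Q h wa = 0 := hwa h (Submodule.subset_span (by simp))
  have g1 : pS Q b wb = 1 := hbwb
  have g2 : pS Q a wb = 0 := hwb a (Submodule.subset_span (by simp))
  have g3 : pS Q h wb = 0 := hwb h (Submodule.subset_span (by simp))
  set e₀ := u • wa + v • wb with he₀
  have k1 : pS Q a e₀ = u := by rw [he₀, map_add, map_smul, map_smul, f1, g2]; simp
  have k2 : pS Q b e₀ = v := by rw [he₀, map_add, map_smul, map_smul, f2, g1]; simp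
  have k3 : pS Q h e₀ = 0 := by rw [he₀, map_add, map_smul, map_smul, f3, g3]; simp
  obtain ⟨z, hz, hz0⟩ : ∃ z ∈ LinearMap.ker (pS Q a) ⊓ LinearMap.ker (pS Q b) ⊓ LinearMap.ker (pS Q h), z ≠ 0 := by
    refine Submodule.exists_mem_ne_zero_of_ne_bot fun h0 => ?_
    have e1 := finrank_inf_ker (⊤ : Submodule F W) (pS Q a)
    have e2 := finrank_inf_ker (⊤ ⊓ LinearMap.ker (pS Q a)) (pS Q b)
    have e3 := finrank_inf_ker (⊤ ⊓ LinearMap.ker (pS Q a) ⊓ LinearMap.ker (pS Q b)) (pS Q h)
    rw [top_inf_eq] at e1 e2 e3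
    rw [finrank_top] at e1
    rw [h0, finrank_bot] at e3
    omega
  have hz1 : pS Q a z = 0 := hz.1.1
  have hz2 : pS Q b z = 0 := hz.1.2
  have hz3 : pS Q h z = 0 := hz.2
  have main : ∀ t : F, Q (e₀ + t • z + h) ≠ 0 →
      ∃ h e, Q h ≠ 0 ∧ pS Q a h = 0 ∧ pS Q b h = 0 ∧ pS Q h e = 0 ∧ Q (e + h) ≠ 0 ∧ pS Q a e = u ∧ pS Q b e = v :=
    fun t ht => ⟨h, e₀ + t • z, hh, hah, hbh, by rw [map_add, map_smul, k3, hz3, smul_zero, add_zero], ht,
      by rw [map_add, map_smul, k1, hz1, smul_zero, add_zero], by rw [map_add, map_smul, k2, hz2, smul_zero, add_zero]⟩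
  by_cases h0 : Q (e₀ + (0 : F) • z + h) = 0
  swap
  · exact Or.inl (main 0 h0)
  by_cases h1 : Q (e₀ + (1 : F) • z + h) = 0
  swap
  · exact Or.inl (main 1 h1)
  by_cases h2 : Q (e₀ + (-1 : F) • z + h) = 0
  swap
  · exact Or.inl (main (-1) h2)
  simp only [q_add, q_smul, map_add, LinearMap.add_apply, map_smul, LinearMap.smul_apply, smul_eq_mul, pS_symm e₀ h, k3,
    pS_symm z h, hz3] at h0 h1 h2
  have hQz : Q z = 0 :=
    (mul_eq_zero.1 (show (2 : F) * Q z = 0 by linear_combination h1 + h2 - 2 * h0)).resolve_left hO.two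
  have hez : pS Q e₀ z = 0 := by linear_combination h1 - h0 - hQz
  -- the obstruction lies in the span of the pair
  obtain ⟨p, q, r, hpqr⟩ : ∃ p q r : F, p • a + q • b + r • h = z := by
    have hli : LinearIndependent F ![a, b, h] := by
      rw [Fintype.linearIndependent_iff]
      intro c hc
      simp only [Fin.sum_univ_three, Matrix.cons_val] at hc
      have e1 := congrArg (pS Q h) hc
      simp only [map_add, map_smul, map_zero, smul_eq_mul, pS_symm h a, pS_symm h b, hah, hbh, pS_self, mul_zero,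
        zero_add] at e1
      have hc2 := (mul_eq_zero.1 e1).resolve_right h2h
      rw [hc2, zero_smul, add_zero] at hc
      obtain ⟨c0, c1⟩ := ind _ _ hc
      intro i
      fin_cases i <;> assumption
    have hker : finrank F (LinearMap.ker (pS Q z)) ≤ 3 := by
      obtain ⟨y, -, hy⟩ := Quad.exists_perp hO.nd (S := ⊥) (x := z) (by simpa using hz0)
      have hlt : LinearMap.ker (pS Q z) ≠ ⊤ := fun htop => by
        have : pS Q z y = 0 := (htop ▸ Submodule.mem_top : y ∈ LinearMap.ker (pS Q z))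
        exact one_ne_zero ((show pS Q z y = 1 from hy).symm.trans this)
      have := Submodule.finrank_lt hlt
      omega
    have hle : Submodule.span F (Set.range ![a, b, h]) ≤ LinearMap.ker (pS Q z) := Submodule.span_le.2 (by
      rintro x ⟨i, rfl⟩
      show pS Q z _ = 0
      fin_cases i
      · exact (pS_symm _ _).trans hz1
      · exact (pS_symm _ _).trans hz2
      · exact (pS_symm _ _).trans hz3)
    have heq := Submodule.eq_of_le_of_finrank_le hle (by rw [finrank_span_eq_card hli, Fintype.card_fin]; exact hker)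
    have hzm : z ∈ Submodule.span F (Set.range ![a, b, h]) := heq ▸ (show pS Q z z = 0 by rw [pS_self, hQz, mul_zero])
    obtain ⟨c, hc⟩ := (Submodule.mem_span_range_iff_exists_fun F).1 hzm
    exact ⟨c 0, c 1, c 2, by rw [← hc]; simp [Fin.sum_univ_three]⟩
  have hr : r = 0 := by
    have e1 := congrArg (pS Q h) hpqr
    simp only [map_add, map_smul, smul_eq_mul, pS_symm h a, pS_symm h b, hah, hbh, pS_self, hz3, mul_zero, zero_add] at e1
    exact (mul_eq_zero.1 e1).resolve_right h2h
  rw [hr, zero_smul, add_zero] at hpqr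
  refine Or.inr ⟨p, q, ?_, by rw [hpqr, hQz], by rw [hpqr, hz1], by rw [hpqr, hz2], ?_⟩
  · by_contra! h'
    exact hz0 (by rw [← hpqr, h'.1, h'.2, zero_smul, zero_smul, add_zero])
  · rw [← hpqr, map_add, map_smul, map_smul, pS_symm e₀ a, k1, pS_symm e₀ b, k2] at hez
    simpa using hez

/-- twisted planes do not occur in dimension four -/
theorem no_twist_four (hO : Over Q X) (hR : Roomy Q) (h4 : finrank F W = 4) [Finite F]
    (hts : ∀ z₁ z₂ : W, Q z₁ = 0 → Q z₂ = 0 → pS Q z₁ z₂ = 0 → ¬ LinearIndependent F ![z₁, z₂])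
    (hD : ¬ Done Q X) {a b : W} {ν : F}
    (hab : LinearIndependent F ![a, b]) (hk : ν * Q a - Q b ≠ 0) (hν : ∀ t : F, t ^ 2 ≠ ν) (hS : InS Q X a b ν) :
    False := by
  have two := hO.two
  obtain ⟨s, hsX, hsx⟩ := hS
  set σ := pS Q a b with hσ
  set κ := ν * Q a - Q b with hκ
  set A := spA Q a b ν with hA
  set R := spR Q a b ν with hRd
  have ind : ∀ p q : F, p • a + q • b = 0 → p = 0 ∧ q = 0 := LinearIndependent.pair_iff.1 hab
  have dep : ∀ (w x y : W) (p q p' q' : F), x ∈ Submodule.span F {w} → y ∈ Submodule.span F {w} →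
      x = p • a + q • b → y = p' • a + q' • b → p * q' = q * p' := by
    intro w x y p q p' q' hx hy ex ey
    obtain ⟨i, hi⟩ := Submodule.mem_span_singleton.1 hx
    obtain ⟨j, hj⟩ := Submodule.mem_span_singleton.1 hy
    obtain ⟨f1, f2⟩ := ind (j * p - i * p') (j * q - i * q') (by
      rw [show (j * p - i * p') • a + (j * q - i * q') • b = j • (p • a + q • b) - i • (p' • a + q' • b) by module,
        ← ex, ← ey, ← hi, ← hj, smul_comm, sub_self])
    rcases eq_or_ne i 0 with h0 | h0
    · rw [h0, zero_smul] at hi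
      obtain ⟨g1, g2⟩ := ind p q (by rw [← ex, ← hi])
      rw [g1, g2]; ring
    · exact mul_left_cancel₀ h0 (by linear_combination q * f1 - p * f2)
  have hAa : A a = (-(ν * Q a + Q b) / κ) • a + (σ / κ) • b := by
    rw [hA, spA_apply, ← hκ, pS_self, pS_symm b a, ← hσ]
    match_scalars <;> field_simp <;> rw [hκ] <;> ring
  have hAb : A b = (-(ν * σ) / κ) • a + ((ν * Q a + Q b) / κ) • b := by
    rw [hA, spA_apply, ← hκ, pS_self, ← hσ]
    match_scalars <;> field_simp <;> rw [hκ] <;> ring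
  have hRa : R a = (σ / κ) • a + (-(2 * Q a) / κ) • b := by
    rw [hRd, spR_apply, ← hκ, pS_self, pS_symm b a, ← hσ]
    match_scalars <;> field_simp
  have hRb : R b = (2 * Q b / κ) • a + (-σ / κ) • b := by
    rw [hRd, spR_apply, ← hκ, pS_self, ← hσ]
    match_scalars <;> field_simp
  -- the pairs `(0, 1)` and `(1, 0)`
  have e1 : σ ^ 2 = 2 * Q a * (ν * Q a + Q b) := by
    rcases hO.exists_pair_four hR h4 hab 0 1 with ⟨h, e, hh, hah, hbh, he, hhe, hu, hv⟩ | ⟨p, q, hpq, hz, hza, hzb, hq⟩
    · obtain ⟨f1, f2⟩ := spR_fix (ν := ν) hah hbh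
      obtain ⟨w, hw1, hw2⟩ := hO.test hR hD hsX hν hsx hh he hhe f2 f1
      have hRe : R e = κ⁻¹ • a := by rw [hRd, spR_apply, ← hκ, hu, hv]; simp
      rw [hRe, map_smul, hRa] at hw1
      rw [hRe, map_smul, hAa] at hw2
      have := dep w _ _ (κ⁻¹ * (σ / κ)) (κ⁻¹ * (-(2 * Q a) / κ)) (κ⁻¹ * (-(ν * Q a + Q b) / κ)) (κ⁻¹ * (σ / κ)) hw1 hw2
        (by module) (by module)
      field_simp at this
      linear_combination this
    · have hq0 : q = 0 := by linear_combination hq
      have hp0 := hpq.resolve_right (fun h => h hq0)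
      rw [hq0, zero_smul, add_zero] at hz hzb
      rw [q_smul] at hz
      rw [map_smul, pS_symm, ← hσ, smul_eq_mul] at hzb
      rw [(mul_eq_zero.1 hzb).resolve_left hp0, (mul_eq_zero.1 hz).resolve_left (mul_ne_zero hp0 hp0)]
      ring
  have e2 : ν * σ ^ 2 = 2 * Q b * (ν * Q a + Q b) := by
    rcases hO.exists_pair_four hR h4 hab 1 0 with ⟨h, e, hh, hah, hbh, he, hhe, hu, hv⟩ | ⟨p, q, hpq, hz, hza, hzb, hq⟩
    · obtain ⟨f1, f2⟩ := spR_fix (ν := ν) hah hbh
      obtain ⟨w, hw1, hw2⟩ := hO.test hR hD hsX hν hsx hh he hhe f2 f1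
      have hRe : R e = (-κ⁻¹) • b := by rw [hRd, spR_apply, ← hκ, hu, hv]; simp
      rw [hRe, map_smul, hRb] at hw1
      rw [hRe, map_smul, hAb] at hw2
      have := dep w _ _ (-κ⁻¹ * (2 * Q b / κ)) (-κ⁻¹ * (-σ / κ)) (-κ⁻¹ * (-(ν * σ) / κ))
        (-κ⁻¹ * ((ν * Q a + Q b) / κ)) hw1 hw2 (by module) (by module)
      field_simp at this
      linear_combination -this
    · have hp0 : p = 0 := by linear_combination hq
      have hq0 := hpq.resolve_left (fun h => h hp0)
      rw [hp0, zero_smul, zero_add] at hz hza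
      rw [q_smul] at hz
      rw [map_smul, ← hσ, smul_eq_mul] at hza
      rw [(mul_eq_zero.1 hza).resolve_left hq0, (mul_eq_zero.1 hz).resolve_left (mul_ne_zero hq0 hq0)]
      ring
  have e3 : 2 * κ * (ν * Q a + Q b) = 0 := by rw [hκ]; linear_combination e2 - ν * e1
  have hT := (mul_eq_zero.1 e3).resolve_left (mul_ne_zero two hk)
  rw [hT, mul_zero, pow_eq_zero_iff two_ne_zero] at e1
  clear e2 e3
  have hκa : κ = 2 * ν * Q a := by rw [hκ]; linear_combination -hT
  have hQa : Q a ≠ 0 := fun h0 => hk (by rw [hκa, h0, mul_zero])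
  have hν0 : ν ≠ 0 := fun h0 => hν 0 (by rw [h0]; ring)
  have hν1 : (1 : F) - ν ≠ 0 := fun h0 => hν 1 (by linear_combination h0)
  have hQb : Q b = -(ν * Q a) := by linear_combination hT
  have hQb0 : Q b ≠ 0 := by rw [hQb]; exact neg_ne_zero.2 (mul_ne_zero hν0 hQa)
  have hab0 : pS Q a b = 0 := e1
  have hba0 : pS Q b a = 0 := (pS_symm b a).trans hab0
  -- two vectors of opposite values orthogonal to the plane and to each other
  obtain ⟨h, h', hah, hbh, hah', hbh', hhh', hQh, hQh'⟩ : ∃ h h', pS Q a h = 0 ∧ pS Q b h = 0 ∧ pS Q a h' = 0 ∧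
      pS Q b h' = 0 ∧ pS Q h h' = 0 ∧ Q h = -Q a ∧ Q h' = Q a := by
    obtain ⟨c, hac, hbc, hQc⟩ := hR.aniso a b
    have hsingex : ∃ r, pS Q a r = 0 ∧ pS Q b r = 0 ∧ r ≠ 0 ∧ Q r = 0 := by
      obtain ⟨d, hd, hd0⟩ : ∃ d ∈ LinearMap.ker (pS Q a) ⊓ LinearMap.ker (pS Q b) ⊓ LinearMap.ker (pS Q c), d ≠ 0 := by
        refine Submodule.exists_mem_ne_zero_of_ne_bot fun h0 => ?_
        have e1 := finrank_inf_ker (⊤ : Submodule F W) (pS Q a)
        have e2 := finrank_inf_ker (⊤ ⊓ LinearMap.ker (pS Q a)) (pS Q b)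
        have e3 := finrank_inf_ker (⊤ ⊓ LinearMap.ker (pS Q a) ⊓ LinearMap.ker (pS Q b)) (pS Q c)
        rw [top_inf_eq] at e1 e2 e3
        rw [finrank_top] at e1
        rw [h0, finrank_bot] at e3
        omega
      have d1 : pS Q a d = 0 := hd.1.1
      have d2 : pS Q b d = 0 := hd.1.2
      have d3 : pS Q c d = 0 := hd.2
      by_cases hQd : Q d = 0
      · exact ⟨d, d1, d2, hd0, hQd⟩
      have hdc : pS Q d c = 0 := (pS_symm _ _).trans d3
      by_cases hsq : ∃ t : F, t * t = -(Q c * Q d)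
      · obtain ⟨t, ht⟩ := hsq
        refine ⟨t • d + Q d • c, by rw [map_add, map_smul, map_smul, d1, hac, smul_zero, smul_zero, add_zero],
          by rw [map_add, map_smul, map_smul, d2, hbc, smul_zero, smul_zero, add_zero], fun h0 => ?_, ?_⟩
        · have e1 := congrArg (pS Q c) h0
          rw [map_add, map_smul, map_smul, d3, pS_self, smul_zero, zero_add, map_zero, smul_eq_mul] at e1
          exact mul_ne_zero hQd (mul_ne_zero two hQc) e1
        · simp only [q_add, q_smul, map_smul, LinearMap.smul_apply, hdc, smul_zero, add_zero]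
          linear_combination (Q d) * ht
      -- otherwise both planes are anisotropic and there is a totally singular plane
      exfalso
      obtain ⟨m, hm⟩ := sq_of_nonsq (F := F) (x := -(Q c * Q d)) (y := -(Q a * Q b)) hsq fun ⟨t, ht⟩ => hν (t / Q a) (by
        rw [hQb] at ht
        field_simp
        linear_combination ht)
      obtain ⟨x, y, hxy⟩ := hO.val (Q a) (Q b) (-Q c) hQa hQb0
      set k := m / (Q a * Q b * Q c) with hkd
      have hkk : k * k * (Q a * Q b * Q c) = Q d := by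
        rw [hkd]; field_simp; linear_combination hm
      refine hts (c + x • a + y • b) (d + (k * Q b * y) • a + (-(k * Q a * x)) • b) ?_ ?_ ?_ ?_
      · simp only [q_add, q_smul, map_add, map_smul, LinearMap.add_apply, LinearMap.smul_apply, pS_symm c a, hac,
          pS_symm c b, hbc, hab0, smul_eq_mul]
        linear_combination hxy
      · simp only [q_add, q_smul, map_add, map_smul, LinearMap.add_apply, LinearMap.smul_apply, pS_symm d a, d1,
          pS_symm d b, d2, hab0, smul_eq_mul]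
        linear_combination (k * k * Q a * Q b) * hxy - hkk
      · simp only [map_add, map_smul, LinearMap.add_apply, LinearMap.smul_apply, pS_self, hac, hbc, hab0, hba0,
          pS_symm c a, pS_symm c b, d1, d2, d3, smul_eq_mul]
        ring
      · refine LinearIndependent.pair_iff.2 fun l₁ l₂ e => ?_
        have e1 := congrArg (pS Q c) e
        have e2 := congrArg (pS Q d) e
        simp only [map_add, map_smul, map_zero, pS_self, pS_symm c a, hac, pS_symm c b, hbc, pS_symm d a, d1,
          pS_symm d b, d2, d3, hdc, smul_eq_mul, mul_zero, add_zero, zero_add] at e1 e2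
        exact ⟨(mul_eq_zero.1 e1).resolve_right (mul_ne_zero two hQc),
          (mul_eq_zero.1 e2).resolve_right (mul_ne_zero two hQd)⟩
    obtain ⟨r, har, hbr, hr0, hQr⟩ := hsingex
    have hrn : r ∉ Submodule.span F ({a, b} : Set W) := fun hm => by
      obtain ⟨p, q, rfl⟩ := Submodule.mem_span_pair.1 hm
      simp only [map_add, map_smul, pS_self, hab0, hba0, smul_eq_mul, mul_zero, add_zero, zero_add] at har hbr
      exact hr0 (by rw [(mul_eq_zero.1 har).resolve_right (mul_ne_zero two hQa),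
        (mul_eq_zero.1 hbr).resolve_right (mul_ne_zero two hQb0), zero_smul, zero_smul, add_zero])
    obtain ⟨w, hw, hrw⟩ := Quad.exists_perp hO.nd hrn
    have hrw' : pS Q r w = 1 := hrw
    have haw : pS Q a w = 0 := hw a (Submodule.subset_span (by simp))
    have hbw : pS Q b w = 0 := hw b (Submodule.subset_span (by simp))
    set e := w + (-Q w) • r with hed
    have hre : pS Q r e = 1 := by rw [hed, map_add, map_smul, hrw', pS_self, hQr, mul_zero, smul_zero, add_zero]
    have hae : pS Q a e = 0 := by rw [hed, map_add, map_smul, haw, har, smul_zero, add_zero]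
    have hbe : pS Q b e = 0 := by rw [hed, map_add, map_smul, hbw, hbr, smul_zero, add_zero]
    have hQe : Q e = 0 := by rw [hed, q_add, q_smul, hQr, map_smul, pS_symm, hrw', smul_eq_mul]; ring
    refine ⟨r + (-Q a) • e, r + Q a • e, ?_, ?_, ?_, ?_, ?_, ?_, ?_⟩
    · rw [map_add, map_smul, har, hae, smul_zero, add_zero]
    · rw [map_add, map_smul, hbr, hbe, smul_zero, add_zero]
    · rw [map_add, map_smul, har, hae, smul_zero, add_zero]
    · rw [map_add, map_smul, hbr, hbe, smul_zero, add_zero]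
    · simp only [map_add, map_smul, LinearMap.add_apply, LinearMap.smul_apply, pS_self, hQr, hQe, hre, pS_symm e r,
        smul_eq_mul]
      ring
    · rw [q_add, q_smul, hQr, hQe, map_smul, hre, smul_eq_mul]; ring
    · rw [q_add, q_smul, hQr, hQe, map_smul, hre, smul_eq_mul]; ring
  -- the second reflection
  set i := (1 + ν) / (1 - ν) with hi
  set j := 2 * ν / (1 - ν) with hj
  have hj0 : j ≠ 0 := div_ne_zero (mul_ne_zero two hν0) hν1
  have hconic : j * j - ν * (i * i) = -ν := by rw [hi, hj]; field_simp; ring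
  set b' := i • b + j • h' with hb'
  have hab' : pS Q a b' = 0 := by rw [hb', map_add, map_smul, map_smul, hab0, hah', smul_zero, smul_zero, add_zero]
  have hQb' : Q b' = Q b := by
    rw [hb', q_add, q_smul, q_smul, hQh', map_smul, map_smul, LinearMap.smul_apply, hbh', smul_zero, smul_zero, add_zero]
    rw [hQb]
    linear_combination (Q a) * hconic
  have hb'0 : b' ≠ 0 := fun h0 => hQb0 (by rw [← hQb', h0, QuadraticMap.map_zero])
  obtain ⟨k, hkO, hka, hkb⟩ := hO.exists_map₂ hab (hO.indep_of_perp hQa hb'0 hab') rfl hQb'.symm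
    (hab0.trans hab'.symm)
  set A' := spA Q a b' ν with hA'
  set R' := spR Q a b' ν with hR'
  have hpk : ∀ x y, pS Q (k x) (k y) = pS Q x y := fun x y => by
    rw [pS_apply, pS_apply, Quad.polar_eq_of_mem hkO]
  have ea : ∀ x, pS Q a (k x) = pS Q a x := fun x => by
    have := hpk a x
    rwa [hka] at this
  have eb : ∀ x, pS Q b' (k x) = pS Q b x := fun x => by
    have := hpk b x
    rwa [hkb] at this
  have hkA : ∀ x, k (A x) = A' (k x) := fun x => by
    simp only [hA, hA', spA_apply, hQb', map_sub, map_smul, hka, hkb, ea, eb]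
  have hkR : ∀ x, k (R x) = R' (k x) := fun x => by
    simp only [hRd, hR', spR_apply, hQb', map_sub, map_smul, hka, hkb, ea, eb]
  set s' := rt k * s * (rt k)⁻¹
  have hs'x : ∀ x : W × W, s' x = (A' x.1 + R' x.2, ν • R' x.1 + A' x.2) := fun x => by
    obtain ⟨y, rfl⟩ := (rt k).surjective x
    show rt k (s ((rt k)⁻¹ (rt k y))) = _
    rw [Alt.inv_apply_self, hsx, rt_apply, rt_apply]
    simp only [map_add, map_smul, ← hA, ← hRd, hkA, hkR]
  have hyX : s * s' ∈ X := mul_mem hsX (mul_mem (mul_mem (hO.rt_mem k hkO) hsX) (inv_mem (hO.rt_mem k hkO)))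
  set α := A ∘ₗ A' + ν • (R ∘ₗ R') with hα
  set β := A ∘ₗ R' + R ∘ₗ A' with hβ
  have hyx : ∀ x : W × W, (s * s') x = (α x.1 + β x.2, ν • β x.1 + α x.2) := fun x => by
    show s (s' x) = _
    rw [hs'x, hsx]
    simp only [hα, hβ, LinearMap.add_apply, LinearMap.comp_apply, LinearMap.smul_apply, ← hA, ← hRd, map_add, map_smul]
    ext <;> simp only [] <;> module
  obtain ⟨f1, f2⟩ := spR_fix (ν := ν) hah hbh
  obtain ⟨f3, f4⟩ := spR_fix (a := a) (b := b') (ν := ν) (h := h) hah (by
    rw [hb', map_add, map_smul, map_smul, LinearMap.add_apply, LinearMap.smul_apply, LinearMap.smul_apply, hbh,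
      pS_symm h' h, hhh', smul_zero, smul_zero, add_zero])
  obtain ⟨w, hw1, hw2⟩ := hO.test hR hD hyX hν hyx (h := h) (e := a + b) (by rw [hQh]; exact neg_ne_zero.2 hQa)
    (by rw [map_add, pS_symm h a, hah, pS_symm h b, hbh, add_zero])
    (by
      rw [q_add, q_add, hab0, hQb, hQh, map_add, LinearMap.add_apply, hah, hbh]
      intro e0
      exact mul_ne_zero hν0 hQa (by linear_combination -e0))
    (by simp [hα, hA, hA', hRd, hR', f1, f2, f3, f4]) (by simp [hβ, hA, hA', hRd, hR', f1, f2, f3, f4])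
  -- the values
  have hκ' : ν * Q a - Q b' = κ := by rw [hQb', hκ]
  have hb'a : pS Q b' a = 0 := (pS_symm _ _).trans hab'
  have hb'b : pS Q b' b = i * (2 * Q b) := by
    rw [hb', map_add, map_smul, map_smul, LinearMap.add_apply, LinearMap.smul_apply, LinearMap.smul_apply, pS_self,
      pS_symm h' b, hbh', smul_zero, add_zero, smul_eq_mul]
  have hb'h : pS Q b' h' = j * (2 * Q a) := by
    rw [hb', map_add, map_smul, map_smul, LinearMap.add_apply, LinearMap.smul_apply, LinearMap.smul_apply, pS_self, hQh',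
      hbh', smul_zero, zero_add, smul_eq_mul]
  have vA'a : A' a = 0 := by
    rw [hA', spA_apply, hκ', pS_self, hb'a, hκa]
    match_scalars <;> field_simp <;> ring
  have vR'a : R' a = (-ν⁻¹) • b' := by
    rw [hR', spR_apply, hκ', pS_self, hb'a, hκa]
    match_scalars <;> field_simp <;> ring
  have vA'b : A' b = b + (-i) • b' := by
    rw [hA', spA_apply, hκ', hab0, hb'b, hQb, hκa]
    match_scalars <;> field_simp <;> (try ring)
  have vR'b : R' b = (-i) • a := by
    rw [hR', spR_apply, hκ', hab0, hb'b, hQb, hκa]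
    match_scalars <;> field_simp <;> (try ring)
  have vA'h : A' h' = h' + (j / ν) • b' := by
    rw [hA', spA_apply, hκ', hah', hb'h, hκa]
    match_scalars <;> field_simp <;> (try ring)
  have vR'h : R' h' = (j / ν) • a := by
    rw [hR', spR_apply, hκ', hah', hb'h, hκa]
    match_scalars <;> field_simp <;> (try ring)
  have vAa : A a = 0 := by rw [hAa, hT, show σ = 0 from hab0]; simp
  have vAb : A b = 0 := by rw [hAb, hT, show σ = 0 from hab0]; simp
  have vRb : R b = (-1 : F) • a := by
    rw [hRb, show σ = 0 from hab0, hκa, hQb]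
    match_scalars <;> field_simp <;> (try ring)
  have vRa : R a = (-ν⁻¹) • b := by
    rw [hRa, show σ = 0 from hab0, hκa]
    match_scalars <;> field_simp <;> (try ring)
  obtain ⟨vRh, vAh⟩ := spR_fix (ν := ν) hah' hbh'
  rw [← hA] at vAh
  rw [← hRd] at vRh
  have vαa : α a = i • a := by
    simp only [hα, LinearMap.add_apply, LinearMap.comp_apply, LinearMap.smul_apply, vA'a, vR'a, map_zero, map_smul, hb',
      map_add, vRb, vRh]
    match_scalars <;> field_simp
  have vβa : β a = (-(j / ν)) • h' := by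
    simp only [hβ, LinearMap.add_apply, LinearMap.comp_apply, vR'a, vA'a, map_smul, map_zero, hb', map_add, vAb, vAh]
    match_scalars <;> field_simp
  have vβb : β b = (i * i - 1) • a := by
    simp only [hβ, LinearMap.add_apply, LinearMap.comp_apply, vR'b, vA'b, map_smul, map_add, hb', vAa, vRb, vRh]
    module
  have vβh : β h' = (-(i * j / ν)) • a := by
    simp only [hβ, LinearMap.add_apply, LinearMap.comp_apply, vR'h, vA'h, map_smul, map_add, hb', vAa, vRb, vRh]
    match_scalars <;> field_simp <;> ring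
  have vαh : α h' = (1 + j * j / ν) • h' + (-(j / ν)) • b := by
    simp only [hα, LinearMap.add_apply, LinearMap.comp_apply, LinearMap.smul_apply, vA'h, vR'h, map_smul, map_add, hb',
      vAb, vAh, vRa]
    match_scalars <;> field_simp
  have hii : i * i - 1 = j * j / ν := by field_simp; linear_combination -hconic
  have hvb : β (β (a + b)) = (i * j * j / (ν * ν)) • a + (-(j * j * j / (ν * ν))) • h' := by
    rw [map_add β a b, vβa, vβb, hii, map_add, map_smul, map_smul, vβh, vβa]
    match_scalars <;> field_simp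
  have hva : α (β (a + b)) = (i * j * j / ν) • a + (-(j / ν) * (1 + j * j / ν)) • h' + (j * j / (ν * ν)) • b := by
    rw [map_add β a b, vβa, vβb, hii, map_add, map_smul, map_smul, vαh, vαa]
    match_scalars <;> field_simp
  rw [hvb] at hw1
  rw [hva] at hw2
  obtain ⟨l, hl⟩ := Submodule.mem_span_singleton.1 hw1
  obtain ⟨m, hm⟩ := Submodule.mem_span_singleton.1 hw2
  have hl0 : l ≠ 0 := fun h0 => by
    have e1 := congrArg (pS Q h') hl
    rw [h0, zero_smul, map_zero, map_add, map_smul, map_smul, pS_symm h' a, hah', pS_self, hQh', smul_zero, zero_add,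
      smul_eq_mul] at e1
    rcases mul_eq_zero.1 e1.symm with h1 | h1
    · exact neg_ne_zero.2 (div_ne_zero (mul_ne_zero (mul_ne_zero hj0 hj0) hj0) (mul_ne_zero hν0 hν0)) h1
    · exact mul_ne_zero two hQa h1
  have hwb : pS Q b w = 0 := by
    have e1 := congrArg (pS Q b) hl
    rw [map_smul, map_add, map_smul, map_smul, hba0, hbh', smul_zero, smul_zero, add_zero, smul_eq_mul] at e1
    exact (mul_eq_zero.1 e1).resolve_left hl0
  have e2 := congrArg (pS Q b) hm
  simp only [map_smul, hwb, map_add, hba0, hbh', pS_self, smul_eq_mul, mul_zero, zero_add] at e2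
  rcases mul_eq_zero.1 e2.symm with h1 | h1
  · exact div_ne_zero (mul_ne_zero hj0 hj0) (mul_ne_zero hν0 hν0) h1
  · exact mul_ne_zero two hQb0 h1

end Over

variable {m : ℕ} [Fintype F]

/-- the stabiliser of a decomposition `Sp₂ ⊗ O₄⁻` is maximal -/
theorem isMaximal_tensor_four (hodd : Odd (Fintype.card F)) (e : (Fin m ⊕ Fin m) ≃ Fin 2 × Fin 4)
    (P : GL (Fin m ⊕ Fin m) F) (f₁ : (Fin 2 → F) → (Fin 2 → F) → F) (f₂ : (Fin 4 → F) → (Fin 4 → F) → F)
    (hf₁ : Cfsg.Geo.IsSymplecticForm f₁) (hf₂ : Cfsg.Geo.IsSymmetricForm f₂)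
    (hminus : ¬ Cfsg.Geo.IsPlusTypeOn (fun v : Fin 4 → F => f₂ v v) ⊤)
    (hT : Cfsg.Geo.IsTensorFormStructure id (Cfsg.sympForm m F) f₁ f₂ e P) :
    Cfsg.Geo.IsMaximalIn (Cfsg.spGL m F) (Cfsg.Geo.tensorProductSubgroup 2 4 e P ⊓ Cfsg.spGL m F) :=
  isMaximal_of_inT (by norm_num) hodd e P f₁ f₂ hf₁ hf₂ hT fun Q X hQ hO hD g hg => by
    have h4 : finrank F (Fin 4 → F) = 4 := by rw [Module.finrank_fintype_fun_eq_card, Fintype.card_fin]
    have hts : ∀ z₁ z₂, Q z₁ = 0 → Q z₂ = 0 → pS Q z₁ z₂ = 0 → ¬ LinearIndependent F ![z₁, z₂] := by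
      intro z₁ z₂ h1 h2 h12 hli
      refine hminus ⟨Submodule.span F (Set.range ![z₁, z₂]), le_top, fun w hw => ?_, ?_⟩
      · obtain ⟨c, rfl⟩ := (Submodule.mem_span_range_iff_exists_fun F).1 hw
        show f₂ _ _ = 0
        rw [← hQ, pS_self]
        simp [Fin.sum_univ_two, q_add, q_smul, h1, h2, h12]
      · rw [finrank_span_eq_card hli, Fintype.card_fin, finrank_top, h4]
    have hR : Roomy Q := ⟨h4.ge, fun a b => by
      by_contra! hall
      set U := LinearMap.ker (pS Q a) ⊓ LinearMap.ker (pS Q b)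
      have e1 := Over.finrank_inf_ker (⊤ : Submodule F (Fin 4 → F)) (pS Q a)
      have e2 := Over.finrank_inf_ker (⊤ ⊓ LinearMap.ker (pS Q a)) (pS Q b)
      rw [top_inf_eq] at e1 e2
      rw [finrank_top] at e1
      change finrank F _ ≤ finrank F U + 1 at e2
      have hU2 := Quad.two_mul_finrank_le hO.nd (W := U) fun w hw => hall w hw.1 hw.2
      refine hminus ⟨U, le_top, fun w hw => ?_, by rw [finrank_top]; omega⟩
      show f₂ _ _ = 0
      rw [← hQ, pS_self, hall w hw.1 hw.2, mul_zero]⟩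
    exact hO.inT_of hR (fun _ _ _ => hO.no_twist_four hR h4 hts hD) hD hg

end Cfsg.Agent.ClassicalMax.SpTwo
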