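import Cfsg.Agent.ClassicalMax.SpTwo.Dich

/-!
Overgroups of `Sp₂ ⊗ O(Q)` in dimension at least five: every element preserves the decomposition unless every
transvection is present.
-/

set_option autoImplicit false
set_option linter.unusedSectionVars false

namespace Cfsg.Agent.ClassicalMax.SpTwo

open Module QuadraticMap Cfsg.Agent.Classical Cfsg.Agent.ClassicalMax

variable {F W : Type*} [Field F] [AddCommGroup W] [Module F W] [FiniteDimensional F W] {Q : QuadraticForm F W}
  {X : Subgroup ((W × W) ≃ₗ[F] (W × W))}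

namespace Over

/-- an element fixing the plane over `h` sends the plane over `e ⊥ h` to a plane with three components on one line -/
theorem line (hO : Over Q X) (hRm : Roomy Q) (hD : ¬ Done Q X) {y : (W × W) ≃ₗ[F] (W × W)} (hy : y ∈ X)
    {h e : W} (hh : Q h ≠ 0) (he : pS Q h e = 0) (hhe : Q (e + h) ≠ 0) (h1 : y (h, 0) = (h, 0))
    (h2 : y (0, h) = (0, h)) :
    ∃ w : W, (y (e, 0)).2 ∈ Submodule.span F {w} ∧ (y (0, e)).1 ∈ Submodule.span F {w} ∧
      (y (e, 0)).1 - (y (0, e)).2 ∈ Submodule.span F {w} := by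
  have h2h : (2 : F) * Q h ≠ 0 := mul_ne_zero hO.two hh
  set P := (y (e, 0)).1 with hP
  set U := (y (e, 0)).2 with hU
  set R := (y (0, e)).1 with hR
  set V := (y (0, e)).2 with hV
  have g1 : y (e + h, 0) = (P + h, U) := by
    rw [show ((e + h, 0) : W × W) = (e, 0) + (h, 0) by simp, map_add, h1]
    ext <;> simp [hP, hU]
  have g2 : y (0, e + h) = (R, V + h) := by
    rw [show ((0, e + h) : W × W) = (0, e) + (0, h) by simp, map_add, h2]
    ext <;> simp [hR, hV]
  have orth : ∀ x : W × W, fW Q x (h, 0) = 0 → fW Q x (0, h) = 0 → pS Q h (y x).1 = 0 ∧ pS Q h (y x).2 = 0 := by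
    intro x e1 e2
    have f1 := hO.iso y hy x (h, 0)
    have f2 := hO.iso y hy x (0, h)
    rw [h1, e1, fW_apply] at f1
    rw [h2, e2, fW_apply] at f2
    simp only [map_zero, zero_sub, sub_zero, neg_eq_zero] at f1 f2
    exact ⟨(pS_symm _ _).trans f2, (pS_symm _ _).trans f1⟩
  obtain ⟨eP, eU⟩ : pS Q h P = 0 ∧ pS Q h U = 0 :=
    orth _ (by simp [fW_apply]) (by simp [fW_apply, pS_symm e h, he])
  obtain ⟨eR, eV⟩ : pS Q h R = 0 ∧ pS Q h V = 0 :=
    orth _ (by simp [fW_apply, pS_symm e h, he]) (by simp [fW_apply])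
  have eP' : pS Q h (P + h) = 2 * Q h := by rw [map_add, eP, zero_add, pS_self]
  rcases hO.dich hRm hD hy hhe with ⟨σ, α, β, γ, δ, e1, e2⟩ | ⟨a, b, ν, -, -, -, -, m1, m2, m3, m4⟩
  · rw [g1, Prod.mk.injEq] at e1
    rw [g2, Prod.mk.injEq] at e2
    obtain ⟨e1, e1'⟩ := e1
    obtain ⟨e2, e2'⟩ := e2
    have hσ : pS Q h σ ≠ 0 := fun h0 => h2h (by rw [← eP', e1, map_smul, h0, smul_zero])
    have hz : ∀ (k : F) (z : W), z = k • σ → pS Q h z = 0 → z = 0 := fun k z hz h0 => by
      rw [hz, map_smul, smul_eq_mul, mul_eq_zero] at h0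
      rw [hz, h0.resolve_right hσ, zero_smul]
    refine ⟨0, ?_, ?_, ?_⟩
    · rw [hz _ _ e1' eU]; exact Submodule.zero_mem _
    · rw [hz _ _ e2 eR]; exact Submodule.zero_mem _
    · have : P - V = (α - δ) • σ := by rw [sub_smul, ← e1, ← e2', add_sub_add_right_eq_sub]
      rw [hz _ _ this (by rw [map_sub, eP, eV, sub_zero])]
      exact Submodule.zero_mem _
  · rw [g1] at m1 m2
    rw [g2] at m3 m4
    refine ⟨pS Q h b • a - pS Q h a • b, ?_⟩
    have key : ∀ x ∈ Submodule.span F ({a, b} : Set W), pS Q h x = 0 →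
        x ∈ Submodule.span F {pS Q h b • a - pS Q h a • b} := by
      intro x hx h0
      obtain ⟨p, q, rfl⟩ := Submodule.mem_span_pair.1 hx
      rw [map_add, map_smul, map_smul, smul_eq_mul, smul_eq_mul] at h0
      by_cases ha : pS Q h a = 0
      · have hb : pS Q h b ≠ 0 := fun hb => h2h (by
          obtain ⟨p', q', hpq⟩ := Submodule.mem_span_pair.1 m1
          rw [← eP', show P + h = p' • a + q' • b from hpq.symm, map_add, map_smul, map_smul, ha, hb, smul_zero,
            smul_zero, add_zero])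
        have hq : q = 0 := by
          rw [ha, mul_zero, zero_add] at h0
          exact (mul_eq_zero.1 h0).resolve_right hb
        refine Submodule.mem_span_singleton.2 ⟨p / pS Q h b, ?_⟩
        simp only [ha, hq, zero_smul, sub_zero, add_zero, smul_smul, div_mul_cancel₀ _ hb]
      · refine Submodule.mem_span_singleton.2 ⟨-q / pS Q h a, ?_⟩
        have hp : p = -q * pS Q h b / pS Q h a := by
          rw [eq_div_iff ha]; linear_combination h0
        rw [hp]
        match_scalars <;> field_simp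
    refine ⟨key _ m2 eU, key _ m3 eR, key _ ?_ (by rw [map_sub, eP, eV, sub_zero])⟩
    rw [show P - V = (P + h) - (V + h) by abel]
    exact Submodule.sub_mem _ m1 m4

/-- the test element built from a block element fixing the plane over `h` -/
theorem test (hO : Over Q X) (hRm : Roomy Q) (hD : ¬ Done Q X) {y : (W × W) ≃ₗ[F] (W × W)} (hy : y ∈ X)
    {A B : W →ₗ[F] W} {ν : F} (hν : ∀ t : F, t ^ 2 ≠ ν)
    (hyx : ∀ x : W × W, y x = (A x.1 + B x.2, ν • B x.1 + A x.2))
    {h e : W} (hh : Q h ≠ 0) (he : pS Q h e = 0) (hhe : Q (e + h) ≠ 0) (hA : A h = h) (hB : B h = 0) :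
    ∃ w : W, B (B e) ∈ Submodule.span F {w} ∧ A (B e) ∈ Submodule.span F {w} := by
  set m := (sl 1 1 0 1 (by ring) : (W × W) ≃ₗ[F] (W × W)) with hm
  have hmX : m ∈ X := hO.sl_mem _ _ _ _ _
  set z := y * (m * y * m⁻¹) with hz
  have hzX : z ∈ X := mul_mem hy (mul_mem (mul_mem hmX hy) (inv_mem hmX))
  have hzx : ∀ x : W × W, z x = y (m (y (x.1 - x.2, x.2))) := fun x => by
    have e1 : m⁻¹ x = (x.1 - x.2, x.2) := m.injective (by
      rw [Alt.apply_inv_self, hm, sl_apply]; ext <;> simp)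
    show y (m (y (m⁻¹ x))) = _
    rw [e1]
  have hfix : ∀ u v : F, z (u • h, v • h) = (u • h, v • h) := fun u v => by
    rw [hzx, ← sub_smul, hyx, hm, sl_apply, hyx]
    ext <;> simp [hA, hB, map_smul, ← add_smul]
  obtain ⟨w, hU, hR, hPV⟩ := hO.line hRm hD hzX hh he hhe (by simpa using hfix 1 0) (by simpa using hfix 0 1)
  refine ⟨w, ?_⟩
  have h1 : (z (e, 0)).2 - ν • (z (0, e)).1 = (2 * ν ^ 2) • B (B e) + ν ^ 2 • A (B e) := by
    rw [hzx, hzx, hyx, hyx, hm, sl_apply, sl_apply, hyx, hyx]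
    simp only [sub_zero, zero_sub, map_zero, map_add, map_smul, map_neg, one_smul, zero_smul, zero_add, add_zero,
      smul_zero]
    module
  have h2 : (z (e, 0)).1 - (z (0, e)).2 = (2 * ν) • A (B e) + ν ^ 2 • B (B e) := by
    rw [hzx, hzx, hyx, hyx, hm, sl_apply, sl_apply, hyx, hyx]
    simp only [sub_zero, zero_sub, map_zero, map_add, map_smul, map_neg, one_smul, zero_smul, zero_add, add_zero,
      smul_zero]
    module
  have m1 := Submodule.sub_mem _ hU (Submodule.smul_mem _ ν hR)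
  rw [h1] at m1
  rw [h2] at hPV
  have hν0 : ν ≠ 0 := fun h0 => hν 0 (by rw [h0]; ring)
  have hν4 : 4 - ν ≠ 0 := fun h0 => hν 2 (by linear_combination h0)
  have hk : ν ^ 3 * (4 - ν) ≠ 0 := mul_ne_zero (pow_ne_zero _ hν0) hν4
  constructor
  · have := Submodule.smul_mem (Submodule.span F {w}) (ν ^ 3 * (4 - ν))⁻¹
      (Submodule.sub_mem _ (Submodule.smul_mem _ (2 * ν) m1) (Submodule.smul_mem _ (ν ^ 2) hPV))
    refine (?_ : B (B e) = _) ▸ this
    match_scalars <;> field_simp <;> ring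
  · have := Submodule.smul_mem (Submodule.span F {w}) (ν ^ 3 * (4 - ν))⁻¹
      (Submodule.sub_mem _ (Submodule.smul_mem _ (2 * ν ^ 2) hPV) (Submodule.smul_mem _ (ν ^ 2) m1))
    refine (?_ : A (B e) = _) ▸ this
    match_scalars <;> field_simp <;> ring

theorem spR_fix {a b : W} {ν : F} {h : W} (ha : pS Q a h = 0) (hb : pS Q b h = 0) :
    spR Q a b ν h = 0 ∧ spA Q a b ν h = h := by
  rw [spR_apply, spA_apply, ha, hb]; simp

/-- an anisotropic vector with given values against `a` and `b` and not orthogonal to some anisotropic `h ⊥ a, b` -/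
theorem exists_pair (hO : Over Q X) (h5 : 5 ≤ finrank F W) {a b : W} (hab : LinearIndependent F ![a, b])
    {ν : F} (hk : ν * Q a - Q b ≠ 0) (u v : F) :
    ∃ h e, Q h ≠ 0 ∧ pS Q a h = 0 ∧ pS Q b h = 0 ∧ pS Q h e = 0 ∧ Q (e + h) ≠ 0 ∧ pS Q a e = u ∧ pS Q b e = v := by
  obtain ⟨h, hah, hbh, hh⟩ := hO.exists_aniso_perp h5 a b
  have h2h : (2 : F) * Q h ≠ 0 := mul_ne_zero hO.two hh
  obtain ⟨wa, hwa, hawa⟩ := Quad.exists_perp hO.nd (S := Submodule.span F ({b, h} : Set W)) (x := a) (fun hm => by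
    obtain ⟨p, q, hpq⟩ := Submodule.mem_span_pair.1 hm
    have e1 := congrArg (pS Q h) hpq
    rw [map_add, map_smul, map_smul, pS_symm h b, hbh, pS_symm h a, hah, pS_self, smul_zero, zero_add, smul_eq_mul,
      mul_eq_zero] at e1
    rw [e1.resolve_right h2h, zero_smul, add_zero] at hpq
    exact one_ne_zero (LinearIndependent.pair_iff.1 hab 1 (-p) (by rw [← hpq]; module)).1)
  obtain ⟨wb, hwb, hbwb⟩ := Quad.exists_perp hO.nd (S := Submodule.span F ({a, h} : Set W)) (x := b) (fun hm => by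
    obtain ⟨p, q, hpq⟩ := Submodule.mem_span_pair.1 hm
    have e1 := congrArg (pS Q h) hpq
    rw [map_add, map_smul, map_smul, pS_symm h a, hah, pS_symm h b, hbh, pS_self, smul_zero, zero_add, smul_eq_mul,
      mul_eq_zero] at e1
    rw [e1.resolve_right h2h, zero_smul, add_zero] at hpq
    exact one_ne_zero (LinearIndependent.pair_iff.1 hab (-p) 1 (by rw [← hpq]; module)).2)
  have f1 : pS Q a wa = 1 := hawa
  have f2 : pS Q b wa = 0 := hwa b (Submodule.subset_span (by simp))
  have f3 : pS Q h wa = 0 := hwa h (Submodule.subset_span (by simp))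
  have g1 : pS Q b wb = 1 := hbwb
  have g2 : pS Q a wb = 0 := hwb a (Submodule.subset_span (by simp))
  have g3 : pS Q h wb = 0 := hwb h (Submodule.subset_span (by simp))
  set e₀ := u • wa + v • wb with he₀
  have k1 : pS Q a e₀ = u := by
    rw [he₀, map_add, map_smul, map_smul, f1, g2]; simp
  have k2 : pS Q b e₀ = v := by
    rw [he₀, map_add, map_smul, map_smul, f2, g1]; simp
  have k3 : pS Q h e₀ = 0 := by
    rw [he₀, map_add, map_smul, map_smul, f3, g3]; simp
  obtain ⟨z, hz1, hz2, hz3, hQz⟩ : ∃ z, pS Q a z = 0 ∧ pS Q b z = 0 ∧ pS Q h z = 0 ∧ Q z ≠ 0 := by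
    by_contra! hall
    set S := Submodule.span F ({a, b, h} : Set W)
    set Z := LinearMap.ker (pS Q a) ⊓ LinearMap.ker (pS Q b) ⊓ LinearMap.ker (pS Q h)
    have hZS : Z ≤ Submodule.span F ({a, b} : Set W) := fun z hz => by
      have hall' : ∀ z, (∀ s ∈ S, pS Q s z = 0) → Q z = 0 := fun z hz =>
        hall z (hz a (Submodule.subset_span (by simp))) (hz b (Submodule.subset_span (by simp)))
          (hz h (Submodule.subset_span (by simp)))
      have hzS : z ∈ S := hO.mem_of_perp_singular hall' fun s hs => by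
        have hle : S ≤ LinearMap.ker ((pS Q).flip z) := Submodule.span_le.2 fun x hx => by
          rcases hx with rfl | rfl | rfl
          · exact hz.1.1
          · exact hz.1.2
          · exact hz.2
        exact hle hs
      obtain ⟨r, y, hy, rfl⟩ := Submodule.mem_span_insert.1
        (show z ∈ Submodule.span F (insert h ({a, b} : Set W)) from (by
          rw [show (insert h ({a, b} : Set W)) = {a, b, h} by ext; simp; tauto]; exact hzS))
      obtain ⟨p, q, rfl⟩ := Submodule.mem_span_pair.1 hy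
      have e1 : pS Q h (r • h + (p • a + q • b)) = 0 := hz.2
      rw [map_add, map_add, map_smul, map_smul, map_smul, pS_symm h a, hah, pS_symm h b, hbh, pS_self, smul_zero,
        smul_zero, add_zero, add_zero, smul_eq_mul, mul_eq_zero] at e1
      rw [e1.resolve_right h2h, zero_smul, zero_add]
      exact hy
    have hdim : 2 ≤ finrank F Z := by
      have e1 := finrank_inf_ker (⊤ : Submodule F W) (pS Q a)
      have e2 := finrank_inf_ker (⊤ ⊓ LinearMap.ker (pS Q a)) (pS Q b)
      have e3 := finrank_inf_ker (⊤ ⊓ LinearMap.ker (pS Q a) ⊓ LinearMap.ker (pS Q b)) (pS Q h)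
      rw [top_inf_eq] at e1 e2 e3
      rw [finrank_top] at e1
      change finrank F _ ≤ finrank F Z + 1 at e3
      omega
    have heq : Z = Submodule.span F ({a, b} : Set W) := Submodule.eq_of_le_of_finrank_le hZS (by
      have h2 := finrank_range_le_card (R := F) ![a, b]
      rw [show Set.range ![a, b] = ({a, b} : Set W) by simp [Set.pair_comm], Fintype.card_fin] at h2
      exact le_trans h2 hdim)
    have ha : a ∈ Z := heq ▸ Submodule.subset_span (by simp)
    have hb : b ∈ Z := heq ▸ Submodule.subset_span (by simp)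
    exact hk (by rw [hall a ha.1.1 ha.1.2 ha.2, hall b hb.1.1 hb.1.2 hb.2]; ring)
  have main : ∀ t : F, Q (e₀ + t • z + h) ≠ 0 →
      ∃ h e, Q h ≠ 0 ∧ pS Q a h = 0 ∧ pS Q b h = 0 ∧ pS Q h e = 0 ∧ Q (e + h) ≠ 0 ∧ pS Q a e = u ∧ pS Q b e = v :=
    fun t ht => ⟨h, e₀ + t • z, hh, hah, hbh, by rw [map_add, map_smul, k3, hz3, smul_zero, add_zero], ht,
      by rw [map_add, map_smul, k1, hz1, smul_zero, add_zero], by rw [map_add, map_smul, k2, hz2, smul_zero, add_zero]⟩
  by_cases h0 : Q (e₀ + (0 : F) • z + h) = 0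
  swap
  · exact main 0 h0
  by_cases h1 : Q (e₀ + (1 : F) • z + h) = 0
  swap
  · exact main 1 h1
  refine main (-1) fun h2 => hQz ?_
  simp only [q_add, q_smul, map_add, LinearMap.add_apply, map_smul, LinearMap.smul_apply, smul_eq_mul, pS_symm e₀ h, k3,
    pS_symm z h, hz3] at h0 h1 h2
  exact (mul_eq_zero.1 (show (2 : F) * Q z = 0 by linear_combination h1 + h2 - 2 * h0)).resolve_left hO.two

/-- twisted planes do not occur -/
theorem no_twist (hO : Over Q X) (h5 : 5 ≤ finrank F W) (hD : ¬ Done Q X) {a b : W} {ν : F}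
    (hab : LinearIndependent F ![a, b]) (hk : ν * Q a - Q b ≠ 0) (hν : ∀ t : F, t ^ 2 ≠ ν) (hS : InS Q X a b ν) :
    False := by
  have two := hO.two
  obtain ⟨s, hsX, hsx⟩ := hS
  set σ := pS Q a b with hσ
  set κ := ν * Q a - Q b with hκ
  set A := spA Q a b ν with hA
  set R := spR Q a b ν with hR
  have ind : ∀ p q : F, p • a + q • b = 0 → p = 0 ∧ q = 0 := LinearIndependent.pair_iff.1 hab
  have dep : ∀ (w x y : W) (p q p' q' : F), x ∈ Submodule.span F {w} → y ∈ Submodule.span F {w} →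
      x = p • a + q • b → y = p' • a + q' • b → p * q' = q * p' := by
    intro w x y p q p' q' hx hy ex ey
    obtain ⟨i, hi⟩ := Submodule.mem_span_singleton.1 hx
    obtain ⟨j, hj⟩ := Submodule.mem_span_singleton.1 hy
    obtain ⟨f1, f2⟩ := ind (j * p - i * p') (j * q - i * q') (by
      rw [show (j * p - i * p') • a + (j * q - i * q') • b = j • (p • a + q • b) - i • (p' • a + q' • b) by module,
        ← ex, ← ey, ← hi, ← hj, smul_comm, sub_self])
    rcases eq_or_ne i 0 with h0 | h0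
    · rw [h0, zero_smul] at hi
      obtain ⟨g1, g2⟩ := ind p q (by rw [← ex, ← hi])
      rw [g1, g2]; ring
    · exact mul_left_cancel₀ h0 (by linear_combination q * f1 - p * f2)
  have hAa : A a = (-(ν * Q a + Q b) / κ) • a + (σ / κ) • b := by
    rw [hA, spA_apply, ← hκ, pS_self, pS_symm b a, ← hσ]
    match_scalars <;> field_simp <;> rw [hκ] <;> ring
  have hAb : A b = (-(ν * σ) / κ) • a + ((ν * Q a + Q b) / κ) • b := by
    rw [hA, spA_apply, ← hκ, pS_self, ← hσ]
    match_scalars <;> field_simp <;> rw [hκ] <;> ring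
  have hRa : R a = (σ / κ) • a + (-(2 * Q a) / κ) • b := by
    rw [hR, spR_apply, ← hκ, pS_self, pS_symm b a, ← hσ]
    match_scalars <;> field_simp
  have hRb : R b = (2 * Q b / κ) • a + (-σ / κ) • b := by
    rw [hR, spR_apply, ← hκ, pS_self, ← hσ]
    match_scalars <;> field_simp
  -- the pairs `(0, 1)` and `(1, 0)`
  have hT : ν * Q a + Q b = 0 ∧ σ = 0 := by
    have e1 : σ ^ 2 = 2 * Q a * (ν * Q a + Q b) := by
      obtain ⟨h, e, hh, hah, hbh, he, hhe, hu, hv⟩ := hO.exists_pair h5 hab hk 0 1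
      obtain ⟨f1, f2⟩ := spR_fix (ν := ν) hah hbh
      obtain ⟨w, hw1, hw2⟩ := hO.test (hO.roomy_of_five h5) hD hsX hν hsx hh he hhe f2 f1
      have hRe : R e = κ⁻¹ • a := by rw [hR, spR_apply, ← hκ, hu, hv]; simp
      rw [hRe, map_smul, hRa] at hw1
      rw [hRe, map_smul, hAa] at hw2
      have := dep w _ _ (κ⁻¹ * (σ / κ)) (κ⁻¹ * (-(2 * Q a) / κ)) (κ⁻¹ * (-(ν * Q a + Q b) / κ)) (κ⁻¹ * (σ / κ)) hw1 hw2
        (by module) (by module)
      field_simp at this
      linear_combination this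
    have e2 : ν * σ ^ 2 = 2 * Q b * (ν * Q a + Q b) := by
      obtain ⟨h, e, hh, hah, hbh, he, hhe, hu, hv⟩ := hO.exists_pair h5 hab hk 1 0
      obtain ⟨f1, f2⟩ := spR_fix (ν := ν) hah hbh
      obtain ⟨w, hw1, hw2⟩ := hO.test (hO.roomy_of_five h5) hD hsX hν hsx hh he hhe f2 f1
      have hRe : R e = (-κ⁻¹) • b := by rw [hR, spR_apply, ← hκ, hu, hv]; simp
      rw [hRe, map_smul, hRb] at hw1
      rw [hRe, map_smul, hAb] at hw2
      have := dep w _ _ (-κ⁻¹ * (2 * Q b / κ)) (-κ⁻¹ * (-σ / κ)) (-κ⁻¹ * (-(ν * σ) / κ))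
        (-κ⁻¹ * ((ν * Q a + Q b) / κ)) hw1 hw2 (by module) (by module)
      field_simp at this
      linear_combination -this
    have e3 : 2 * κ * (ν * Q a + Q b) = 0 := by rw [hκ]; linear_combination e2 - ν * e1
    have hT := (mul_eq_zero.1 e3).resolve_left (mul_ne_zero two hk)
    rw [hT, mul_zero, pow_eq_zero_iff two_ne_zero] at e1
    exact ⟨hT, e1⟩
  obtain ⟨hT, hσ0⟩ := hT
  have hκa : κ = 2 * ν * Q a := by rw [hκ]; linear_combination -hT
  have hQa : Q a ≠ 0 := fun h0 => hk (by rw [hκa, h0, mul_zero])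
  have hν0 : ν ≠ 0 := fun h0 => hν 0 (by rw [h0]; ring)
  have hQb : Q b ≠ 0 := fun h0 => mul_ne_zero hν0 hQa (by linear_combination hT - h0)
  have hab0 : pS Q a b = 0 := hσ0
  have hba0 : pS Q b a = 0 := (pS_symm b a).trans hab0
  -- a singular `r ⊥ a, b`
  obtain ⟨r, hr, hr0, hQr⟩ := hO.exists_singular (LinearMap.ker (pS Q a) ⊓ LinearMap.ker (pS Q b)) (by
    have e1 := finrank_inf_ker (⊤ : Submodule F W) (pS Q a)
    have e2 := finrank_inf_ker (⊤ ⊓ LinearMap.ker (pS Q a)) (pS Q b)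
    rw [top_inf_eq] at e1 e2
    rw [finrank_top] at e1
    omega)
  have har : pS Q a r = 0 := hr.1
  have hbr : pS Q b r = 0 := hr.2
  obtain ⟨s₀, hs₀, hrs₀⟩ := Quad.exists_perp hO.nd (S := Submodule.span F ({a, b} : Set W)) (x := r) (fun hm => by
    obtain ⟨p, q, hpq⟩ := Submodule.mem_span_pair.1 hm
    have e1 := congrArg (pS Q a) hpq
    have e2 := congrArg (pS Q b) hpq
    rw [map_add, map_smul, map_smul, pS_self, hab0, har, smul_zero, add_zero, smul_eq_mul, mul_eq_zero] at e1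
    rw [map_add, map_smul, map_smul, pS_self, hba0, hbr, smul_zero, zero_add, smul_eq_mul, mul_eq_zero] at e2
    exact hr0 (by rw [← hpq, e1.resolve_right (mul_ne_zero two hQa), e2.resolve_right (mul_ne_zero two hQb), zero_smul,
      zero_smul, add_zero]))
  have hrs₀' : pS Q r s₀ = 1 := hrs₀
  set e := s₀ + (-Q s₀) • r with hedef
  have hae : pS Q a e = 0 := by
    rw [hedef, map_add, map_smul, har, show pS Q a s₀ = 0 from hs₀ a (Submodule.subset_span (by simp)), smul_zero, add_zero]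
  have hbe : pS Q b e = 0 := by
    rw [hedef, map_add, map_smul, hbr, show pS Q b s₀ = 0 from hs₀ b (Submodule.subset_span (by simp)), smul_zero, add_zero]
  have hre : pS Q r e = 1 := by rw [hedef, map_add, map_smul, hrs₀', pS_self, hQr, mul_zero, smul_zero, add_zero]
  have hQe : Q e = 0 := by rw [hedef, q_add, q_smul, hQr, map_smul, pS_symm, hrs₀', smul_eq_mul]; ring
  obtain ⟨h, hah, hbh, hrh, heh, hh⟩ : ∃ h, pS Q a h = 0 ∧ pS Q b h = 0 ∧ pS Q r h = 0 ∧ pS Q e h = 0 ∧ Q h ≠ 0 := by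
    by_contra! hall
    set Z := LinearMap.ker (pS Q a) ⊓ LinearMap.ker (pS Q b) ⊓ LinearMap.ker (pS Q r) ⊓ LinearMap.ker (pS Q e)
    have hZ : Z = ⊥ := (Submodule.eq_bot_iff _).2 fun z hz => by
      have hzS : z ∈ Submodule.span F (insert r (insert e ({a, b} : Set W))) := hO.mem_of_perp_singular
        (fun z' hz' => hall z' (hz' a (Submodule.subset_span (by simp))) (hz' b (Submodule.subset_span (by simp)))
          (hz' r (Submodule.subset_span (by simp))) (hz' e (Submodule.subset_span (by simp))))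
        (fun s hs => by
          have hle : Submodule.span F (insert r (insert e ({a, b} : Set W))) ≤ LinearMap.ker ((pS Q).flip z) :=
            Submodule.span_le.2 fun x hx => by
              rcases hx with rfl | rfl | rfl | rfl
              · exact hz.1.2
              · exact hz.2
              · exact hz.1.1.1
              · exact hz.1.1.2
          exact hle hs)
      obtain ⟨i, y, hy, rfl⟩ := Submodule.mem_span_insert.1 hzS
      obtain ⟨j, y', hy', rfl⟩ := Submodule.mem_span_insert.1 hy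
      obtain ⟨p, q, rfl⟩ := Submodule.mem_span_pair.1 hy'
      have e1 : pS Q a (i • r + (j • e + (p • a + q • b))) = 0 := hz.1.1.1
      have e2 : pS Q b (i • r + (j • e + (p • a + q • b))) = 0 := hz.1.1.2
      have e3 : pS Q r (i • r + (j • e + (p • a + q • b))) = 0 := hz.1.2
      have e4 : pS Q e (i • r + (j • e + (p • a + q • b))) = 0 := hz.2
      simp only [map_add, map_smul, smul_eq_mul, pS_self, hQr, hQe, har, hbr, hae, hbe, hre, hab0, hba0, pS_symm r a,
        pS_symm r b, pS_symm e a, pS_symm e b, pS_symm e r, mul_zero, mul_one, add_zero, zero_add] at e1 e2 e3 e4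
      rw [e3, e4, (mul_eq_zero.1 e1).resolve_right (mul_ne_zero two hQa),
        (mul_eq_zero.1 e2).resolve_right (mul_ne_zero two hQb), zero_smul, zero_smul, zero_smul, zero_smul]
      simp
    have e1 := finrank_inf_ker (⊤ : Submodule F W) (pS Q a)
    have e2 := finrank_inf_ker (⊤ ⊓ LinearMap.ker (pS Q a)) (pS Q b)
    have e3 := finrank_inf_ker (⊤ ⊓ LinearMap.ker (pS Q a) ⊓ LinearMap.ker (pS Q b)) (pS Q r)
    have e4 := finrank_inf_ker (⊤ ⊓ LinearMap.ker (pS Q a) ⊓ LinearMap.ker (pS Q b) ⊓ LinearMap.ker (pS Q r)) (pS Q e)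
    rw [top_inf_eq] at e1 e2 e3 e4
    rw [finrank_top] at e1
    change finrank F _ ≤ finrank F Z + 1 at e4
    rw [hZ, finrank_bot] at e4
    omega
  -- the second reflection
  set b' := b + r with hb'
  have hab' : pS Q a b' = 0 := by rw [hb', map_add, hab0, har, add_zero]
  have hb'0 : b' ≠ 0 := fun h0 => hQb (by
    rw [show b = -r from eq_neg_of_add_eq_zero_left h0, QuadraticMap.map_neg, hQr])
  have hQb' : Q b' = Q b := by rw [hb', q_add, hQr, hbr, add_zero, add_zero]
  obtain ⟨k, hkO, hka, hkb⟩ := hO.exists_map₂ hab (hO.indep_of_perp hQa hb'0 hab') rfl hQb'.symm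
    (hab0.trans hab'.symm)
  set A' := spA Q a b' ν with hA'
  set R' := spR Q a b' ν with hR'
  have hpk : ∀ x y, pS Q (k x) (k y) = pS Q x y := fun x y => by
    rw [pS_apply, pS_apply, Quad.polar_eq_of_mem hkO]
  have ea : ∀ x, pS Q a (k x) = pS Q a x := fun x => by
    have := hpk a x
    rwa [hka] at this
  have eb : ∀ x, pS Q b' (k x) = pS Q b x := fun x => by
    have := hpk b x
    rwa [hkb] at this
  have hkA : ∀ x, k (A x) = A' (k x) := fun x => by
    simp only [hA, hA', spA_apply, hQb', map_sub, map_smul, hka, hkb, ea, eb]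
  have hkR : ∀ x, k (R x) = R' (k x) := fun x => by
    simp only [hR, hR', spR_apply, hQb', map_sub, map_smul, hka, hkb, ea, eb]
  set s' := rt k * s * (rt k)⁻¹
  have hs'x : ∀ x : W × W, s' x = (A' x.1 + R' x.2, ν • R' x.1 + A' x.2) := fun x => by
    obtain ⟨y, rfl⟩ := (rt k).surjective x
    show rt k (s ((rt k)⁻¹ (rt k y))) = _
    rw [Alt.inv_apply_self, hsx, rt_apply, rt_apply]
    simp only [map_add, map_smul, ← hA, ← hR, hkA, hkR]
  have hyX : s * s' ∈ X := mul_mem hsX (mul_mem (mul_mem (hO.rt_mem k hkO) hsX) (inv_mem (hO.rt_mem k hkO)))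
  set α := A ∘ₗ A' + ν • (R ∘ₗ R') with hα
  set β := A ∘ₗ R' + R ∘ₗ A' with hβ
  have hyx : ∀ x : W × W, (s * s') x = (α x.1 + β x.2, ν • β x.1 + α x.2) := fun x => by
    show s (s' x) = _
    rw [hs'x, hsx]
    simp only [hα, hβ, LinearMap.add_apply, LinearMap.comp_apply, LinearMap.smul_apply, ← hA, ← hR, map_add, map_smul]
    ext <;> simp only [] <;> module
  obtain ⟨f1, f2⟩ := spR_fix (ν := ν) hah hbh
  obtain ⟨f3, f4⟩ := spR_fix (a := a) (b := b') (ν := ν) (h := h) hah (by
    rw [hb', map_add, LinearMap.add_apply, hbh, hrh, add_zero])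
  obtain ⟨w, hw1, hw2⟩ := hO.test (hO.roomy_of_five h5) hD hyX hν hyx hh (by rw [pS_symm]; exact heh)
    (by rw [q_add, hQe, heh, zero_add, add_zero]; exact hh)
    (by simp [hα, hA, hA', hR, hR', f1, f2, f3, f4]) (by simp [hβ, hA, hA', hR, hR', f1, f2, f3, f4])
  -- the values
  have hb'e : pS Q b' e = 1 := by rw [hb', map_add (pS Q), LinearMap.add_apply, hbe, hre, zero_add]
  have hκ' : ν * Q a - Q b' = κ := by rw [hQb', hκ]
  have hb'a : pS Q b' a = 0 := (pS_symm _ _).trans hab'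
  have hra : pS Q r a = 0 := (pS_symm _ _).trans har
  have vA'e : A' e = e + κ⁻¹ • b' := by rw [hA', spA_apply, hκ', hae, hb'e]; module
  have vR'e : R' e = κ⁻¹ • a := by rw [hR', spR_apply, hκ', hae, hb'e]; module
  have vA'a : A' a = 0 := by
    rw [hA', spA_apply, hκ', pS_self, hb'a, hκa]
    match_scalars <;> field_simp <;> ring
  have vR'a : R' a = (-ν⁻¹) • b' := by
    rw [hR', spR_apply, hκ', pS_self, hb'a, hκa]
    match_scalars <;> field_simp <;> ring
  have vAa : A a = 0 := by rw [hAa, hT, hσ0]; simp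
  have vAb : A b = 0 := by rw [hAb, hT, hσ0]; simp
  have vRb : R b = (-1 : F) • a := by
    rw [hRb, hσ0, hκa, show Q b = -(ν * Q a) by linear_combination hT]
    match_scalars <;> field_simp <;> ring
  have vRa : R a = (-ν⁻¹) • b := by
    rw [hRa, hσ0, hκa]
    match_scalars <;> field_simp <;> ring
  have vAr : A r = r := by rw [hA, spA_apply, har, hbr]; simp
  have vRr : R r = 0 := by rw [hR, spR_apply, har, hbr]; simp
  have vRe : R e = 0 := by rw [hR, spR_apply, hae, hbe]; simp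
  have vβe : β e = (-κ⁻¹) • a := by
    simp only [hβ, LinearMap.add_apply, LinearMap.comp_apply, vR'e, vA'e, hb', map_add, map_smul, vAa, vRe, vRb, vRr]
    module
  have vββ : β (β e) = (κ⁻¹ * ν⁻¹) • r := by
    rw [vβe, map_smul]
    simp only [hβ, LinearMap.add_apply, LinearMap.comp_apply, vR'a, vA'a, map_smul, map_zero, hb', map_add, vAb, vAr]
    module
  have vαβ : α (β e) = (-κ⁻¹) • a := by
    rw [vβe, map_smul]
    simp only [hα, LinearMap.add_apply, LinearMap.comp_apply, LinearMap.smul_apply, vA'a, vR'a, map_smul, map_zero, hb',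
      map_add, vRb, vRr]
    match_scalars <;> field_simp
  rw [vββ] at hw1
  rw [vαβ] at hw2
  obtain ⟨i, hi⟩ := Submodule.mem_span_singleton.1 hw1
  obtain ⟨j, hj⟩ := Submodule.mem_span_singleton.1 hw2
  have h1 : pS Q a ((κ⁻¹ * ν⁻¹) • r) = 0 := by rw [map_smul, har, smul_zero]
  have hi0 : i ≠ 0 := fun h0 => hr0 (by
    rw [h0, zero_smul, eq_comm, smul_eq_zero] at hi
    exact hi.resolve_left (mul_ne_zero (inv_ne_zero hk) (inv_ne_zero hν0)))
  have hw : pS Q a w = 0 := by
    rw [← hi, map_smul, smul_eq_mul, mul_eq_zero] at h1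
    exact h1.resolve_left hi0
  have h2 := congrArg (pS Q a) hj
  rw [map_smul, map_smul, hw, pS_self, smul_zero, smul_eq_mul, eq_comm, mul_eq_zero, neg_eq_zero, inv_eq_zero] at h2
  exact h2.elim hk (mul_ne_zero two hQa)

/-- every anisotropic plane goes to an anisotropic plane -/
theorem pure_image (hO : Over Q X) (hR : Roomy Q)
    (hN : ∀ (a b : W) (ν : F), LinearIndependent F ![a, b] → ν * Q a - Q b ≠ 0 → (∀ t : F, t ^ 2 ≠ ν) → InS Q X a b ν →
      False) (hD : ¬ Done Q X) {g : (W × W) ≃ₗ[F] (W × W)} (hg : g ∈ X)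
    {c : W} (hc : Q c ≠ 0) : ∃ (σ : W) (α β γ δ : F), g (c, 0) = (α • σ, γ • σ) ∧ g (0, c) = (β • σ, δ • σ) :=
  (hO.dich hR hD hg hc).resolve_right fun ⟨_, _, _, hab, hk, hν, hS, _⟩ => hN _ _ _ hab hk hν hS

/-- every element preserves the decomposition -/
theorem inT_of (hO : Over Q X) (hR : Roomy Q)
    (hN : ∀ (a b : W) (ν : F), LinearIndependent F ![a, b] → ν * Q a - Q b ≠ 0 → (∀ t : F, t ^ 2 ≠ ν) → InS Q X a b ν →
      False) (hD : ¬ Done Q X) {g : (W × W) ≃ₗ[F] (W × W)} (hg : g ∈ X) :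
    InT g := by
  have two := hO.two
  obtain ⟨c₀, -, -, hc₀⟩ := hR.aniso 0 0
  obtain ⟨σ₀, α, β, γ, δ, e1, e2⟩ := hO.pure_image hR hN hD hg hc₀
  set d := α * δ - β * γ
  have hd : d ≠ 0 := fun h0 => by
    have h1 := hO.iso g hg (c₀, 0) (0, c₀)
    rw [e1, e2, fW_apply, fW_apply] at h1
    simp only [map_smul, LinearMap.smul_apply, smul_eq_mul, pS_self, map_zero, LinearMap.zero_apply, sub_zero] at h1
    exact mul_ne_zero two hc₀ (by linear_combination -h1 + 2 * Q σ₀ * h0)
  let P : W → Prop := fun c => ∃ τ, g (c, 0) = (α • τ, γ • τ) ∧ g (0, c) = (β • τ, δ • τ)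
  have hstep : ∀ c c' : W, Q c ≠ 0 → Q c' ≠ 0 → (Q (c + c') ≠ 0 ∨ Q (c - c') ≠ 0) → P c → P c' := by
    rintro c c' hc hc' hcc ⟨τ, h1, h2⟩
    obtain ⟨ε, hε, hsum⟩ : ∃ ε : F, ε ≠ 0 ∧ Q (c + ε • c') ≠ 0 := by
      rcases hcc with h | h
      · exact ⟨1, one_ne_zero, by rwa [one_smul]⟩
      · exact ⟨-1, neg_ne_zero.2 one_ne_zero, by rwa [neg_one_smul, ← sub_eq_add_neg]⟩
    obtain ⟨τ', α', β', γ', δ', h1', h2'⟩ := hO.pure_image hR hN hD hg hc'
    obtain ⟨ρ, α'', β'', γ'', δ'', h1'', h2''⟩ := hO.pure_image hR hN hD hg hsum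
    rw [show ((c + ε • c', 0) : W × W) = (c, 0) + ε • (c', 0) by simp, map_add, map_smul, h1, h1'] at h1''
    rw [show ((0, c + ε • c') : W × W) = (0, c) + ε • (0, c') by simp, map_add, map_smul, h2, h2'] at h2''
    simp only [Prod.smul_mk, Prod.mk_add_mk, smul_smul, Prod.mk.injEq] at h1'' h2''
    obtain ⟨p1, p3⟩ := h1''
    obtain ⟨p2, p4⟩ := h2''
    have hτ : τ ≠ 0 := fun h0 => hc (by
      rw [h0, smul_zero, smul_zero] at h1
      have := (g.injective (h1.trans (map_zero g).symm))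
      rw [Prod.mk_eq_zero] at this
      rw [this.1, QuadraticMap.map_zero])
    by_cases hdep : τ' ∈ F ∙ τ
    · -- the same plane: `c'` is a multiple of `c`
      obtain ⟨t, ht⟩ := Submodule.mem_span_singleton.1 hdep
      have hcomb : g (c', 0) = g ((t * (δ * α' - β * γ') / d) • c, (t * (α * γ' - γ * α') / d) • c) := by
        rw [show (((t * (δ * α' - β * γ') / d) • c, (t * (α * γ' - γ * α') / d) • c) : W × W) =
          (t * (δ * α' - β * γ') / d) • (c, 0) + (t * (α * γ' - γ * α') / d) • (0, c) by simp, map_add, map_smul,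
          map_smul, h1, h2, h1', ← ht]
        ext <;> simp only [Prod.smul_mk, Prod.mk_add_mk] <;> match_scalars <;> field_simp <;> ring
      have e := g.injective hcomb
      rw [Prod.mk.injEq] at e
      obtain ⟨m, hm⟩ : ∃ m : F, c' = m • c := ⟨_, e.1⟩
      refine ⟨m • τ, ?_, ?_⟩
      · rw [hm, show ((m • c, 0) : W × W) = m • (c, 0) by simp, map_smul, h1]
        ext <;> simp [smul_comm m]
      · rw [hm, show ((0, m • c) : W × W) = m • (0, c) by simp, map_smul, h2]
        ext <;> simp [smul_comm m]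
    obtain ⟨f', hf', hτ'f⟩ := Quad.exists_perp hO.nd hdep
    obtain ⟨f, hf, hτf⟩ := Quad.exists_perp hO.nd (S := F ∙ τ') (x := τ) (fun hm => hdep (by
      obtain ⟨t, ht⟩ := Submodule.mem_span_singleton.1 hm
      refine Submodule.mem_span_singleton.2 ⟨t⁻¹, ?_⟩
      rw [← ht, smul_smul, inv_mul_cancel₀ (fun h0 => hτ (by rw [← ht, h0, zero_smul])), one_smul]))
    have a1 : pS Q f τ = 1 := (pS_symm _ _).trans hτf
    have a2 : pS Q f τ' = 0 := (pS_symm _ _).trans (hf τ' (Submodule.mem_span_singleton_self _))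
    have b1 : pS Q f' τ = 0 := (pS_symm _ _).trans (hf' τ (Submodule.mem_span_singleton_self _))
    have b2 : pS Q f' τ' = 1 := (pS_symm _ _).trans hτ'f
    have hkey : ∀ (x : F) (x' x'' : F), x • τ + (ε * x') • τ' = x'' • ρ →
        x = x'' * pS Q f ρ ∧ ε * x' = x'' * pS Q f' ρ := fun x x' x'' h => by
      have q1 := congrArg (pS Q f) h
      have q2 := congrArg (pS Q f') h
      simp only [map_add, map_smul, a1, a2, b1, b2, smul_eq_mul, mul_one, mul_zero, add_zero, zero_add] at q1 q2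
      exact ⟨q1, q2⟩
    obtain ⟨q1, r1⟩ := hkey _ _ _ p1
    obtain ⟨q2, r2⟩ := hkey _ _ _ p2
    obtain ⟨q3, r3⟩ := hkey _ _ _ p3
    obtain ⟨q4, r4⟩ := hkey _ _ _ p4
    have hx : pS Q f ρ ≠ 0 := fun h0 => hd (by
      show α * δ - β * γ = 0
      rw [q1, q2, h0]; ring)
    set μ := pS Q f' ρ / (ε * pS Q f ρ) with hμ
    refine ⟨μ • τ', ?_, ?_⟩
    · rw [h1', smul_smul, smul_smul]
      congr 2 <;> rw [hμ]
      · rw [q1]; field_simp; linear_combination r1
      · rw [q3]; field_simp; linear_combination r3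
    · rw [h2', smul_smul, smul_smul]
      congr 2 <;> rw [hμ]
      · rw [q2]; field_simp; linear_combination r2
      · rw [q4]; field_simp; linear_combination r4
  have hP : ∀ c, Q c ≠ 0 → P c := fun c hc => hO.aniso_conn P hstep hc₀ hc ⟨σ₀, e1, e2⟩
  set T : W →ₗ[F] W := d⁻¹ • (δ • (LinearMap.fst F W W ∘ₗ g.toLinearMap ∘ₗ LinearMap.inl F W W) -
    β • (LinearMap.snd F W W ∘ₗ g.toLinearMap ∘ₗ LinearMap.inl F W W)) with hT
  have hTc : ∀ c, Q c ≠ 0 → g (c, 0) = (α • T c, γ • T c) ∧ g (0, c) = (β • T c, δ • T c) := fun c hc => by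
    obtain ⟨τ, h1, h2⟩ := hP c hc
    have : T c = τ := by
      simp only [hT, LinearMap.smul_apply, LinearMap.sub_apply, LinearMap.comp_apply, LinearMap.coe_fst, LinearMap.coe_snd,
        LinearMap.inl_apply, LinearEquiv.coe_coe, h1, smul_smul, ← sub_smul]
      rw [show d⁻¹ * (δ * α - β * γ) = 1 by
        rw [show δ * α - β * γ = d by show _ = α * δ - β * γ; ring, inv_mul_cancel₀ hd], one_smul]
    rw [this]
    exact ⟨h1, h2⟩
  have hall : ∀ x, g (x, 0) = (α • T x, γ • T x) ∧ g (0, x) = (β • T x, δ • T x) := fun x => by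
    by_cases hx : Q x = 0
    swap
    · exact hTc x hx
    obtain ⟨z, hz, hxz⟩ : ∃ z, Q z ≠ 0 ∧ Q (x + z) ≠ 0 := by
      by_cases h1 : Q (x + c₀) = 0
      swap
      · exact ⟨c₀, hc₀, h1⟩
      refine ⟨-c₀, by rwa [QuadraticMap.map_neg], fun h2 => ?_⟩
      rw [q_add, hx] at h1
      rw [q_add, hx, QuadraticMap.map_neg, map_neg] at h2
      exact hc₀ ((mul_eq_zero.1 (show (2 : F) * Q c₀ = 0 by linear_combination h1 + h2)).resolve_left two)
    obtain ⟨g1, g2⟩ := hTc z hz
    obtain ⟨k1, k2⟩ := hTc _ hxz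
    constructor
    · rw [show ((x, 0) : W × W) = (x + z, 0) - (z, 0) by simp, map_sub, k1, g1]
      simp [smul_add]
    · rw [show ((0, x) : W × W) = (0, x + z) - (0, z) by simp, map_sub, k2, g2]
      simp [smul_add]
  refine ⟨α, β, γ, δ, T, fun a b => ?_⟩
  rw [show ((a, b) : W × W) = (a, 0) + (0, b) by simp, map_add, (hall a).1, (hall b).2]
  simp

/-- every element preserves the decomposition, in dimension at least five -/
theorem inT (hO : Over Q X) (h5 : 5 ≤ finrank F W) (hD : ¬ Done Q X) {g : (W × W) ≃ₗ[F] (W × W)} (hg : g ∈ X) :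
    InT g :=
  hO.inT_of (hO.roomy_of_five h5) (fun _ _ _ => hO.no_twist h5 hD) hD hg

end Over

end Cfsg.Agent.ClassicalMax.SpTwo
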