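import Cfsg.Agent.ClassicalMax.SpTwo.Rad

/-!
Overgroups of `Sp₂ ⊗ O(Q)`: an element sending one pure anisotropic vector to a pure vector sends the whole plane over
the anisotropic vector to pure vectors, unless every transvection is present.
-/

set_option autoImplicit false
set_option linter.unusedSectionVars false

namespace Cfsg.Agent.ClassicalMax.SpTwo

open Module QuadraticMap Cfsg.Agent.Classical Cfsg.Agent.ClassicalMax

variable {F W : Type*} [Field F] [AddCommGroup W] [Module F W] [FiniteDimensional F W] {Q : QuadraticForm F W}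
  {X : Subgroup ((W × W) ≃ₗ[F] (W × W))}

namespace Over

theorem step_of_five (hO : Over Q X) (h5 : 5 ≤ finrank F W) : Step Q X := hO.step_of_sing fun a d _ _ _ => by
  obtain ⟨s, hs, hs0, hQs⟩ := hO.exists_singular (LinearMap.ker (pS Q a) ⊓ LinearMap.ker (pS Q d)) (by
    have e1 := finrank_inf_ker (⊤ : Submodule F W) (pS Q a)
    have e2 := finrank_inf_ker (⊤ ⊓ LinearMap.ker (pS Q a)) (pS Q d)
    rw [top_inf_eq] at e1 e2
    rw [finrank_top] at e1
    omega)
  exact ⟨s, hs0, hQs, hs.1, hs.2⟩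

theorem symP_conj (hO : Over Q X) {k : W ≃ₗ[F] W} (hk : k ∈ Quad.oG Q) (a d : W) :
    k.toLinearMap ∘ₗ symP Q a d ∘ₗ (k⁻¹ : W ≃ₗ[F] W).toLinearMap = symP Q (k a) (k d) :=
  LinearMap.ext fun x => by
    obtain ⟨y, rfl⟩ := k.surjective x
    simp only [LinearMap.comp_apply, LinearEquiv.coe_coe, Alt.inv_apply_self, symP_apply, map_add, map_smul, pS_apply,
      Quad.polar_eq_of_mem hk]

/-- the step in dimension at least four -/
theorem step_of_four (hO : Over Q X) (h4 : 4 ≤ finrank F W) : Step Q X := by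
  intro a d ha hQd had hD
  have two := hO.two
  have e1 := finrank_inf_ker (⊤ : Submodule F W) (pS Q a)
  rw [top_inf_eq, finrank_top] at e1
  obtain ⟨s, has', hs0, hQs⟩ := hO.exists_singular (LinearMap.ker (pS Q a)) (by omega)
  have has : pS Q a s = 0 := has'
  have hsn : s ∉ Submodule.span F ({a} : Set W) := fun hm => by
    obtain ⟨c, rfl⟩ := Submodule.mem_span_singleton.1 hm
    rw [map_smul, pS_self, smul_eq_mul, mul_eq_zero] at has
    exact hs0 (by rw [has.resolve_right (mul_ne_zero two ha), zero_smul])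
  obtain ⟨w, hw, hsw⟩ := Quad.exists_perp hO.nd hsn
  have haw : pS Q a w = 0 := hw a (Submodule.mem_span_singleton_self a)
  have hsw' : pS Q s w = 1 := hsw
  set t := w + (-Q w) • s with htd
  have hst : pS Q s t = 1 := by rw [htd, map_add, map_smul, hsw', pS_self, hQs, mul_zero, smul_zero, add_zero]
  have hat : pS Q a t = 0 := by rw [htd, map_add, map_smul, haw, has, smul_zero, add_zero]
  have hQt : Q t = 0 := by rw [htd, q_add, q_smul, hQs, map_smul, pS_symm, hsw', smul_eq_mul]; ring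
  have hts : pS Q t s = 1 := (pS_symm _ _).trans hst
  obtain ⟨e, hae, hse, hte, hQe⟩ : ∃ e, pS Q a e = 0 ∧ pS Q s e = 0 ∧ pS Q t e = 0 ∧ Q e ≠ 0 := by
    obtain ⟨z, hz, hz0⟩ : ∃ z ∈ LinearMap.ker (pS Q a) ⊓ LinearMap.ker (pS Q s) ⊓ LinearMap.ker (pS Q t), z ≠ 0 := by
      refine Submodule.exists_mem_ne_zero_of_ne_bot fun h0 => ?_
      have e2 := finrank_inf_ker (LinearMap.ker (pS Q a)) (pS Q s)
      have e3 := finrank_inf_ker (LinearMap.ker (pS Q a) ⊓ LinearMap.ker (pS Q s)) (pS Q t)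
      rw [h0, finrank_bot] at e3
      omega
    have z1 : pS Q a z = 0 := hz.1.1
    have z2 : pS Q s z = 0 := hz.1.2
    have z3 : pS Q t z = 0 := hz.2
    by_cases hQz : Q z = 0
    swap
    · exact ⟨z, z1, z2, z3, hQz⟩
    obtain ⟨v, -, hzv⟩ := Quad.exists_perp hO.nd (S := ⊥) (x := z) (by simpa using hz0)
    have hzv' : pS Q z v = 1 := hzv
    set v' := v - (pS Q a v / (2 * Q a)) • a - pS Q t v • s - pS Q s v • t with hv'
    have k1 : pS Q a v' = 0 := by
      rw [hv', map_sub, map_sub, map_sub, map_smul, map_smul, map_smul, has, hat, pS_self, smul_eq_mul,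
        div_mul_cancel₀ _ (mul_ne_zero two ha)]
      simp
    have k2 : pS Q s v' = 0 := by
      rw [hv', map_sub, map_sub, map_sub, map_smul, map_smul, map_smul, hst, pS_symm s a, has, pS_self, hQs]
      simp
    have k3 : pS Q t v' = 0 := by
      rw [hv', map_sub, map_sub, map_sub, map_smul, map_smul, map_smul, hts, pS_symm t a, hat, pS_self, hQt]
      simp
    have k4 : pS Q v' z = 1 := by
      rw [pS_symm, hv', map_sub, map_sub, map_sub, map_smul, map_smul, map_smul, hzv', pS_symm z a, z1, pS_symm z s, z2,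
        pS_symm z t, z3]
      simp
    refine ⟨v' + (1 - Q v') • z, by rw [map_add, map_smul, k1, z1, smul_zero, add_zero],
      by rw [map_add, map_smul, k2, z2, smul_zero, add_zero], by rw [map_add, map_smul, k3, z3, smul_zero, add_zero], ?_⟩
    rw [q_add, q_smul, hQz, map_smul, k4, smul_eq_mul, mul_zero, add_zero, mul_one, add_sub_cancel]
    exact one_ne_zero
  have hmove : ∀ d', pS Q a d' = 0 → Q d' = Q d → InR X (symP Q a d') := fun d' h1 h2 => by
    obtain ⟨k, hk, hka, hkd⟩ := hO.exists_map₂ (hO.indep_of_perp ha (fun h0 => hQd (by rw [h0, QuadraticMap.map_zero])) had)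
      (hO.indep_of_perp ha (fun h0 => hQd (by rw [← h2, h0, QuadraticMap.map_zero])) h1) rfl h2.symm (had.trans h1.symm)
    rw [← hka, ← hkd, ← hO.symP_conj hk]
    exact hO.inR_conj hD hk
  have m0 := hmove (s + Q d • t) (by rw [map_add, map_smul, has, hat, smul_zero, add_zero]) (by
    rw [q_add, q_smul, hQs, hQt, map_smul, hst, smul_eq_mul]; ring)
  have mc : ∀ c : F, c * c = 1 → InR X (symP Q a (s + (Q d - Q e) • t + c • e)) := fun c hc => hmove _ (by
    rw [map_add, map_add, map_smul, map_smul, has, hat, hae, smul_zero, smul_zero, add_zero, add_zero]) (by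
    simp only [q_add, q_smul, hQs, hQt, map_add, map_smul, LinearMap.add_apply, LinearMap.smul_apply, hst, hse, hte,
      smul_eq_mul]
    linear_combination (Q e) * hc)
  have h1 := hO.inR_smul (hO.inR_add (hO.inR_add (mc 1 (one_mul 1)) (mc (-1) (by ring))) (hO.inR_smul m0 (-2))) (-(2 * Q e))⁻¹
  have ht0 : t ≠ 0 := fun h0 => by rw [h0, map_zero] at hst; exact zero_ne_one hst
  refine hO.done_of_sing_prod ha ht0 hQt hat ?_
  convert h1 using 1
  refine LinearMap.ext fun x => ?_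
  simp only [LinearMap.add_apply, LinearMap.smul_apply, symP_apply, map_add, map_smul, LinearMap.add_apply,
    LinearMap.smul_apply]
  match_scalars <;> field_simp <;> ring

/-- an element fixing a pure anisotropic vector preserves its plane -/
theorem fix_pure (hO : Over Q X) (hstep : Step Q X) {y : (W × W) ≃ₗ[F] (W × W)} (hy : y ∈ X) {c : W} (hc : Q c ≠ 0)
    (hyc : y (c, 0) = (c, 0)) : Done Q X ∨ ∃ ν : F, y (0, c) = (ν • c, c) := by
  by_contra hne
  rw [not_or] at hne
  obtain ⟨hD, hν⟩ := hne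
  have two := hO.two
  set p : W × W := (c, 0) with hp
  set q₀ : W × W := (0, c) with hq₀
  set ν := pS Q c (y q₀).1 / (2 * Q c) with hνd
  set a₀ := (y q₀).1 - ν • c with ha₀
  set b := (y q₀).2 - c with hb
  have hca : pS Q c a₀ = 0 := by
    rw [ha₀, map_sub, map_smul, pS_self, smul_eq_mul, hνd, div_mul_cancel₀ _ (mul_ne_zero two hc), sub_self]
  have hcb : pS Q c b = 0 := by
    have h1 := hO.iso y hy p q₀
    rw [hyc] at h1
    simp only [hp, hq₀, fW_apply, map_zero, LinearMap.zero_apply, sub_zero] at h1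
    rw [hb, map_sub, h1, sub_self]
  set δ : W × W := (a₀, b) with hδ
  have hyq : y q₀ = q₀ + δ + ν • p := by
    rw [hδ, hp]
    ext <;> simp [ha₀, hb, hq₀]
  set l : F := -(Q c)⁻¹ with hl
  set r := Quad.refl hc with hr
  set E := y * rt r * y⁻¹ * rt r
  have hEX : E ∈ X := mul_mem (mul_mem (mul_mem hy (hO.rt_mem r (Quad.refl_mem hc))) (inv_mem hy))
    (hO.rt_mem r (Quad.refl_mem hc))
  have fpp : fW Q p p = 0 := fW_alt p
  have fpq : fW Q p q₀ = 2 * Q c := by simp [hp, hq₀, fW_apply, pS_self]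
  have fqp : fW Q q₀ p = -(2 * Q c) := by simp [hp, hq₀, fW_apply, pS_self]
  have fqq : fW Q q₀ q₀ = 0 := fW_alt q₀
  have fpδ : fW Q p δ = 0 := by simp [hp, hδ, fW_apply, hcb]
  have fδp : fW Q δ p = 0 := by simp [hp, hδ, fW_apply, pS_symm b c, hcb]
  have fqδ : fW Q q₀ δ = 0 := by simp [hq₀, hδ, fW_apply, hca]
  have fδδ : fW Q δ δ = 0 := fW_alt δ
  have hrt : ∀ w : W × W, rt r w = w - (Q c)⁻¹ • (fW Q w q₀ • p - fW Q w p • q₀) := fun w => by
    rw [rt_apply, hr, Quad.refl_apply, Quad.refl_apply, ← pS_apply, ← pS_apply]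
    ext <;> simp [hp, hq₀, fW_apply, div_eq_inv_mul, smul_smul]
  have hE : ∀ x, E x = x + l • (fW Q x p • δ + fW Q x δ • p) := fun x => by
    show y (rt r (y⁻¹ (rt r x))) = _
    set z := rt r x with hz
    obtain ⟨w, hw⟩ := y.surjective z
    rw [← hw, Alt.inv_apply_self, hrt, map_sub, map_smul, map_sub, map_smul, map_smul, hyc,
      ← hO.iso y hy w q₀, ← hO.iso y hy w p, hyc, hw, hyq, hz, hrt]
    simp only [map_add, map_sub, map_smul, LinearMap.add_apply, LinearMap.sub_apply, LinearMap.smul_apply, fpp, fpq,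
      fqp, fqq, fpδ, fqδ, smul_eq_mul, hl]
    match_scalars <;> field_simp <;> ring
  -- conjugates by elements fixing `p`
  have hconj : ∀ k ∈ X, k p = p → ∀ x, (k * E * k⁻¹) x = x + l • (fW Q x p • k δ + fW Q x (k δ) • p) := by
    intro k hk hkp x
    obtain ⟨w, rfl⟩ := k.surjective x
    rw [LinearEquiv.mul_apply, LinearEquiv.mul_apply, Alt.inv_apply_self, hE, map_add, map_smul, map_add, map_smul,
      map_smul, hkp]
    have e1 := hO.iso k hk w p
    rw [hkp] at e1
    rw [e1, hO.iso k hk w δ]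
  have hdone : ∀ k ∈ X, k p = p → fW Q (k δ) δ ≠ 0 → False := by
    intro k hk hkp hne
    set δ' := k δ with hδ'
    set E' := k * E * k⁻¹
    have hE' := hconj k hk hkp
    have hE'X : E' ∈ X := mul_mem (mul_mem hk hEX) (inv_mem hk)
    have fδ'p : fW Q δ' p = 0 := by rw [hδ', ← hkp, hO.iso k hk, fδp]
    have fpδ' : fW Q p δ' = 0 := by rw [Alt.neg' fW_alt δ' p, fδ'p, neg_zero]
    have fskew : fW Q δ δ' = -fW Q δ' δ := Alt.neg' fW_alt _ _
    set c' := 2 * l * l * fW Q δ' δ with hc'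
    have hl0 : l ≠ 0 := neg_ne_zero.2 (inv_ne_zero hc)
    have hc'0 : c' ≠ 0 := mul_ne_zero (mul_ne_zero (mul_ne_zero two hl0) hl0) hne
    have heq : E * E' = Alt.tv (fW_alt (Q := Q)) p c' * (E' * E) := LinearEquiv.ext fun x => by
      show E (E' x) = Alt.tv (fW_alt (Q := Q)) p c' (E' (E x))
      rw [hE (E' x), hE' x, hE' (E x), hE x, Alt.tv_apply, ← hδ']
      simp only [map_add, map_smul, LinearMap.add_apply, LinearMap.smul_apply, fpp, fδp, fδ'p, fpδ, fpδ',
        smul_eq_mul, fskew, hc']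
      module
    have htX : Alt.tv (fW_alt (Q := Q)) p c' ∈ X := by
      have := mul_mem (mul_mem hEX hE'X) (inv_mem (mul_mem hE'X hEX))
      rwa [heq, mul_inv_cancel_right] at this
    refine hD (hO.rad_done hstep (M := (-c') • (pS Q c).smulRight c) ⟨_, htX, fun x => ?_⟩ ?_)
    · rw [Alt.tv_apply, fW_apply]
      ext
      · simp [hp, smul_smul, pS_symm x.2 c]
      · simp [hp]
    · rintro ⟨μ, hμ⟩
      obtain ⟨u, hu, hu0⟩ := (LinearMap.ker (pS Q c)).exists_mem_ne_zero_of_ne_bot (fun h0 => by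
        have e1 := finrank_inf_ker (⊤ : Submodule F W) (pS Q c)
        rw [top_inf_eq, h0, finrank_bot, finrank_top] at e1
        have := hO.dim
        omega)
      have h1 := hμ u
      simp only [LinearMap.smul_apply, LinearMap.smulRight_apply, show pS Q c u = 0 from hu, zero_smul, smul_zero] at h1
      have hμ0 : μ = 0 := (smul_eq_zero.1 h1.symm).resolve_right hu0
      have h2 := hμ c
      simp only [hμ0, LinearMap.smul_apply, LinearMap.smulRight_apply, pS_self, zero_smul, smul_smul, smul_eq_zero] at h2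
      rcases h2 with h2 | h2
      · exact mul_ne_zero (neg_ne_zero.2 hc'0) (mul_ne_zero two hc) h2
      · exact hc (by rw [h2, QuadraticMap.map_zero])
  by_cases hb0 : b = 0
  · by_cases ha0 : a₀ = 0
    · exact hν ⟨ν, by rw [hyq, hq₀, hδ, hp, hb0, ha0]; ext <;> simp⟩
    refine hD (hO.rad_done hstep (M := (-l) • symP Q c a₀) ⟨_, hEX, fun x => ?_⟩ ?_)
    · rw [hE, hδ, hb0, fW_apply, fW_apply]
      ext
      · simp only [hp, Prod.fst_add, Prod.smul_fst, LinearMap.smul_apply, symP_apply, map_zero, LinearMap.zero_apply,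
          zero_sub, pS_symm x.2 c, pS_symm x.2 a₀]
        module
      · simp [hp]
    · rintro ⟨μ, hμ⟩
      have h1 := congrArg (pS Q c) (hμ c)
      simp only [LinearMap.smul_apply, symP_apply, map_add, map_smul, hca, pS_self, pS_symm a₀ c, smul_eq_mul, mul_zero,
        zero_mul, add_zero] at h1
      have hμ0 : μ = 0 := (mul_eq_zero.1 h1.symm).resolve_right (mul_ne_zero two hc)
      have h2 := hμ c
      simp only [hμ0, LinearMap.smul_apply, symP_apply, pS_self, pS_symm a₀ c, hca, zero_smul, add_zero, smul_smul,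
        smul_eq_zero] at h2
      rcases h2 with h2 | h2
      · exact mul_ne_zero (neg_ne_zero.2 (neg_ne_zero.2 (inv_ne_zero hc))) (mul_ne_zero two hc) h2
      · exact ha0 h2
  by_cases hQb : Q b = 0
  swap
  · refine hdone _ (hO.sl_mem 1 1 0 1 (by ring)) (by rw [hp, sl_apply]; simp) ?_
    rw [hδ, sl_apply, fW_apply]
    simp only [one_smul, zero_smul, zero_add, map_add, LinearMap.add_apply, pS_self, pS_symm b a₀]
    rw [add_sub_cancel_left]
    exact mul_ne_zero two hQb
  · have hbc : b ∉ F ∙ c := fun hm => by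
      obtain ⟨t, ht⟩ := Submodule.mem_span_singleton.1 hm
      rw [← ht, map_smul, pS_self, smul_eq_mul, mul_eq_zero] at hcb
      exact hb0 (by rw [← ht, hcb.resolve_right (mul_ne_zero two hc), zero_smul])
    obtain ⟨w, hw, hbw⟩ := Quad.exists_perp hO.nd hbc
    have hbw' : pS Q b w = 1 := hbw
    have hcw : pS Q c w = 0 := hw c (Submodule.mem_span_singleton_self c)
    set b' := w + (-Q w) • b with hb'
    have hQb' : Q b' = 0 := by rw [hb', q_add, q_smul, hQb, map_smul, pS_symm, hbw', smul_eq_mul]; ring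
    have hcb' : pS Q c b' = 0 := by rw [hb', map_add, map_smul, hcw, hcb, smul_zero, add_zero]
    have hbb' : pS Q b b' = 1 := by rw [hb', map_add, map_smul, hbw', pS_self, hQb, mul_zero, smul_zero, add_zero]
    have hb'0 : b' ≠ 0 := fun h0 => by rw [h0, map_zero] at hbb'; exact zero_ne_one hbb'
    obtain ⟨k, hk, hkc, hkb⟩ := hO.exists_map₂ (hO.indep_of_perp hc hb0 hcb) (hO.indep_of_perp hc hb'0 hcb') rfl
      (hQb.trans hQb'.symm) (hcb.trans hcb'.symm)
    set t := 1 - (pS Q (k a₀) b - pS Q b' a₀) with ht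
    refine hdone (sl 1 t 0 1 (by ring) * rt k) (mul_mem (hO.sl_mem _ _ _ _ _) (hO.rt_mem k hk))
      (by rw [LinearEquiv.mul_apply, hp, rt_apply, hkc, map_zero, sl_apply]; simp) ?_
    rw [hδ, LinearEquiv.mul_apply, rt_apply, hkb, sl_apply, fW_apply]
    simp only [one_smul, zero_smul, zero_add, map_add, LinearMap.add_apply, map_smul, LinearMap.smul_apply, smul_eq_mul,
      pS_symm b' b, hbb', ht]
    intro e0
    exact one_ne_zero (α := F) (by linear_combination e0)

/-- a matrix of the first factor with a given first column -/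
theorem sl_move (hO : Over Q X) {α γ : F} (h : α ≠ 0 ∨ γ ≠ 0) :
    ∃ s ∈ X, (∀ x : W, s (x, 0) = (α • x, γ • x)) ∧
      (∀ w₁ w₂ : F, ∃ z₁ z₂ : F, ∀ x : W, s (w₁ • x, w₂ • x) = (z₁ • x, z₂ • x)) ∧
      ∀ w₁ w₂ : F, ∃ z₁ z₂ : F, ∀ x : W, s (z₁ • x, z₂ • x) = (w₁ • x, w₂ • x) := by
  obtain ⟨β, δ, hd⟩ : ∃ β δ : F, α * δ - β * γ = 1 := by
    rcases h with h | h
    · exact ⟨0, α⁻¹, by rw [mul_inv_cancel₀ h, zero_mul, sub_zero]⟩
    · exact ⟨-γ⁻¹, 0, by rw [mul_zero, zero_sub, neg_mul, neg_neg, inv_mul_cancel₀ h]⟩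
  refine ⟨_, hO.sl_mem α β γ δ hd, fun x => by rw [sl_apply]; simp, fun w₁ w₂ =>
    ⟨α * w₁ + β * w₂, γ * w₁ + δ * w₂, fun x => ?_⟩, fun w₁ w₂ => ⟨δ * w₁ - β * w₂, α * w₂ - γ * w₁, fun x => ?_⟩⟩
  · rw [sl_apply]
    ext <;> simp [add_smul, mul_smul]
  · rw [sl_apply]
    ext
    · have e1 : α * (δ * w₁ - β * w₂) + β * (α * w₂ - γ * w₁) = w₁ := by linear_combination w₁ * hd
      simp only [smul_smul, ← add_smul, e1]
    · have e1 : γ * (δ * w₁ - β * w₂) + δ * (α * w₂ - γ * w₁) = w₂ := by linear_combination w₂ * hd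
      simp only [smul_smul, ← add_smul, e1]

/-- pure to pure on one vector of an anisotropic plane gives pure to pure on the plane -/
theorem plane (hO : Over Q X) (hstep : Step Q X) {y : (W × W) ≃ₗ[F] (W × W)} (hy : y ∈ X) {c σ : W} (hc : Q c ≠ 0)
    {u₁ u₂ v₁ v₂ : F} (hu : u₁ ≠ 0 ∨ u₂ ≠ 0) (h : y (u₁ • c, u₂ • c) = (v₁ • σ, v₂ • σ)) :
    Done Q X ∨ ∀ w₁ w₂ : F, ∃ z₁ z₂ : F, y (w₁ • c, w₂ • c) = (z₁ • σ, z₂ • σ) := by
  by_contra hne
  rw [not_or] at hne
  obtain ⟨hD, hne⟩ := hne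
  refine hne fun w₁ w₂ => ?_
  clear hne
  obtain ⟨su, hsu, hsu0, -, hsui⟩ := hO.sl_move hu
  have hc0 : c ≠ 0 := fun h0 => hc (by rw [h0, QuadraticMap.map_zero])
  have hv : v₁ ≠ 0 ∨ v₂ ≠ 0 := by
    by_contra hv
    push Not at hv
    rw [hv.1, hv.2, zero_smul] at h
    have h0 := y.injective (h.trans (map_zero y).symm)
    rw [Prod.mk_eq_zero, smul_eq_zero, smul_eq_zero] at h0
    exact hu.elim (fun e => e (h0.1.resolve_right hc0)) (fun e => e (h0.2.resolve_right hc0))
  obtain ⟨sv, hsv, hsv0, hsvw, -⟩ := hO.sl_move hv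
  set y' := sv⁻¹ * y * su with hy'
  have hy'X : y' ∈ X := mul_mem (mul_mem (inv_mem hsv) hy) hsu
  have hy'c : y' (c, 0) = (σ, 0) := sv.injective (by
    rw [hy', LinearEquiv.mul_apply, LinearEquiv.mul_apply, Alt.apply_inv_self, hsu0, h, hsv0])
  clear_value y'
  set α := (y' (0, c)).1 with hα
  set β := (y' (0, c)).2 with hβ
  have hz : y' (0, c) = (α, β) := rfl
  have hσβ : pS Q σ β = 2 * Q c := by
    have h1 := hO.iso y' hy'X (c, 0) (0, c)
    rw [hy'c, hz] at h1
    simpa [fW_apply, pS_self] using h1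
  have hk : ∀ k ∈ X, k (σ, 0) = (σ, 0) → ∃ μ : F, k (α, β) = (α + μ • σ, β) := by
    intro k hk hkσ
    rcases hO.fix_pure hstep (y := y'⁻¹ * k * y') (mul_mem (mul_mem (inv_mem hy'X) hk) hy'X) hc
      (by rw [LinearEquiv.mul_apply, LinearEquiv.mul_apply, hy'c, hkσ, ← hy'c, Alt.inv_apply_self]) with h1 | ⟨μ, h1⟩
    · exact absurd h1 hD
    refine ⟨μ, ?_⟩
    have h2 := congrArg y' h1
    rw [LinearEquiv.mul_apply, LinearEquiv.mul_apply, Alt.apply_inv_self, hz] at h2
    rw [h2, show ((μ • c, c) : W × W) = μ • ((c, 0) : W × W) + (0, c) by ext <;> simp, map_add, map_smul, hy'c, hz]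
    ext <;> simp [add_comm]
  obtain ⟨b, hb⟩ : ∃ b : F, β = b • σ := by
    obtain ⟨μ, hμ⟩ := hk _ (hO.sl_mem 1 1 0 1 (by ring)) (by rw [sl_apply]; simp)
    rw [sl_apply, Prod.mk.injEq, one_smul, one_smul, add_right_inj] at hμ
    exact ⟨μ, hμ.1⟩
  have hQσ : Q σ ≠ 0 := fun h0 => by
    rw [hb, map_smul, pS_self, h0, mul_zero, smul_zero] at hσβ
    exact mul_ne_zero hO.two hc hσβ.symm
  obtain ⟨a, ha⟩ : ∃ a : F, α = a • σ := by
    by_contra! hno
    have hns : α ∉ F ∙ σ := fun hm => by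
      obtain ⟨t, ht⟩ := Submodule.mem_span_singleton.1 hm
      exact hno t ht.symm
    obtain ⟨w, hw, hαw⟩ := Quad.exists_perp hO.nd hns
    have hσw : pS Q σ w = 0 := hw σ (Submodule.mem_span_singleton_self σ)
    have hαw' : pS Q α w = 1 := hαw
    obtain ⟨e, hσe, hαe, hQe⟩ : ∃ e, pS Q σ e = 0 ∧ pS Q α e ≠ 0 ∧ Q e ≠ 0 := by
      by_cases hQw : Q w = 0
      swap
      · exact ⟨w, hσw, by rw [hαw']; exact one_ne_zero, hQw⟩
      -- a singular `w` is moved along a vector pairing with it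
      have hwσ : w ∉ F ∙ σ := fun hm => by
        obtain ⟨t, ht⟩ := Submodule.mem_span_singleton.1 hm
        rw [← ht, map_smul, pS_self, smul_eq_mul, mul_eq_zero] at hσw
        rw [← ht, hσw.resolve_right (mul_ne_zero hO.two hQσ), zero_smul, map_zero] at hαw'
        exact zero_ne_one hαw'
      obtain ⟨z, hz', hwz⟩ := Quad.exists_perp hO.nd hwσ
      have hwz' : pS Q w z = 1 := hwz
      set h := z + (1 - Q z) • w with hh
      have hQh : Q h = 1 := by rw [hh, q_add, q_smul, hQw, map_smul, pS_symm, hwz', smul_eq_mul]; ring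
      have hwh : pS Q w h = 1 := by rw [hh, map_add, map_smul, hwz', pS_self, hQw, mul_zero, smul_zero, add_zero]
      have hσh : pS Q σ h = 0 := by
        rw [hh, map_add, map_smul, show pS Q σ z = 0 from hz' σ (Submodule.mem_span_singleton_self σ), hσw, smul_zero,
          add_zero]
      by_cases hαh : pS Q α h = 0
      swap
      · exact ⟨h, hσh, hαh, by rw [hQh]; exact one_ne_zero⟩
      refine ⟨h + w, by rw [map_add, hσh, hσw, add_zero], by rw [map_add, hαh, hαw', zero_add]; exact one_ne_zero, ?_⟩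
      by_cases h20 : Q (h + w) = 0
      · rw [q_add, hQh, hQw, pS_symm, hwh, add_zero] at h20
        exact absurd (show (2 : F) = 0 by linear_combination h20) hO.two
      · exact h20
    obtain ⟨μ, hμ⟩ := hk _ (hO.rt_mem _ (Quad.refl_mem hQe)) (by
      rw [rt_apply, Quad.refl_fix hQe (by exact hσe), map_zero])
    rw [rt_apply, Prod.mk.injEq, Quad.refl_apply, ← pS_apply, sub_eq_add_neg, add_right_inj] at hμ
    have h1 := congrArg (pS Q e) hμ.1
    rw [map_neg, map_smul, map_smul, pS_self, pS_symm e σ, hσe, smul_zero, smul_eq_mul, neg_eq_zero] at h1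
    rcases mul_eq_zero.1 h1 with h2 | h2
    · exact hαe ((div_eq_zero_iff.1 h2).resolve_right hQe)
    · exact mul_ne_zero hO.two hQe h2
  -- back to `y`
  obtain ⟨z₁, z₂, hw⟩ := hsui w₁ w₂
  obtain ⟨t₁, t₂, ht⟩ := hsvw (z₁ + z₂ * a) (z₂ * b)
  refine ⟨t₁, t₂, ?_⟩
  rw [← ht, ← hw c]
  have h1 : y' (z₁ • c, z₂ • c) = ((z₁ + z₂ * a) • σ, (z₂ * b) • σ) := by
    rw [show ((z₁ • c, z₂ • c) : W × W) = z₁ • ((c, 0) : W × W) + z₂ • ((0, c) : W × W) by ext <;> simp, map_add,
      map_smul, map_smul, hy'c, hz, ha, hb]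
    ext <;> simp [add_smul, mul_smul]
  rw [← h1, hy', LinearEquiv.mul_apply, LinearEquiv.mul_apply, Alt.apply_inv_self]

end Over

end Cfsg.Agent.ClassicalMax.SpTwo
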