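import Cfsg.Agent.ClassicalMax.SpTwo.Basic

/-!
Overgroups of `Sp₂ ⊗ O(Q)`: a non-scalar element of the radical of the stabiliser of `W × 0` gives every transvection.
-/

set_option autoImplicit false
set_option linter.unusedSectionVars false

namespace Cfsg.Agent.ClassicalMax.SpTwo

open Module QuadraticMap Cfsg.Agent.Classical Cfsg.Agent.ClassicalMax

variable {F W : Type*} [Field F] [AddCommGroup W] [Module F W] [FiniteDimensional F W] {Q : QuadraticForm F W}
  {X : Subgroup ((W × W) ≃ₗ[F] (W × W))}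

namespace Over

/-- one transvection with a singular pure centre gives all of them -/
theorem done_of_singular (hO : Over Q X) {s : W} (hs : s ≠ 0) (hQs : Q s = 0) {c : F} (hc : c ≠ 0)
    (hmem : Alt.tv (fW_alt (Q := Q)) (s, 0) c ∈ X) : Done Q X := by
  set hA := fW_alt (Q := Q)
  have hsum : ∀ (v : W × W) (x y : F), Alt.tv hA v x ∈ X → Alt.tv hA v y ∈ X → Alt.tv hA v (x + y) ∈ X :=
    fun v x y hx hy => Alt.tv_add hA v x y ▸ mul_mem hx hy
  have hsq : ∀ μ : F, Alt.tv hA (s, 0) (μ ^ 2 * c) ∈ X := fun μ => by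
    rcases eq_or_ne μ 0 with rfl | hμ
    · rw [zero_pow two_ne_zero, zero_mul, Alt.tv_zero]; exact one_mem X
    have hm := hO.sl_mem μ 0 0 μ⁻¹ (by rw [mul_inv_cancel₀ hμ]; ring)
    have h1 := mul_mem (mul_mem hm hmem) (inv_mem hm)
    rwa [Alt.conj_tv hA (hO.iso _ hm), show sl μ 0 0 μ⁻¹ _ ((s, 0) : W × W) = μ • ((s, 0) : W × W) by
      rw [sl_apply]; ext <;> simp, Alt.tv_smul] at h1
  have hs0 : ((s, 0) : W × W) ∈ centres hA X := fun d => by
    obtain ⟨x, y, hxy⟩ := hO.val 1 1 (d / c) one_ne_zero one_ne_zero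
    have e : d = x ^ 2 * c + y ^ 2 * c := by
      rw [← add_mul, show x ^ 2 + y ^ 2 = d / c by linear_combination hxy, div_mul_cancel₀ _ hc]
    rw [e]
    exact hsum _ _ _ (hsq x) (hsq y)
  have hmap : ∀ {v : W × W}, v ∈ centres hA X → ∀ g ∈ X, g v ∈ centres hA X := fun hv g hg =>
    map_mem_centres hv hg (hO.iso g hg)
  -- singular pure vectors
  have hsing : ∀ x : W, Q x = 0 → ((x, 0) : W × W) ∈ centres hA X := fun x hx => by
    rcases eq_or_ne x 0 with rfl | hx0
    · exact zero_mem_centres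
    obtain ⟨k, hk, hkx⟩ := hO.exists_map hs hx0 (hQs.trans hx.symm)
    have := hmap hs0 _ (hO.rt_mem k hk)
    rwa [rt_apply, hkx, map_zero] at this
  have hswap : ∀ x : W, ((x, 0) : W × W) ∈ centres hA X → ((0, x) : W × W) ∈ centres hA X := fun x hx => by
    have := hmap hx _ (hO.sl_mem 0 (-1) 1 0 (by ring))
    rw [sl_apply] at this
    simpa using this
  -- the sum of two non-orthogonal singular vectors
  have hplus : ∀ x y : W, pS Q x y ≠ 0 → Q y = 0 → ((x, 0) : W × W) ∈ centres hA X → ((x + y, 0) : W × W) ∈ centres hA X := by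
    intro x y hxy hy hx
    have h1 := add_smul_mem_centres hx (hswap y (hsing y hy)) (by simpa [fW_apply] using hxy) 1
    have h2 := hmap h1 _ (hO.sl_mem 1 1 0 1 (by ring))
    rw [sl_apply] at h2
    simp only [one_smul, zero_smul, zero_add, Prod.mk_add_mk, add_zero, zero_add] at h2
    have h3 := add_smul_mem_centres h2 (hswap y (hsing y hy))
      (by simpa [fW_apply, pS_self, hy] using hxy) (-1)
    simpa using h3
  have hpure : ∀ x : W, ((x, 0) : W × W) ∈ centres hA X := fun x => by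
    by_cases hQx : Q x = 0
    · exact hsing x hQx
    have hx0 : x ≠ 0 := fun h => hQx (by rw [h, QuadraticMap.map_zero])
    obtain ⟨σ, hσ, hxσ⟩ : ∃ σ, Q σ = 0 ∧ pS Q x σ ≠ 0 := by
      obtain ⟨t, hst, hQt⟩ := hO.exists_partner hs hQs
      by_cases h1 : pS Q x s = 0
      swap
      · exact ⟨s, hQs, h1⟩
      by_cases h2 : pS Q x t = 0
      swap
      · exact ⟨t, hQt, h2⟩
      -- `s + (-Q x) • t + x` is singular and pairs with `x`
      refine ⟨s + (-Q x) • t + x, ?_, ?_⟩
      · rw [q_add, q_add, q_smul, hQs, hQt]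
        simp only [map_add, LinearMap.add_apply, map_smul, LinearMap.smul_apply, hst, pS_symm s x, h1, pS_symm t x, h2,
          smul_eq_mul, mul_zero, zero_add, add_zero, mul_one]
        ring
      · rw [map_add, map_add, map_smul, h1, h2, smul_zero, zero_add, zero_add, pS_self]
        exact mul_ne_zero hO.two hQx
    set μ := Q x / pS Q x σ with hμ
    have hμ0 : μ ≠ 0 := div_ne_zero hQx hxσ
    have h1 : Q (x + (-μ) • σ) = 0 := by
      rw [q_add, q_smul, hσ, map_smul, smul_eq_mul, hμ]; field_simp; ring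
    have := hplus (x + (-μ) • σ) (μ • σ) (by
      simp only [map_add, LinearMap.add_apply, map_smul, LinearMap.smul_apply, pS_self, hσ, mul_zero,
        smul_zero, add_zero, smul_eq_mul]
      exact mul_ne_zero hμ0 hxσ) (by rw [q_smul, hσ, mul_zero]) (hsing _ h1)
    rwa [add_assoc, ← add_smul, neg_add_cancel, zero_smul, add_zero] at this
  have hne : ∀ a b : W, pS Q a b ≠ 0 → ((a, b) : W × W) ∈ centres hA X := fun a b h => by
    simpa using add_smul_mem_centres (hpure a) (hswap b (hpure b)) (by simpa [fW_apply] using h) 1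
  rintro ⟨a, b⟩
  rcases eq_or_ne a 0 with rfl | ha
  · exact hswap b (hpure b)
  by_cases h : pS Q a b = 0
  swap
  · exact hne a b h
  obtain ⟨y, -, hy⟩ := Quad.exists_perp hO.nd (S := ⊥) (x := a) (by simpa using ha)
  have hy' : pS Q a y = 1 := hy
  have h1 := hne a (b - y) (by rw [map_sub, h, hy', zero_sub, neg_ne_zero]; exact one_ne_zero)
  simpa using add_smul_mem_centres h1 (hswap y (hpure y)) (by simp [fW_apply, hy']) 1

/-- `x ↦ (x.1 + M x.2, x.2)` is in the group -/
def InR (X : Subgroup ((W × W) ≃ₗ[F] (W × W))) (M : W →ₗ[F] W) : Prop :=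
  ∃ g ∈ X, ∀ x : W × W, g x = (x.1 + M x.2, x.2)

/-- the symmetric product of two vectors -/
noncomputable def symP (Q : QuadraticForm F W) (a d : W) : W →ₗ[F] W :=
  (pS Q a).smulRight d + (pS Q d).smulRight a

theorem symP_apply (a d x : W) : symP Q a d x = pS Q a x • d + pS Q d x • a := rfl

theorem inR_add (hO : Over Q X) {M M' : W →ₗ[F] W} (h : InR X M) (h' : InR X M') : InR X (M + M') := by
  obtain ⟨g, hg, e⟩ := h
  obtain ⟨g', hg', e'⟩ := h'
  refine ⟨g * g', mul_mem hg hg', fun x => ?_⟩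
  rw [LinearEquiv.mul_apply, e', e]
  simp only [LinearMap.add_apply]
  rw [add_comm (M x.2), add_assoc]

theorem inR_neg (hO : Over Q X) {M : W →ₗ[F] W} (h : InR X M) : InR X (-M) := by
  obtain ⟨g, hg, e⟩ := h
  refine ⟨g⁻¹, inv_mem hg, fun x => g.injective ?_⟩
  rw [Alt.apply_inv_self, e]
  simp

theorem inR_smul (hO : Over Q X) {M : W →ₗ[F] W} (h : InR X M) (c : F) : InR X (c • M) := by
  have hsq : ∀ μ : F, InR X (μ ^ 2 • M) := fun μ => by
    rcases eq_or_ne μ 0 with rfl | hμ
    · exact ⟨1, one_mem X, fun x => by simp⟩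
    obtain ⟨g, hg, e⟩ := h
    have hm := hO.sl_mem μ 0 0 μ⁻¹ (by rw [mul_inv_cancel₀ hμ]; ring)
    refine ⟨_, mul_mem (mul_mem hm hg) (inv_mem hm), fun x => ?_⟩
    obtain ⟨y, rfl⟩ := (sl μ 0 0 μ⁻¹ (by rw [mul_inv_cancel₀ hμ]; ring)).surjective x
    rw [LinearEquiv.mul_apply, LinearEquiv.mul_apply, Alt.inv_apply_self, e, sl_apply, sl_apply]
    ext
    · simp only [LinearMap.smul_apply, map_add, map_smul, zero_smul, add_zero, map_zero, zero_add, smul_add, smul_smul]
      congr 2
      field_simp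
    · simp
  obtain ⟨x, y, hxy⟩ := hO.val 1 1 c one_ne_zero one_ne_zero
  rw [show c = x ^ 2 + y ^ 2 by linear_combination -hxy, add_smul]
  exact hO.inR_add (hsq x) (hsq y)

theorem inR_conj (hO : Over Q X) {M : W →ₗ[F] W} (h : InR X M) {k : W ≃ₗ[F] W} (hk : k ∈ Quad.oG Q) :
    InR X (k.toLinearMap ∘ₗ M ∘ₗ (k⁻¹ : W ≃ₗ[F] W).toLinearMap) := by
  obtain ⟨g, hg, e⟩ := h
  refine ⟨_, mul_mem (mul_mem (hO.rt_mem k hk) hg) (inv_mem (hO.rt_mem k hk)), fun x => ?_⟩
  obtain ⟨y, rfl⟩ := (rt k).surjective x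
  rw [LinearEquiv.mul_apply, LinearEquiv.mul_apply, Alt.inv_apply_self, e, rt_apply, rt_apply]
  simp [Alt.inv_apply_self]

/-- a symmetric product with a singular factor -/
theorem done_of_sing_prod (hO : Over Q X) {a s : W} (ha : Q a ≠ 0) (hs : s ≠ 0) (hQs : Q s = 0) (has : pS Q a s = 0)
    (h : InR X (symP Q a s)) : Done Q X := by
  have hind := hO.indep_of_perp ha hs has
  have hind' : LinearIndependent F ![a + s, s] := by
    refine LinearIndependent.pair_iff.2 fun x y e => ?_
    have := LinearIndependent.pair_iff.1 hind x (x + y) (by rw [add_smul, ← add_assoc, ← smul_add, e])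
    exact ⟨this.1, by linear_combination this.2 - this.1⟩
  obtain ⟨k, hk, hka, hks⟩ := hO.exists_map₂ hind hind' (by rw [q_add, hQs, has]; ring) rfl
    (by rw [map_add, LinearMap.add_apply, pS_self, hQs, mul_zero, add_zero])
  have hconj : k.toLinearMap ∘ₗ symP Q a s ∘ₗ (k⁻¹ : W ≃ₗ[F] W).toLinearMap = symP Q (a + s) s :=
    LinearMap.ext fun x => by
      obtain ⟨y, rfl⟩ := k.surjective x
      simp only [LinearMap.comp_apply, LinearEquiv.coe_coe, Alt.inv_apply_self, symP_apply, map_add, map_smul, hka, hks]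
      have e1 : pS Q (a + s) (k y) = pS Q a y := by rw [← hka, pS_apply, pS_apply, Quad.polar_eq_of_mem hk]
      have e2 : pS Q s (k y) = pS Q s y := by
        conv_lhs => rw [← hks]
        rw [pS_apply, pS_apply, Quad.polar_eq_of_mem hk]
      rw [← map_add (pS Q), e1, e2]
  obtain ⟨g, hg, e⟩ := hO.inR_add (hconj ▸ hO.inR_conj h hk) (hO.inR_neg h)
  refine hO.done_of_singular hs hQs (c := -2) (neg_ne_zero.2 hO.two) ?_
  suffices Alt.tv (fW_alt (Q := Q)) (s, 0) (-2) = g from this ▸ hg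
  refine LinearEquiv.ext fun x => ?_
  rw [e, Alt.tv_apply, fW_apply]
  ext
  · simp only [Prod.fst_add, Prod.smul_fst, LinearMap.add_apply, LinearMap.neg_apply, symP_apply, map_add, LinearMap.add_apply,
      map_zero, zero_sub, pS_symm x.2 s]
    match_scalars <;> ring
  · simp

/-- the symmetric product of two orthogonal anisotropic vectors gives every transvection -/
def Step (Q : QuadraticForm F W) (X : Subgroup ((W × W) ≃ₗ[F] (W × W))) : Prop :=
  ∀ a d : W, Q a ≠ 0 → Q d ≠ 0 → pS Q a d = 0 → InR X (symP Q a d) → Done Q X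

/-- singular vectors orthogonal to the pair give the step -/
theorem step_of_sing (hO : Over Q X)
    (hsing : ∀ a d : W, Q a ≠ 0 → Q d ≠ 0 → pS Q a d = 0 → ∃ s, s ≠ 0 ∧ Q s = 0 ∧ pS Q a s = 0 ∧ pS Q d s = 0) :
    Step Q X := by
  intro a d ha hQd had hD
  obtain ⟨s, hs, hQs, has, hds⟩ := hsing a d ha hQd had
  have hd0 : d ≠ 0 := fun h => hQd (by rw [h, QuadraticMap.map_zero])
  -- move `d` to `d + s`
  have hds0 : d + s ≠ 0 := fun h0 => hQd (by
    rw [eq_neg_of_add_eq_zero_left h0, QuadraticMap.map_neg, hQs])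
  have had' : pS Q a (d + s) = 0 := by rw [map_add, had, has, add_zero]
  obtain ⟨k, hk, hka, hkd⟩ := hO.exists_map₂ (hO.indep_of_perp ha hd0 had) (hO.indep_of_perp ha hds0 had') rfl
    (by rw [q_add, hQs, hds]; ring) (by rw [had, had'])
  refine hO.done_of_sing_prod ha hs hQs has ?_
  obtain h1 := hO.inR_add (hO.inR_conj hD hk) (hO.inR_neg hD)
  suffices symP Q a s = k.toLinearMap ∘ₗ symP Q a d ∘ₗ (k⁻¹ : W ≃ₗ[F] W).toLinearMap + -symP Q a d from this ▸ h1
  refine LinearMap.ext fun x => ?_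
  obtain ⟨y, rfl⟩ := k.surjective x
  simp only [LinearMap.add_apply, LinearMap.neg_apply, LinearMap.comp_apply, LinearEquiv.coe_coe, Alt.inv_apply_self,
    symP_apply, map_add, map_smul, hka, hkd]
  have e1 : pS Q a (k y) = pS Q a y := by
    conv_lhs => rw [← hka]
    rw [pS_apply, pS_apply, Quad.polar_eq_of_mem hk]
  have e2 : pS Q d (k y) + pS Q s (k y) = pS Q d y := by
    rw [← LinearMap.add_apply, ← map_add, ← hkd, pS_apply, pS_apply, Quad.polar_eq_of_mem hk]
  rw [e1, ← e2]
  module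

/-- a non-scalar element of the radical gives every transvection -/
theorem rad_done (hO : Over Q X) (hstep : Step Q X)
    {M : W →ₗ[F] W} (h : InR X M) (hM : ¬ ∃ μ : F, ∀ x, M x = μ • x) : Done Q X := by
  -- `M` is self-adjoint
  obtain ⟨g, hg, e⟩ := h
  have hadj : ∀ x y, pS Q (M x) y = pS Q x (M y) := fun x y => by
    have h1 := hO.iso g hg (0, x) (0, y)
    rw [e, e, fW_apply, fW_apply] at h1
    simp only [zero_add, map_zero, LinearMap.zero_apply, sub_self, sub_eq_zero] at h1
    exact h1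
  obtain ⟨a, ha, hMa⟩ : ∃ a, Q a ≠ 0 ∧ ∀ μ : F, M a ≠ μ • a := by
    by_contra! hc
    obtain ⟨b, hb⟩ : ∃ b, Q b ≠ 0 := by
      by_contra! h0
      have := Quad.two_mul_finrank_le hO.nd (W := ⊤) (fun w _ => h0 w)
      rw [finrank_top] at this
      have := hO.dim
      omega
    obtain ⟨μ, hμ⟩ := hc b hb
    have hall : ∀ x, Q x ≠ 0 → M x = μ • x := fun x hx => by
      refine hO.aniso_conn (fun y => M y = μ • y) (fun y y' hy hy' hyy h => ?_) hb hx hμ
      obtain ⟨μ', hμ'⟩ := hc y' hy'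
      by_cases hdep : y' ∈ Submodule.span F {y}
      · obtain ⟨t, rfl⟩ := Submodule.mem_span_singleton.1 hdep
        rw [map_smul, h, smul_comm]
      have key : ∀ (t : F), t ≠ 0 → Q (y + t • y') ≠ 0 → M y' = μ • y' := fun t ht hq => by
        obtain ⟨ν, hν⟩ := hc _ hq
        rw [map_add, map_smul, h, hμ', smul_add, smul_smul, smul_smul, ← sub_eq_zero] at hν
        have hli : LinearIndependent F ![y, y'] := (LinearIndependent.pair_iff' (fun h0 => hy (by
          rw [h0, QuadraticMap.map_zero]))).2 fun c hcy => hdep (Submodule.mem_span_singleton.2 ⟨c, hcy⟩)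
        obtain ⟨h1, h2⟩ := LinearIndependent.pair_iff.1 hli (μ - ν) (t * μ' - ν * t) (by rw [← hν]; module)
        rw [sub_eq_zero] at h1
        rw [hμ', show μ' = μ from mul_left_cancel₀ ht (by linear_combination h2 - t * h1)]
      rcases hyy with h1 | h1
      · exact key 1 one_ne_zero (by rwa [one_smul])
      · exact key (-1) (neg_ne_zero.2 one_ne_zero) (by rwa [neg_one_smul, ← sub_eq_add_neg])
    refine hM ⟨μ, fun x => ?_⟩
    by_cases hx : Q x = 0
    swap
    · exact hall x hx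
    obtain ⟨z, hz⟩ : ∃ z, Q z ≠ 0 ∧ Q (x + z) ≠ 0 := by
      by_cases h1 : Q (x + b) = 0
      swap
      · exact ⟨b, hb, h1⟩
      refine ⟨-b, by rwa [QuadraticMap.map_neg], fun h2 => ?_⟩
      rw [q_add, hx] at h1
      rw [q_add, hx, QuadraticMap.map_neg, map_neg] at h2
      exact hb ((mul_eq_zero.1 (show (2 : F) * Q b = 0 by linear_combination h1 + h2)).resolve_left hO.two)
    have h1 := hall _ hz.2
    rw [map_add, hall z hz.1, smul_add, add_left_inj] at h1
    exact h1
  -- the difference with a conjugate by a reflection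
  set c := pS Q a (M a) / (2 * Q a) with hc
  set d := M a - c • a with hd
  have had : pS Q a d = 0 := by
    rw [hd, map_sub, map_smul, pS_self, smul_eq_mul, hc, div_mul_cancel₀ _ (mul_ne_zero hO.two ha), sub_self]
  have hd0 : d ≠ 0 := fun h0 => hMa c (sub_eq_zero.1 h0)
  have hD : InR X (symP Q a d) := by
    set r := Quad.refl ha
    have h1 := hO.inR_smul (hO.inR_add ⟨g, hg, e⟩ (hO.inR_neg (hO.inR_conj ⟨g, hg, e⟩ (Quad.refl_mem ha)))) (Q a)
    clear_value d c
    suffices symP Q a d = Q a • (M + -(r.toLinearMap ∘ₗ M ∘ₗ (r⁻¹ : W ≃ₗ[F] W).toLinearMap)) from this ▸ h1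
    refine LinearMap.ext fun x => ?_
    have hr : (r⁻¹ : W ≃ₗ[F] W) x = x - (pS Q x a / Q a) • a := by
      show r.symm x = _
      rfl
    simp only [LinearMap.smul_apply, LinearMap.add_apply, LinearMap.neg_apply, LinearMap.comp_apply, LinearEquiv.coe_coe, hr]
    rw [Quad.refl_apply, ← pS_apply, map_sub, map_smul, symP_apply]
    have e1 : pS Q (M x) a = pS Q x d + c * pS Q x a := by
      rw [hadj, hd, map_sub, map_smul, smul_eq_mul]; ring
    have e2 : pS Q (M a) a = c * (2 * Q a) := by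
      rw [pS_symm, hc, div_mul_cancel₀ _ (mul_ne_zero hO.two ha)]
    rw [map_sub (pS Q), LinearMap.sub_apply, map_smul (pS Q), LinearMap.smul_apply, smul_eq_mul, e1, e2,
      show M a = d + c • a by rw [hd, sub_add_cancel], pS_symm a x, pS_symm d x]
    match_scalars <;> field_simp <;> ring
  by_cases hQd : Q d = 0
  · exact hO.done_of_sing_prod ha hd0 hQd had hD
  exact hstep a d ha hQd had hD

end Over

end Cfsg.Agent.ClassicalMax.SpTwo
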