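import Cfsg.Agent.ClassicalMax.SpTwo.ThreeBasic
import Cfsg.Agent.ClassicalMax.SpTwo.Bridge

/-!
Overgroups of `Sp₂ ⊗ O(Q)` for a three-dimensional second factor over a field with at least five elements: an element
outside the stabiliser gives every transvection.

For a fixed vector of the first factor the anisotropic vectors are covered by the subspaces of those whose images are
orthogonal to a given singular vector; at most three of these are planes, which is too few.
-/

set_option autoImplicit false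
set_option linter.unusedSectionVars false

namespace Cfsg.Agent.ClassicalMax.SpTwo

open Module QuadraticMap Cfsg.Agent.Classical Cfsg.Agent.ClassicalMax

variable {F W : Type*} [Field F] [Finite F] [AddCommGroup W] [Module F W] [FiniteDimensional F W]
  {Q : QuadraticForm F W} {X : Subgroup ((W × W) ≃ₗ[F] (W × W))}

namespace Over

/-- two orthogonal singular vectors are dependent -/
theorem singular_dep (hO : Over Q X) (h3 : finrank F W = 3) {x y : W} (hx : x ≠ 0) (hQx : Q x = 0) (hQy : Q y = 0)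
    (hxy : pS Q x y = 0) : ∃ t : F, t • x = y := by
  by_contra! hne
  have hli : LinearIndependent F ![x, y] := (LinearIndependent.pair_iff' hx).2 hne
  have h2 := Quad.two_mul_finrank_le hO.nd (W := Submodule.span F (Set.range ![x, y])) (fun w hw => by
    rw [Matrix.range_cons, Matrix.range_cons, Matrix.range_empty, Set.union_empty, Set.singleton_union] at hw
    obtain ⟨i, j, rfl⟩ := Submodule.mem_span_pair.1 hw
    simp [q_add, q_smul, hQx, hQy, hxy])
  rw [finrank_span_eq_card hli, Fintype.card_fin, h3] at h2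
  omega

/-- what is orthogonal to an independent pair is at most a line -/
theorem perp_pair_dep (hO : Over Q X) (h3 : finrank F W = 3) {p p' x y : W} (hpp : LinearIndependent F ![p, p'])
    (hx0 : x ≠ 0) (hx : pS Q p x = 0) (hx' : pS Q p' x = 0) (hy : pS Q p y = 0) (hy' : pS Q p' y = 0) :
    ∃ t : F, t • x = y := by
  set f : W →ₗ[F] F × F := (pS Q p).prod (pS Q p') with hf
  have hker : finrank F (LinearMap.ker f) ≤ 1 := by
    have h1 := f.finrank_range_add_finrank_ker
    have hsurj : LinearMap.range f = ⊤ := by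
      rw [LinearMap.range_eq_top]
      rintro ⟨i, j⟩
      have n1 : p ∉ F ∙ p' := fun hm => by
        obtain ⟨t, ht⟩ := Submodule.mem_span_singleton.1 hm
        exact one_ne_zero (LinearIndependent.pair_iff.1 hpp 1 (-t) (by rw [← ht]; module)).1
      have n2 : p' ∉ F ∙ p := fun hm => by
        obtain ⟨t, ht⟩ := Submodule.mem_span_singleton.1 hm
        exact one_ne_zero (LinearIndependent.pair_iff.1 hpp (-t) 1 (by rw [← ht]; module)).2
      obtain ⟨w, hw, hpw⟩ := Quad.exists_perp hO.nd n1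
      obtain ⟨w', hw', hpw'⟩ := Quad.exists_perp hO.nd n2
      have a1 : pS Q p w = 1 := hpw
      have a2 : pS Q p' w = 0 := hw p' (Submodule.mem_span_singleton_self _)
      have b1 : pS Q p' w' = 1 := hpw'
      have b2 : pS Q p w' = 0 := hw' p (Submodule.mem_span_singleton_self _)
      exact ⟨i • w + j • w', by simp [hf, a1, a2, b1, b2]⟩
    rw [hsurj, finrank_top, Module.finrank_prod, Module.finrank_self, h3] at h1
    omega
  by_contra! hne
  have hli : LinearIndependent F ![x, y] := (LinearIndependent.pair_iff' hx0).2 hne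
  have hle : Submodule.span F (Set.range ![x, y]) ≤ LinearMap.ker f := Submodule.span_le.2 (by
    rintro z ⟨i, rfl⟩
    fin_cases i <;> simp [hf, hx, hx', hy, hy'])
  have := Submodule.finrank_mono hle
  rw [finrank_span_eq_card hli, Fintype.card_fin] at this
  omega

/-- three pairwise independent singular vectors are independent -/
theorem singular_indep (hO : Over Q X) (h3 : finrank F W = 3) {x y z : W} (hx : x ≠ 0) (hy : y ≠ 0) (hz : z ≠ 0)
    (hQx : Q x = 0) (hQy : Q y = 0) (hQz : Q z = 0) (hxy : ∀ t : F, t • x ≠ y) (hxz : ∀ t : F, t • x ≠ z)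
    (hyz : ∀ t : F, t • y ≠ z) : LinearIndependent F ![x, y, z] := by
  rw [Fintype.linearIndependent_iff]
  intro g hg
  simp only [Fin.sum_univ_three, Matrix.cons_val] at hg
  have hxy' : pS Q x y ≠ 0 := fun h => by
    obtain ⟨t, ht⟩ := hO.singular_dep h3 hx hQx hQy h
    exact hxy t ht
  have h2 : g 2 = 0 := by
    by_contra h2
    obtain ⟨i, j, e⟩ : ∃ i j : F, z = i • x + j • y := ⟨-(g 2)⁻¹ * g 0, -(g 2)⁻¹ * g 1, by
      rw [mul_smul, mul_smul, ← smul_add, neg_smul, ← smul_neg, eq_inv_smul_iff₀ h2]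
      linear_combination (norm := module) hg⟩
    have hq := hQz
    rw [e, q_add, q_smul, q_smul, hQx, hQy] at hq
    simp only [map_smul, LinearMap.smul_apply, mul_zero, add_zero, zero_add, smul_eq_mul, mul_eq_zero] at hq
    rcases hq with h | h | h
    · exact hxz i (by rw [e, h, zero_smul, add_zero])
    · exact hyz j (by rw [e, h, zero_smul, zero_add])
    · exact hxy' h
  rw [h2, zero_smul, add_zero] at hg
  obtain ⟨h0, h1⟩ := LinearIndependent.pair_iff.1 ((LinearIndependent.pair_iff' hx).2 hxy) _ _ hg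
  intro i
  fin_cases i
  · exact h0
  · exact h1
  · exact h2

/-- three pairwise independent singular vectors leave nothing orthogonal to all -/
theorem eq_zero_of_three (hO : Over Q X) (h3 : finrank F W = 3) {x y z v : W} (hli : LinearIndependent F ![x, y, z])
    (h1 : pS Q x v = 0) (h2 : pS Q y v = 0) (h3' : pS Q z v = 0) : v = 0 := by
  have htop := hli.span_eq_top_of_card_eq_finrank (by rw [Fintype.card_fin, h3])
  refine hO.perp_self_zero fun w => ?_
  obtain ⟨g, rfl⟩ := (Submodule.mem_span_range_iff_exists_fun F).1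
    (show w ∈ Submodule.span F (Set.range ![x, y, z]) from htop ▸ Submodule.mem_top)
  simp [Fin.sum_univ_three, map_add, map_smul, pS_symm v, h1, h2, h3']

/-- at most `q²` singular vectors -/
theorem card_singular_le (hO : Over Q X) (h3 : finrank F W = 3) [Fintype F] [Fintype W] [DecidableEq F] :
    (Finset.univ.filter fun v : W => Q v = 0).card ≤ Fintype.card F ^ 2 := by
  have two := hO.two
  obtain ⟨r, -, hr0, hQr⟩ := hO.exists_singular ⊤ (by rw [finrank_top, h3])
  obtain ⟨t, hrt, hQt⟩ := hO.exists_partner hr0 hQr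
  have htr : pS Q t r = 1 := (pS_symm _ _).trans hrt
  have hA : Q (r + t) = 1 := by rw [q_add, hQr, hQt, hrt, zero_add, zero_add]
  have hB : Q (r - t) = -1 := by
    rw [sub_eq_add_neg, q_add, QuadraticMap.map_neg, hQr, hQt, map_neg, hrt, zero_add, zero_add]
  have hAB : pS Q (r + t) (r - t) = 0 := by
    simp [map_add, map_sub, pS_self, hQr, hQt, hrt, htr]
  obtain ⟨e, he, hae, hde⟩ := hO.exists_third h3 (hA ▸ one_ne_zero) (hB ▸ neg_ne_zero.2 one_ne_zero) hAB
  have her : pS Q r e = 0 := by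
    refine (mul_eq_zero.1 (show (2 : F) * pS Q r e = 0 from ?_)).resolve_left two
    simp only [map_add, map_sub, LinearMap.add_apply, LinearMap.sub_apply] at hae hde
    linear_combination hae + hde
  have het : pS Q t e = 0 := by
    simp only [map_add, LinearMap.add_apply] at hae
    linear_combination hae - her
  have hexp : ∀ v, v = pS Q t v • r + pS Q r v • t + (pS Q e v / (2 * Q e)) • e := fun v => by
    conv_lhs => rw [hO.eq_of_frame h3 (hA ▸ one_ne_zero) (hB ▸ neg_ne_zero.2 one_ne_zero) he hAB hae hde v]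
    simp only [map_add, map_sub, LinearMap.add_apply, LinearMap.sub_apply, hA, hB]
    match_scalars <;> field_simp <;> ring
  have hq : ∀ v, Q v = 0 → pS Q t v * pS Q r v + (pS Q e v / (2 * Q e)) ^ 2 * Q e = 0 := fun v hv => by
    have := hexp v
    have h' := congrArg Q this
    rw [hv] at h'
    simp only [q_add, q_smul, map_add, map_smul, LinearMap.add_apply, LinearMap.smul_apply, smul_eq_mul, hQr, hQt,
      hrt, her, het, mul_zero, mul_one, add_zero, zero_add] at h'
    linear_combination -h'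
  calc (Finset.univ.filter fun v : W => Q v = 0).card ≤ (Finset.univ : Finset (F × F)).card := by
        refine Finset.card_le_card_of_injOn (fun v => if pS Q r v = 0 then (0, pS Q t v) else (pS Q r v, pS Q e v))
          (fun v _ => Finset.mem_coe.2 (Finset.mem_univ _)) fun v hv w hw h => ?_
        rw [Finset.coe_filter] at hv hw
        have hv' := hq v hv.2
        have hw' := hq w hw.2
        simp only at h
        split_ifs at h with h1 h2 h2
        · simp only [Prod.mk.injEq, true_and] at h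
          have e1 : pS Q e v = 0 := by
            rw [h1] at hv'
            simpa [two, he] using hv'
          have e2 : pS Q e w = 0 := by
            rw [h2] at hw'
            simpa [two, he] using hw'
          rw [hexp v, hexp w, h1, h2, h, e1, e2]
        · exact absurd (Prod.mk.injEq .. ▸ h).1.symm h2
        · exact absurd (Prod.mk.injEq .. ▸ h).1 h1
        · simp only [Prod.mk.injEq] at h
          have e1 : pS Q t v = pS Q t w := by
            refine mul_right_cancel₀ h2 ?_
            rw [h.1, h.2] at hv'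
            linear_combination hv' - hw'
          rw [hexp v, hexp w, h.1, h.2, e1]
    _ = Fintype.card F ^ 2 := by rw [Finset.card_univ, Fintype.card_prod]; ring

/-- some anisotropic plane goes to an anisotropic plane -/
theorem exists_good (hO : Over Q X) (h3 : finrank F W = 3) (hF : 5 ≤ Nat.card F) (hD : ¬ Done Q X)
    {g : (W × W) ≃ₗ[F] (W × W)} (hg : g ∈ X) : ∃ c, Q c ≠ 0 ∧
      ∃ (σ : W) (α β γ δ : F), g (c, 0) = (α • σ, γ • σ) ∧ g (0, c) = (β • σ, δ • σ) := by
  classical
  have : Fintype F := Fintype.ofFinite F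
  have : Finite W := Module.finite_of_finite F
  have : Fintype W := Fintype.ofFinite W
  have two := hO.two
  have hstep := hO.step_three h3 hF
  by_contra! hno
  have hno' : ∀ c, Q c ≠ 0 → ¬ ∃ (σ : W) (α β γ δ : F), g (c, 0) = (α • σ, γ • σ) ∧ g (0, c) = (β • σ, δ • σ) :=
    fun c hc ⟨σ, α, β, γ, δ, e1, e2⟩ => hno c hc σ α β γ δ e1 e2
  set P : W →ₗ[F] W := LinearMap.fst F W W ∘ₗ g.toLinearMap ∘ₗ LinearMap.inl F W W with hP
  set P' : W →ₗ[F] W := LinearMap.snd F W W ∘ₗ g.toLinearMap ∘ₗ LinearMap.inl F W W with hP'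
  have hgP : ∀ c, g (c, 0) = (P c, P' c) := fun c => rfl
  -- no pure anisotropic vector in the image
  have htarget : ∀ (c σ : W) (i j : F), (i ≠ 0 ∨ j ≠ 0) → Q σ ≠ 0 → g (c, 0) ≠ (i • σ, j • σ) := by
    intro c σ i j hij hσ h
    have hσ0 : σ ≠ 0 := fun h0 => hσ (by rw [h0, QuadraticMap.map_zero])
    have h' : g⁻¹ (i • σ, j • σ) = ((1 : F) • c, (0 : F) • c) := by
      rw [← h, Alt.inv_apply_self, one_smul, zero_smul]
    have hpl := (hO.plane hstep (inv_mem hg) hσ hij h').resolve_left hD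
    obtain ⟨α, γ, e1⟩ := hpl 1 0
    obtain ⟨β, δ, e2⟩ := hpl 0 1
    rw [one_smul, zero_smul] at e1 e2
    have hiso := hO.iso _ (inv_mem hg) (σ, 0) (0, σ)
    rw [e1, e2, fW_apply, fW_apply] at hiso
    simp only [map_smul, LinearMap.smul_apply, smul_eq_mul, pS_self, map_zero, LinearMap.zero_apply, sub_zero] at hiso
    have hc : Q c ≠ 0 := fun h0 => mul_ne_zero two hσ (by rw [← hiso, h0]; ring)
    refine hno' c hc (hO.good_of_pure hstep hD hg hc (u₁ := 1) (u₂ := 0) (Or.inl one_ne_zero) (σ := σ) (v₁ := i) (v₂ := j) ?_)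
    rw [one_smul, zero_smul]
    exact h
  have hindep : ∀ c, Q c ≠ 0 → LinearIndependent F ![P c, P' c] := fun c hc => by
    by_contra hdep
    have hc0 : g (c, 0) = g ((1 : F) • c, (0 : F) • c) := by rw [one_smul, zero_smul]
    by_cases h0 : P c = 0
    · exact hno' c hc (hO.good_of_pure hstep hD hg hc (Or.inl one_ne_zero) (v₁ := 0) (v₂ := 1) (σ := P' c)
        (by rw [← hc0, hgP, h0, zero_smul, one_smul]))
    · rw [LinearIndependent.pair_iff' h0] at hdep
      push Not at hdep
      obtain ⟨t, ht⟩ := hdep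
      exact hno' c hc (hO.good_of_pure hstep hD hg hc (Or.inl one_ne_zero) (v₁ := 1) (v₂ := t) (σ := P c)
        (by rw [← hc0, hgP, ht, one_smul]))
  let L : W → Submodule F W := fun x => LinearMap.ker (pS Q x ∘ₗ P) ⊓ LinearMap.ker (pS Q x ∘ₗ P')
  have hLmem : ∀ x c, c ∈ L x ↔ pS Q x (P c) = 0 ∧ pS Q x (P' c) = 0 := fun x c => Iff.rfl
  -- every anisotropic vector has a singular witness
  have hwit : ∀ c, Q c ≠ 0 → ∃ x, x ≠ 0 ∧ Q x = 0 ∧ c ∈ L x := by
    intro c hc
    obtain ⟨x, hx, hx0⟩ : ∃ x ∈ LinearMap.ker (pS Q (P c)) ⊓ LinearMap.ker (pS Q (P' c)), x ≠ 0 := by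
      refine Submodule.exists_mem_ne_zero_of_ne_bot fun h0 => ?_
      have e1 := finrank_inf_ker (⊤ : Submodule F W) (pS Q (P c))
      have e2 := finrank_inf_ker (⊤ ⊓ LinearMap.ker (pS Q (P c))) (pS Q (P' c))
      rw [top_inf_eq] at e1 e2
      rw [h0, finrank_bot] at e2
      rw [finrank_top] at e1
      omega
    have h1 : pS Q x (P c) = 0 := (pS_symm _ _).trans hx.1
    have h2 : pS Q x (P' c) = 0 := (pS_symm _ _).trans hx.2
    refine ⟨x, hx0, by_contra fun hQx => hno' c hc ?_, h1, h2⟩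
    exact hO.good_of_perp h3 hF hD hg hc hQx (hO.perp_plane hstep hD hg hc hQx (u₁ := 1) (u₂ := 0) (Or.inl one_ne_zero)
      (by rw [one_smul, zero_smul]; exact h1) (by rw [one_smul, zero_smul]; exact h2))
  -- no such subspace is everything
  have htop : ∀ x, x ≠ 0 → Q x = 0 → L x ≠ ⊤ := by
    intro x hx0 hQx htop
    have hall : ∀ c, pS Q x (P c) = 0 ∧ pS Q x (P' c) = 0 := fun c => (hLmem x c).1 (htop ▸ Submodule.mem_top)
    have hxx : pS Q x x = 0 := by rw [pS_self, hQx, mul_zero]
    have hline : ∀ p, pS Q x p = 0 → Q p = 0 → ∃ t : F, t • x = p := fun p hp hQp => hO.singular_dep h3 hx0 hQx hQp hp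
    have hk : ∀ (f f' : W →ₗ[F] W), (∀ c, pS Q x (f c) = 0 ∧ pS Q x (f' c) = 0) →
        (∀ c, f c = 0 → f' c = 0 → c = 0) → (∀ c i, Q i ≠ 0 → f c = i → f' c ≠ 0) → ∃ c, f c = x ∧ f' c = 0 := by
      intro f f' hperp hinj hno
      obtain ⟨c, hc, hc0⟩ : ∃ c ∈ LinearMap.ker f', c ≠ 0 := by
        refine Submodule.exists_mem_ne_zero_of_ne_bot fun h0 => ?_
        have h1 := f'.finrank_range_add_finrank_ker
        have h2 : LinearMap.range f' ≤ LinearMap.ker (pS Q x) := by
          rintro _ ⟨c, rfl⟩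
          exact (hperp c).2
        have h4 := Submodule.finrank_mono h2
        have h5 : finrank F (LinearMap.ker (pS Q x)) ≠ 3 := fun h => by
          have := Submodule.eq_top_of_finrank_eq (h.trans h3.symm)
          exact hx0 (hO.perp_self_zero fun y => (this ▸ Submodule.mem_top : y ∈ LinearMap.ker (pS Q x)))
        have h6 := Submodule.finrank_le (LinearMap.ker (pS Q x))
        rw [h0, finrank_bot] at h1
        omega
      have hc' : f' c = 0 := hc
      have hQp : Q (f c) = 0 := by_contra fun h => hno c (f c) h rfl hc'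
      obtain ⟨t, ht⟩ := hline _ (hperp c).1 hQp
      have ht0 : t ≠ 0 := fun h0 => hc0 (hinj c (by rw [← ht, h0, zero_smul]) hc')
      exact ⟨t⁻¹ • c, by rw [map_smul, ← ht, inv_smul_smul₀ ht0], by rw [map_smul, hc', smul_zero]⟩
    have hinj : ∀ c, P c = 0 → P' c = 0 → c = 0 := fun c h1 h2 => by
      have : g (c, 0) = g 0 := by rw [hgP, h1, h2, map_zero, Prod.mk_zero_zero]
      simpa using g.injective this
    obtain ⟨c₁, h11, h12⟩ := hk P P' hall hinj fun c i hi h1 h2 =>
      htarget c i 1 0 (Or.inl one_ne_zero) hi (by rw [hgP, h1, h2, one_smul, zero_smul])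
    obtain ⟨c₂, h21, h22⟩ := hk P' P (fun c => ⟨(hall c).2, (hall c).1⟩) (fun c h1 h2 => hinj c h2 h1) fun c i hi h1 h2 =>
      htarget c i 0 1 (Or.inr one_ne_zero) hi (by rw [hgP, h1, h2, one_smul, zero_smul])
    obtain ⟨c, -, hc⟩ := SetLike.exists_of_lt (show Submodule.span F ({c₁, c₂} : Set W) < ⊤ from lt_top_iff_ne_top.2 fun h => by
      have h1 : finrank F (Submodule.span F (Set.range ![c₁, c₂])) ≤ 2 :=
        (finrank_range_le_card (R := F) ![c₁, c₂]).trans (by simp)
      rw [show Set.range ![c₁, c₂] = ({c₁, c₂} : Set W) by simp [Set.pair_comm], h, finrank_top] at h1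
      omega)
    -- a component outside the line of `x`
    have key : ∀ (f f' : W →ₗ[F] W) (c : W), pS Q x (f c) = 0 → pS Q x (f' c) = 0 → (∀ t : F, t • x ≠ f c) →
        Q (f c) ≠ 0 ∧ ∃ i j : F, f' c = i • f c + j • x := by
      intro f f' c h1 h2 hne
      refine ⟨fun h0 => ?_, ?_⟩
      · obtain ⟨t, ht⟩ := hline _ h1 h0
        exact hne t ht
      · have hli : LinearIndependent F ![x, f c] := (LinearIndependent.pair_iff' hx0).2 hne
        have hle : Submodule.span F (Set.range ![x, f c]) ≤ LinearMap.ker (pS Q x) := Submodule.span_le.2 (by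
          rintro z ⟨i, rfl⟩
          fin_cases i
          · exact hxx
          · exact h1)
        have hlt : finrank F (LinearMap.ker (pS Q x)) ≤ 2 := by
          by_contra h
          have htop := Submodule.eq_top_of_finrank_eq (K := F) (S := LinearMap.ker (pS Q x))
            (by have := Submodule.finrank_le (LinearMap.ker (pS Q x)); omega)
          exact hx0 (hO.perp_self_zero fun y => (htop ▸ Submodule.mem_top : y ∈ LinearMap.ker (pS Q x)))
        have heq := Submodule.eq_of_le_of_finrank_le hle (by rw [finrank_span_eq_card hli, Fintype.card_fin]; exact hlt)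
        have hm : f' c ∈ LinearMap.ker (pS Q x) := h2
        rw [← heq, Matrix.range_cons, Matrix.range_cons, Matrix.range_empty, Set.union_empty, Set.singleton_union] at hm
        obtain ⟨j, i, hji⟩ := Submodule.mem_span_pair.1 hm
        exact ⟨i, j, by rw [← hji, add_comm]⟩
    have hin : ∀ i j : F, g (i • c₁ + j • c₂, 0) = (i • x, j • x) := fun i j => by
      rw [hgP, map_add, map_add, map_smul, map_smul, map_smul, map_smul, h11, h12, h21, h22, smul_zero, smul_zero,
        add_zero, zero_add]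
    by_cases hp : ∀ t : F, t • x ≠ P c
    · obtain ⟨hQ, i, j, hij⟩ := key P P' c (hall c).1 (hall c).2 hp
      refine htarget (c + (0 • c₁ + (-j) • c₂)) (P c) 1 i (Or.inl one_ne_zero) hQ ?_
      rw [show ((c + (0 • c₁ + (-j) • c₂), 0) : W × W) = (c, 0) + (((0 : F)) • c₁ + (-j) • c₂, 0) by simp, map_add,
        hin, hgP, hij]
      ext <;> simp
    · push Not at hp
      obtain ⟨t, ht⟩ := hp
      by_cases hp' : ∀ t : F, t • x ≠ P' c
      · obtain ⟨hQ, i, j, hij⟩ := key P' P c (hall c).2 (hall c).1 hp'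
        refine htarget (c + ((-t) • c₁ + (0 : F) • c₂)) (P' c) 0 1 (Or.inr one_ne_zero) hQ ?_
        rw [show ((c + ((-t) • c₁ + (0 : F) • c₂), 0) : W × W) = (c, 0) + ((-t) • c₁ + (0 : F) • c₂, 0) by simp, map_add,
          hin, hgP, ← ht]
        ext <;> simp
      · push Not at hp'
        obtain ⟨t', ht'⟩ := hp'
        refine hc ?_
        have : c = t • c₁ + t' • c₂ := by
          have h := hin t t'
          rw [ht, ht', ← hgP] at h
          exact (Prod.ext_iff.1 (g.injective h)).1.symm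
        rw [this]
        exact Submodule.add_mem _ (Submodule.smul_mem _ _ (Submodule.subset_span (by simp)))
          (Submodule.smul_mem _ _ (Submodule.subset_span (by simp)))
  -- two subspaces share no anisotropic vector
  have hmeet : ∀ x y c, x ≠ 0 → (∀ t : F, t • x ≠ y) → c ∈ L x → c ∈ L y → Q c = 0 := by
    intro x y c hx hxy hcx hcy
    by_contra hc
    obtain ⟨t, ht⟩ := hO.perp_pair_dep h3 (hindep c hc) hx ((pS_symm _ _).trans hcx.1) ((pS_symm _ _).trans hcx.2)
      ((pS_symm _ _).trans hcy.1) ((pS_symm _ _).trans hcy.2)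
    exact hxy t ht
  set q := Fintype.card F with hq
  have hq5 : 5 ≤ q := by rwa [hq, ← Nat.card_eq_fintype_card]
  set A := (Finset.univ : Finset W).filter fun c => Q c ≠ 0
  set S := (Finset.univ : Finset W).filter fun x => x ≠ 0 ∧ Q x = 0
  set big := S.filter fun x => 2 ≤ finrank F (L x)
  -- at most three planes
  have hbig : big.card ≤ 3 * (q - 1) := by
    have hbd : ∀ x ∈ big, x ≠ 0 ∧ Q x = 0 ∧ 2 ≤ finrank F (L x) := fun x hx => by
      simp only [big, S, Finset.mem_filter, Finset.mem_univ, true_and] at hx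
      exact ⟨hx.1.1, hx.1.2, hx.2⟩
    let line : W → Finset W := fun x => ((Finset.univ : Finset F).erase 0).image fun t => t • x
    have hline : ∀ x, (line x).card ≤ q - 1 := fun x =>
      Finset.card_image_le.trans (le_of_eq (by rw [Finset.card_erase_of_mem (Finset.mem_univ _), Finset.card_univ]))
    have hin : ∀ x y, y ≠ 0 → y ∉ line x → ∀ t : F, t • x ≠ y := fun x y hy h t ht =>
      h (Finset.mem_image.2 ⟨t, Finset.mem_erase.2 ⟨fun h0 => hy (by rw [← ht, h0, zero_smul]), Finset.mem_univ _⟩, ht⟩)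
    by_contra! hlt
    obtain ⟨x₀, hx₀⟩ : big.Nonempty := Finset.card_pos.1 (by omega)
    obtain ⟨x₁, hx₁, n01⟩ := Finset.exists_mem_notMem_of_card_lt_card (s := line x₀) (t := big) (by
      have := hline x₀; omega)
    obtain ⟨x₂, hx₂, n2⟩ := Finset.exists_mem_notMem_of_card_lt_card (s := line x₀ ∪ line x₁) (t := big) (by
      have := hline x₀; have := hline x₁; have := Finset.card_union_le (line x₀) (line x₁); omega)
    obtain ⟨x₃, hx₃, n3⟩ := Finset.exists_mem_notMem_of_card_lt_card (s := line x₀ ∪ line x₁ ∪ line x₂) (t := big) (by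
      have := hline x₀; have := hline x₁; have := hline x₂; have := Finset.card_union_le (line x₀) (line x₁)
      have := Finset.card_union_le (line x₀ ∪ line x₁) (line x₂); omega)
    rw [Finset.mem_union, not_or] at n2
    rw [Finset.mem_union, not_or, Finset.mem_union, not_or] at n3
    obtain ⟨z0, q0, d0⟩ := hbd _ hx₀
    obtain ⟨z1, q1, d1⟩ := hbd _ hx₁
    obtain ⟨z2, q2, d2⟩ := hbd _ hx₂
    obtain ⟨z3, q3, d3⟩ := hbd _ hx₃
    have e01 := hin _ _ z1 n01
    have e02 := hin _ _ z2 n2.1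
    have e12 := hin _ _ z2 n2.2
    have e03 := hin _ _ z3 n3.1.1
    have e13 := hin _ _ z3 n3.1.2
    have e23 := hin _ _ z3 n3.2
    have hd0 : finrank F (L x₀) ≤ 2 := by
      by_contra h
      exact htop x₀ z0 q0 (Submodule.eq_top_of_finrank_eq (by have := Submodule.finrank_le (L x₀); omega))
    have hpt : ∀ y, y ≠ 0 → 2 ≤ finrank F (L y) → (∀ t : F, t • x₀ ≠ y) → ∃ s, s ≠ 0 ∧ s ∈ L x₀ ∧ s ∈ L y ∧ Q s = 0 := by
      intro y hy hdy hne
      obtain ⟨s, hs, hs0⟩ : ∃ s ∈ L x₀ ⊓ L y, s ≠ 0 := Submodule.exists_mem_ne_zero_of_ne_bot fun h0 => by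
        have h1 := Submodule.finrank_sup_add_finrank_inf_eq (L x₀) (L y)
        have h2 := Submodule.finrank_le (L x₀ ⊔ L y)
        rw [h0, finrank_bot] at h1
        omega
      exact ⟨s, hs0, hs.1, hs.2, hmeet _ _ s z0 hne hs.1 hs.2⟩
    obtain ⟨s1, s10, s11, s12, s13⟩ := hpt _ z1 d1 e01
    obtain ⟨s2, s20, s21, s22, s23⟩ := hpt _ z2 d2 e02
    obtain ⟨s3, s30, s31, s32, s33⟩ := hpt _ z3 d3 e03
    have hdiff : ∀ {x y s s' : W}, LinearIndependent F ![x₀, x, y] → s' ≠ 0 → s ∈ L x₀ → s ∈ L x → s' ∈ L y →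
        ∀ t : F, t • s ≠ s' := by
      intro x y s s' hli hs' h1 h2 h3' t ht
      refine hs' ?_
      have a1 : s' ∈ L x₀ := ht ▸ Submodule.smul_mem _ t h1
      have a2 : s' ∈ L x := ht ▸ Submodule.smul_mem _ t h2
      have e1 := hO.eq_zero_of_three h3 hli a1.1 a2.1 h3'.1
      have e2 := hO.eq_zero_of_three h3 hli a1.2 a2.2 h3'.2
      have h4 : g (s', 0) = g 0 := by rw [hgP, e1, e2, map_zero, Prod.mk_zero_zero]
      simpa using g.injective h4
    have l12 := hO.singular_indep h3 z0 z1 z2 q0 q1 q2 e01 e02 e12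
    have l13 := hO.singular_indep h3 z0 z1 z3 q0 q1 q3 e01 e03 e13
    have l23 := hO.singular_indep h3 z0 z2 z3 q0 q2 q3 e02 e03 e23
    have hli := hO.singular_indep h3 s10 s20 s30 s13 s23 s33 (hdiff l12 s20 s11 s12 s22) (hdiff l13 s30 s11 s12 s32)
      (hdiff l23 s30 s21 s22 s32)
    have := Submodule.finrank_mono (show Submodule.span F (Set.range ![s1, s2, s3]) ≤ L x₀ from Submodule.span_le.2 (by
      rintro z ⟨i, rfl⟩
      fin_cases i <;> assumption))
    rw [finrank_span_eq_card hli, Fintype.card_fin] at this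
    omega
  -- the count
  have hsing : S.card ≤ q ^ 2 - 1 := by
    have h1 := hO.card_singular_le h3
    rw [← hq] at h1
    have h2 : S.card < ((Finset.univ : Finset W).filter fun v => Q v = 0).card := by
      refine Finset.card_lt_card (Finset.ssubset_iff_of_subset (fun x hx => ?_) |>.2 ⟨0, by simp, by simp [S]⟩)
      simp only [S, Finset.mem_filter] at hx ⊢
      exact ⟨hx.1, hx.2.2⟩
    omega
  have hA : q ^ 3 - q ^ 2 ≤ A.card := by
    have h1 := hO.card_singular_le h3
    rw [← hq] at h1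
    have h2 := Finset.card_filter_add_card_filter_not (s := (Finset.univ : Finset W)) (fun v => Q v = 0)
    rw [Finset.card_univ, Module.card_eq_pow_finrank (K := F) (V := W), h3, ← hq] at h2
    change q ^ 3 - q ^ 2 ≤ ((Finset.univ : Finset W).filter fun c => ¬Q c = 0).card
    omega
  let inc : W → W → Prop := fun c x => c ∈ L x
  have hlow : A.card * (q - 1) ≤ ∑ c ∈ A, (S.bipartiteAbove inc c).card := by
    rw [← smul_eq_mul, ← Finset.sum_const]
    refine Finset.sum_le_sum fun c hc => ?_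
    obtain ⟨x, hx0, hQx, hcx⟩ := hwit c (Finset.mem_filter.1 hc).2
    rw [hq, ← Finset.card_univ, ← Finset.card_erase_of_mem (Finset.mem_univ (0 : F))]
    refine Finset.card_le_card_of_injOn (fun t => t • x) (fun t ht => ?_) fun t _ t' _ h => smul_left_injective F hx0 h
    have ht0 : t ≠ 0 := (Finset.mem_erase.1 ht).1
    simp only [Finset.coe_bipartiteAbove, S, Finset.coe_filter, Set.mem_setOf_eq, Finset.mem_filter, Finset.mem_univ,
      true_and]
    refine ⟨⟨smul_ne_zero ht0 hx0, by rw [q_smul, hQx, mul_zero]⟩, ?_, ?_⟩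
    · simp [map_smul, ((hLmem x c).1 hcx).1]
    · simp [map_smul, ((hLmem x c).1 hcx).2]
  have hup : ∀ x ∈ S, (A.bipartiteBelow inc x).card ≤ if x ∈ big then q ^ 2 - 1 else q - 1 := by
    intro x hx
    have hx' : x ≠ 0 ∧ Q x = 0 := (Finset.mem_filter.1 hx).2
    have h1 : (A.bipartiteBelow inc x).card < q ^ finrank F (L x) := by
      rw [hq, ← Module.card_eq_pow_finrank (K := F) (V := L x), ← Finset.card_univ (α := L x)]
      have h2 : ((Finset.univ : Finset (L x)).map ⟨Subtype.val, Subtype.val_injective⟩).card = (Finset.univ : Finset (L x)).card :=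
        Finset.card_map _
      rw [← h2]
      refine Finset.card_lt_card (Finset.ssubset_iff_of_subset (fun c hc => ?_) |>.2 ⟨0, by simp, by simp [A]⟩)
      rw [Finset.mem_bipartiteBelow] at hc
      exact Finset.mem_map.2 ⟨⟨c, hc.2⟩, Finset.mem_univ _, rfl⟩
    have h3' : finrank F (L x) ≤ 2 := by
      by_contra h
      exact htop x hx'.1 hx'.2 (Submodule.eq_top_of_finrank_eq (by have := Submodule.finrank_le (L x); omega))
    split_ifs with hb
    · have := Nat.pow_le_pow_right (show 1 ≤ q by omega) h3'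
      omega
    · have h4 : finrank F (L x) ≤ 1 := by
        by_contra h
        exact hb (Finset.mem_filter.2 ⟨hx, by omega⟩)
      have := Nat.pow_le_pow_right (show 1 ≤ q by omega) h4
      rw [pow_one] at this
      omega
  have hsum := Finset.sum_le_sum hup
  rw [← Finset.sum_card_bipartiteAbove_eq_sum_card_bipartiteBelow, Finset.sum_ite, Finset.sum_const, Finset.sum_const,
    smul_eq_mul, smul_eq_mul, show S.filter (fun x => x ∈ big) = big by ext; simp +contextual [big]] at hsum
  have h5 := (hlow.trans hsum).trans (Nat.add_le_add (Nat.mul_le_mul_right _ hbig)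
    (Nat.mul_le_mul_right _ ((Finset.card_filter_le _ _).trans hsing)))
  have h6 := (Nat.mul_le_mul_right (q - 1) hA).trans h5
  rw [show 3 * (q - 1) * (q ^ 2 - 1) + (q ^ 2 - 1) * (q - 1) = 4 * (q ^ 2 - 1) * (q - 1) by ring] at h6
  have h7 : q ^ 3 - q ^ 2 ≤ 4 * (q ^ 2 - 1) := Nat.le_of_mul_le_mul_right h6 (by omega)
  have h8 : 5 * q ^ 2 ≤ q ^ 3 := by rw [pow_succ q 2, mul_comm (q ^ 2) q]; exact Nat.mul_le_mul_right _ hq5
  have h9 : 1 ≤ q ^ 2 := Nat.one_le_pow _ _ (by omega)
  omega

/-- every element preserves the decomposition -/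
theorem inT_three (hO : Over Q X) (h3 : finrank F W = 3) (hF : 5 ≤ Nat.card F) (hD : ¬ Done Q X)
    {g : (W × W) ≃ₗ[F] (W × W)} (hg : g ∈ X) : InT g := by
  have two := hO.two
  obtain ⟨c, hc, σ, α, β, γ, δ, hc1, hc2⟩ := hO.exists_good h3 hF hD hg
  -- what is orthogonal to a good vector is good
  have hperp : ∀ {c σ : W} {α β γ δ : F}, Q c ≠ 0 → g (c, 0) = (α • σ, γ • σ) → g (0, c) = (β • σ, δ • σ) →
      (α * δ - β * γ) * Q σ = Q c ∧ ∀ d, Q d ≠ 0 → pS Q c d = 0 →
        ∃ (τ : W) (α' β' γ' δ' : F), g (d, 0) = (α' • τ, γ' • τ) ∧ g (0, d) = (β' • τ, δ' • τ) ∧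
          ((α' * δ' - β' * γ') * Q τ = Q d ∧ pS Q σ τ = 0) := by
    intro c σ α β γ δ hc e1 e2
    have hdet : ∀ {c σ : W} {α β γ δ : F}, g (c, 0) = (α • σ, γ • σ) → g (0, c) = (β • σ, δ • σ) →
        (α * δ - β * γ) * Q σ = Q c := fun {c σ α β γ δ} e1 e2 => by
      have h1 := hO.iso g hg (c, 0) (0, c)
      rw [e1, e2, fW_apply, fW_apply] at h1
      simp only [map_smul, LinearMap.smul_apply, smul_eq_mul, pS_self, map_zero, LinearMap.zero_apply, sub_zero] at h1
      exact mul_left_cancel₀ two (by linear_combination h1)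
    have hcd := hdet e1 e2
    refine ⟨hcd, fun d hd hcd' => ?_⟩
    have hσ : Q σ ≠ 0 := right_ne_zero_of_mul (hcd.symm ▸ hc)
    have hne : α * δ - β * γ ≠ 0 := left_ne_zero_of_mul (hcd.symm ▸ hc)
    have hzero : ∀ w₁ w₂ : F, pS Q σ (g (w₁ • d, w₂ • d)).1 = 0 ∧ pS Q σ (g (w₁ • d, w₂ • d)).2 = 0 := by
      intro w₁ w₂
      have f1 := hO.iso g hg (w₁ • d, w₂ • d) (c, 0)
      have f2 := hO.iso g hg (w₁ • d, w₂ • d) (0, c)
      rw [e1, fW_apply, fW_apply] at f1
      rw [e2, fW_apply, fW_apply] at f2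
      simp only [map_smul, LinearMap.smul_apply, smul_eq_mul, pS_symm d c, hcd', map_zero, mul_zero, sub_zero,
        pS_symm _ σ] at f1 f2
      constructor
      · exact (mul_eq_zero.1 (show (α * δ - β * γ) * _ = 0 by linear_combination α * f2 - β * f1)).resolve_left hne
      · exact (mul_eq_zero.1 (show (α * δ - β * γ) * _ = 0 by linear_combination γ * f2 - δ * f1)).resolve_left hne
    obtain ⟨τ, α', β', γ', δ', d1, d2⟩ := hO.good_of_perp h3 hF hD hg hd hσ hzero
    refine ⟨τ, α', β', γ', δ', d1, d2, hdet d1 d2, ?_⟩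
    have hne' : α' * δ' - β' * γ' ≠ 0 := left_ne_zero_of_mul ((hdet d1 d2).symm ▸ hd)
    have z1 := hzero 1 0
    have z2 := hzero 0 1
    rw [one_smul, zero_smul, d1] at z1
    rw [one_smul, zero_smul, d2] at z2
    simp only [map_smul, smul_eq_mul] at z1 z2
    exact (mul_eq_zero.1 (show (α' * δ' - β' * γ') * _ = 0 by linear_combination α' * z2.2 - β' * z1.2)).resolve_left hne'
  obtain ⟨hdc, hgood⟩ := hperp hc hc1 hc2
  have hne0 : α * δ - β * γ ≠ 0 := left_ne_zero_of_mul (hdc.symm ▸ hc)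
  -- the matrices along an orthogonal pair are proportional
  have hprop : ∀ c d e : W, Q c ≠ 0 → Q d ≠ 0 → Q e ≠ 0 → pS Q c e = 0 → pS Q d e = 0 → pS Q c d = 0 →
      (∃ τ, g (c, 0) = (α • τ, γ • τ) ∧ g (0, c) = (β • τ, δ • τ)) →
      (∃ (τ : W) (α' β' γ' δ' : F), g (e, 0) = (α' • τ, γ' • τ) ∧ g (0, e) = (β' • τ, δ' • τ)) →
      ∃ τ, g (d, 0) = (α • τ, γ • τ) ∧ g (0, d) = (β • τ, δ • τ) := by
    rintro c d e hc hd he hce hde hcd ⟨τ, c1, c2⟩ ⟨ε, a1, a2, a3, a4, e1, e2⟩
    obtain ⟨hτd, hgc⟩ := hperp hc c1 c2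
    obtain ⟨τ', α', β', γ', δ', d1, d2, hτ'd, hττ'⟩ := hgc d hd hcd
    obtain ⟨l, hl, hlne⟩ := exists_sq_ne hF (-(Q c / Q d))
    obtain ⟨-, hge⟩ := hperp he e1 e2
    obtain ⟨ρ, α'', β'', γ'', δ'', s1, s2, -⟩ := hge (c + l • d) (by
      rw [q_add, q_smul, map_smul, hcd, smul_zero, add_zero]
      intro h0
      exact hlne (by field_simp; linear_combination h0)) (by
      rw [map_add, map_smul, pS_symm e c, pS_symm e d, hce, hde, smul_zero, add_zero])
    rw [show ((c + l • d, 0) : W × W) = (c, 0) + l • (d, 0) by simp, map_add, map_smul, c1, d1] at s1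
    rw [show ((0, c + l • d) : W × W) = (0, c) + l • (0, d) by simp, map_add, map_smul, c2, d2] at s2
    simp only [Prod.smul_mk, Prod.mk_add_mk, smul_smul, Prod.mk.injEq] at s1 s2
    have hτ : Q τ ≠ 0 := right_ne_zero_of_mul (hτd.symm ▸ hc)
    have hτ' : Q τ' ≠ 0 := right_ne_zero_of_mul (hτ'd.symm ▸ hd)
    have hkey : ∀ (x x' x'' : F), x • τ + (l * x') • τ' = x'' • ρ →
        x * (2 * Q τ) = x'' * pS Q τ ρ ∧ l * x' * (2 * Q τ') = x'' * pS Q τ' ρ := fun x x' x'' h => by
      have q1 := congrArg (pS Q τ) h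
      have q2 := congrArg (pS Q τ') h
      simp only [map_add, map_smul, pS_self, hττ', pS_symm τ' τ, smul_eq_mul, mul_zero, add_zero, zero_add] at q1 q2
      exact ⟨q1, q2⟩
    obtain ⟨q1, r1⟩ := hkey _ _ _ s1.1
    obtain ⟨q2, r2⟩ := hkey _ _ _ s2.1
    obtain ⟨q3, r3⟩ := hkey _ _ _ s1.2
    obtain ⟨q4, r4⟩ := hkey _ _ _ s2.2
    have hx : pS Q τ ρ ≠ 0 := fun h0 => by
      rw [h0, mul_zero, mul_eq_zero] at q1 q2 q3 q4
      have h2 := mul_ne_zero two hτ
      exact left_ne_zero_of_mul (hτd.symm ▸ hc) (by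
        rw [q1.resolve_right h2, q2.resolve_right h2]; ring)
    refine ⟨(Q τ * pS Q τ' ρ / (Q τ' * pS Q τ ρ * l)) • τ', ?_, ?_⟩
    · rw [d1, smul_smul, smul_smul]
      have p1 : α * (Q τ * pS Q τ' ρ / (Q τ' * pS Q τ ρ * l)) = α' := by
        field_simp
        refine mul_left_cancel₀ two ?_
        linear_combination pS Q τ' ρ * q1 - pS Q τ ρ * r1
      have p3 : γ * (Q τ * pS Q τ' ρ / (Q τ' * pS Q τ ρ * l)) = γ' := by
        field_simp
        refine mul_left_cancel₀ two ?_
        linear_combination pS Q τ' ρ * q3 - pS Q τ ρ * r3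
      rw [p1, p3]
    · rw [d2, smul_smul, smul_smul]
      have p2 : β * (Q τ * pS Q τ' ρ / (Q τ' * pS Q τ ρ * l)) = β' := by
        field_simp
        refine mul_left_cancel₀ two ?_
        linear_combination pS Q τ' ρ * q2 - pS Q τ ρ * r2
      have p4 : δ * (Q τ * pS Q τ' ρ / (Q τ' * pS Q τ ρ * l)) = δ' := by
        field_simp
        refine mul_left_cancel₀ two ?_
        linear_combination pS Q τ' ρ * q4 - pS Q τ ρ * r4
      rw [p2, p4]
  obtain ⟨d, hd, hcd⟩ := hO.exists_perp_one h3 c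
  obtain ⟨e, he, hce, hde⟩ := hO.exists_third h3 hc hd hcd
  have hgd : ∃ (τ : W) (α' β' γ' δ' : F), g (d, 0) = (α' • τ, γ' • τ) ∧ g (0, d) = (β' • τ, δ' • τ) := by
    obtain ⟨τ, a, b, a', b', h1, h2, -⟩ := hgood d hd hcd
    exact ⟨τ, a, b, a', b', h1, h2⟩
  have hge : ∃ (τ : W) (α' β' γ' δ' : F), g (e, 0) = (α' • τ, γ' • τ) ∧ g (0, e) = (β' • τ, δ' • τ) := by
    obtain ⟨τ, a, b, a', b', h1, h2, -⟩ := hgood e he hce
    exact ⟨τ, a, b, a', b', h1, h2⟩
  obtain ⟨τd, d1, d2⟩ := hprop c d e hc hd he hce hde hcd ⟨σ, hc1, hc2⟩ hge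
  obtain ⟨τe, e1, e2⟩ := hprop c e d hc he hd hcd ((pS_symm _ _).trans hde) hce ⟨σ, hc1, hc2⟩ hgd
  set D := α * δ - β * γ with hDd
  set T : W →ₗ[F] W := D⁻¹ • (δ • (LinearMap.fst F W W ∘ₗ g.toLinearMap ∘ₗ LinearMap.inl F W W) -
    β • (LinearMap.snd F W W ∘ₗ g.toLinearMap ∘ₗ LinearMap.inl F W W)) with hT
  have hTc : ∀ {z τ : W}, g (z, 0) = (α • τ, γ • τ) → T z = τ := fun {z τ} h1 => by
    simp only [hT, LinearMap.smul_apply, LinearMap.sub_apply, LinearMap.comp_apply, LinearMap.coe_fst, LinearMap.coe_snd,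
      LinearMap.inl_apply, LinearEquiv.coe_coe, h1, smul_smul, ← sub_smul]
    rw [show D⁻¹ * (δ * α - β * γ) = 1 by rw [hDd, mul_comm δ α, inv_mul_cancel₀ hne0], one_smul]
  refine ⟨α, β, γ, δ, T, fun a b => ?_⟩
  have hall : ∀ z, g (z, 0) = (α • T z, γ • T z) ∧ g (0, z) = (β • T z, δ • T z) := fun z => by
    have hz := hO.eq_of_frame h3 hc hd he hcd hce hde z
    generalize pS Q c z / (2 * Q c) = i at hz
    generalize pS Q d z / (2 * Q d) = j at hz
    generalize pS Q e z / (2 * Q e) = k at hz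
    subst hz
    constructor
    · rw [show ((i • c + j • d + k • e, 0) : W × W) = i • (c, 0) + j • (d, 0) + k • (e, 0) by simp, map_add, map_add,
        map_smul, map_smul, map_smul, hc1, d1, e1, map_add, map_add, map_smul, map_smul, map_smul, hTc hc1, hTc d1,
        hTc e1]
      ext <;> simp [smul_add, smul_comm i, smul_comm j, smul_comm k]
    · rw [show ((0, i • c + j • d + k • e) : W × W) = i • (0, c) + j • (0, d) + k • (0, e) by simp, map_add, map_add,
        map_smul, map_smul, map_smul, hc2, d2, e2, map_add, map_add, map_smul, map_smul, map_smul, hTc hc1, hTc d1,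
        hTc e1]
      ext <;> simp [smul_add, smul_comm i, smul_comm j, smul_comm k]
  rw [show ((a, b) : W × W) = (a, 0) + (0, b) by simp, map_add, (hall a).1, (hall b).2]
  simp

end Over

variable {m : ℕ} [Fintype F]

/-- the stabiliser of a decomposition `Sp₂ ⊗ O₃` is maximal when the field has at least five elements -/
theorem isMaximal_tensor_three (hodd : Odd (Fintype.card F)) (hq : 5 ≤ Fintype.card F)
    (e : (Fin m ⊕ Fin m) ≃ Fin 2 × Fin 3) (P : GL (Fin m ⊕ Fin m) F) (f₁ : (Fin 2 → F) → (Fin 2 → F) → F)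
    (f₂ : (Fin 3 → F) → (Fin 3 → F) → F) (hf₁ : Cfsg.Geo.IsSymplecticForm f₁) (hf₂ : Cfsg.Geo.IsSymmetricForm f₂)
    (hT : Cfsg.Geo.IsTensorFormStructure id (Cfsg.sympForm m F) f₁ f₂ e P) :
    Cfsg.Geo.IsMaximalIn (Cfsg.spGL m F) (Cfsg.Geo.tensorProductSubgroup 2 3 e P ⊓ Cfsg.spGL m F) :=
  isMaximal_of_inT le_rfl hodd e P f₁ f₂ hf₁ hf₂ hT fun _ _ _ hO hD _ hg =>
    hO.inT_three (by rw [Module.finrank_fintype_fun_eq_card, Fintype.card_fin])
      (by rwa [Nat.card_eq_fintype_card]) hD hg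

end Cfsg.Agent.ClassicalMax.SpTwo
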