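import Cfsg.Agent.ClassicalMax.SpTwo.Dich

/-!
Overgroups of `Sp₂ ⊗ O(Q)` for a three-dimensional second factor over a field with at least five elements: orthogonal
frames, the radical step, fixed planes, and the exclusion of twisted planes orthogonal to an anisotropic vector.
-/

set_option autoImplicit false
set_option linter.unusedSectionVars false

namespace Cfsg.Agent.ClassicalMax.SpTwo

open Module QuadraticMap Cfsg.Agent.Classical Cfsg.Agent.ClassicalMax

variable {F W : Type*} [Field F] [Finite F] [AddCommGroup W] [Module F W] [FiniteDimensional F W]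
  {Q : QuadraticForm F W} {X : Subgroup ((W × W) ≃ₗ[F] (W × W))}

theorem Over.symP_comm (a d : W) : Over.symP Q a d = Over.symP Q d a := by
  rw [Over.symP, Over.symP, add_comm]

theorem Over.sp_fix {a b : W} {ν : F} {h : W} (ha : pS Q a h = 0) (hb : pS Q b h = 0) :
    spR Q a b ν h = 0 ∧ spA Q a b ν h = h := by
  rw [spR_apply, spA_apply, ha, hb]; simp

/-- an element with a square different from a given one -/
theorem exists_sq_ne (hF : 5 ≤ Nat.card F) (k : F) : ∃ t : F, t ≠ 0 ∧ t ^ 2 ≠ k := by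
  classical
  by_cases hk : (1 : F) = k
  swap
  · exact ⟨1, one_ne_zero, by rwa [one_pow]⟩
  have : Fintype F := Fintype.ofFinite F
  obtain ⟨t, -, ht⟩ := Finset.exists_mem_notMem_of_card_lt_card (s := ({0, 1, -1} : Finset F)) (t := Finset.univ) (by
    rw [Finset.card_univ, ← Nat.card_eq_fintype_card]
    exact lt_of_le_of_lt Finset.card_le_three (by omega))
  simp only [Finset.mem_insert, Finset.mem_singleton, not_or] at ht
  refine ⟨t, ht.1, fun h => ?_⟩
  rw [← hk, sq_eq_one_iff] at h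
  exact h.elim ht.2.1 ht.2.2

namespace Over

/-- an anisotropic vector orthogonal to a given anisotropic one -/
theorem exists_perp_one (hO : Over Q X) (h3 : finrank F W = 3) (a : W) : ∃ d, Q d ≠ 0 ∧ pS Q a d = 0 := by
  by_contra! hall
  have := Quad.two_mul_finrank_le hO.nd (W := LinearMap.ker (pS Q a))
    fun w hw => by_contra fun h => hall w h hw
  have e1 := finrank_inf_ker (⊤ : Submodule F W) (pS Q a)
  rw [top_inf_eq, finrank_top] at e1
  omega

/-- an orthogonal pair and a third vector determine everything -/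
theorem eq_of_frame (hO : Over Q X) (h3 : finrank F W = 3) {a d e : W} (ha : Q a ≠ 0) (hd : Q d ≠ 0) (he : Q e ≠ 0)
    (had : pS Q a d = 0) (hae : pS Q a e = 0) (hde : pS Q d e = 0) (z : W) :
    z = (pS Q a z / (2 * Q a)) • a + (pS Q d z / (2 * Q d)) • d + (pS Q e z / (2 * Q e)) • e := by
  have two := hO.two
  have hli : LinearIndependent F ![a, d, e] := by
    rw [Fintype.linearIndependent_iff]
    intro g hg i
    simp only [Fin.sum_univ_three, Matrix.cons_val] at hg
    have e1 := congrArg (pS Q a) hg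
    have e2 := congrArg (pS Q d) hg
    have e3 := congrArg (pS Q e) hg
    simp only [map_add, map_smul, map_zero, smul_eq_mul, pS_self, had, hae, hde, pS_symm d a, pS_symm e a, pS_symm e d,
      mul_zero, add_zero, zero_add] at e1 e2 e3
    fin_cases i
    · exact (mul_eq_zero.1 e1).resolve_right (mul_ne_zero two ha)
    · exact (mul_eq_zero.1 e2).resolve_right (mul_ne_zero two hd)
    · exact (mul_eq_zero.1 e3).resolve_right (mul_ne_zero two he)
  have htop := hli.span_eq_top_of_card_eq_finrank (by rw [Fintype.card_fin, h3])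
  refine sub_eq_zero.1 (hO.perp_self_zero fun y => ?_)
  obtain ⟨g, rfl⟩ := (Submodule.mem_span_range_iff_exists_fun F).1
    (show y ∈ Submodule.span F (Set.range ![a, d, e]) from htop ▸ Submodule.mem_top)
  simp only [Fin.sum_univ_three, Matrix.cons_val, map_sub, map_add, map_smul, LinearMap.sub_apply, LinearMap.add_apply,
    LinearMap.smul_apply, smul_eq_mul, pS_self, had, hae, hde, pS_symm d a, pS_symm e a, pS_symm e d, pS_symm z a,
    pS_symm z d, pS_symm z e, mul_zero, add_zero, zero_add]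
  field_simp
  ring

/-- the third vector of an orthogonal frame -/
theorem exists_third (hO : Over Q X) (h3 : finrank F W = 3) {a d : W} (ha : Q a ≠ 0) (hd : Q d ≠ 0)
    (had : pS Q a d = 0) : ∃ e, Q e ≠ 0 ∧ pS Q a e = 0 ∧ pS Q d e = 0 := by
  obtain ⟨e, he, he0⟩ : ∃ e ∈ LinearMap.ker (pS Q a) ⊓ LinearMap.ker (pS Q d), e ≠ 0 := by
    refine Submodule.exists_mem_ne_zero_of_ne_bot fun h0 => ?_
    have e1 := finrank_inf_ker (⊤ : Submodule F W) (pS Q a)
    have e2 := finrank_inf_ker (⊤ ⊓ LinearMap.ker (pS Q a)) (pS Q d)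
    rw [top_inf_eq] at e1 e2
    rw [h0, finrank_bot] at e2
    rw [finrank_top] at e1
    omega
  refine ⟨e, fun hQe => he0 (hO.perp_self_zero fun y => ?_), he.1, he.2⟩
  have hea : pS Q a e = 0 := he.1
  have hed : pS Q d e = 0 := he.2
  have hli : LinearIndependent F ![a, d, e] := by
    rw [Fintype.linearIndependent_iff]
    intro g hg
    simp only [Fin.sum_univ_three, Matrix.cons_val] at hg
    have e1 := congrArg (pS Q a) hg
    have e2 := congrArg (pS Q d) hg
    simp only [map_add, map_smul, map_zero, smul_eq_mul, pS_self, had, hea, hed, pS_symm d a,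
      mul_zero, add_zero, zero_add] at e1 e2
    have g0 := (mul_eq_zero.1 e1).resolve_right (mul_ne_zero hO.two ha)
    have g1 := (mul_eq_zero.1 e2).resolve_right (mul_ne_zero hO.two hd)
    rw [g0, g1, zero_smul, zero_smul, zero_add, zero_add, smul_eq_zero] at hg
    intro i
    fin_cases i
    · exact g0
    · exact g1
    · exact hg.resolve_right he0
  have htop := hli.span_eq_top_of_card_eq_finrank (by rw [Fintype.card_fin, h3])
  obtain ⟨g, rfl⟩ := (Submodule.mem_span_range_iff_exists_fun F).1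
    (show y ∈ Submodule.span F (Set.range ![a, d, e]) from htop ▸ Submodule.mem_top)
  simp [Fin.sum_univ_three, map_add, map_smul, pS_symm e a, hea, pS_symm e d, hed, pS_self, hQe]

/-- a rotation in the plane of the last two vectors of a frame moves the symmetric product -/
theorem rot (hO : Over Q X) (hF : 5 ≤ Nat.card F) {a d e : W} (ha : Q a ≠ 0) (hd : Q d ≠ 0) (he : Q e ≠ 0)
    (had : pS Q a d = 0) (hae : pS Q a e = 0) (hde : pS Q d e = 0) (h : InR X (symP Q a d)) :
    InR X (symP Q a e) := by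
  obtain ⟨t, ht, htne⟩ := exists_sq_ne hF (-(Q d / Q e))
  have hD : Q d + t ^ 2 * Q e ≠ 0 := fun h0 => htne (by field_simp; linear_combination h0)
  set x := (Q d - t ^ 2 * Q e) / (Q d + t ^ 2 * Q e) with hx
  set y := 2 * t * Q d / (Q d + t ^ 2 * Q e) with hy
  have hy0 : y ≠ 0 := div_ne_zero (mul_ne_zero (mul_ne_zero hO.two ht) hd) hD
  set d' := x • d + y • e with hd'
  have hQd' : Q d' = Q d := by
    simp only [hd', q_add, q_smul, map_smul, LinearMap.smul_apply, hde, smul_eq_mul, mul_zero, add_zero, hx,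
      hy]
    field_simp
    ring
  have had' : pS Q a d' = 0 := by rw [hd', map_add, map_smul, map_smul, had, hae, smul_zero, smul_zero, add_zero]
  have hne : ∀ {z : W}, Q z ≠ 0 → z ≠ 0 := fun hz h0 => hz (by rw [h0, QuadraticMap.map_zero])
  obtain ⟨k, hk, hka, hkd⟩ := hO.exists_map₂ (hO.indep_of_perp ha (hne hd) had)
    (hO.indep_of_perp ha (hne (hQd'.symm ▸ hd)) had') rfl hQd'.symm (had.trans had'.symm)
  have hconj : k.toLinearMap ∘ₗ symP Q a d ∘ₗ (k⁻¹ : W ≃ₗ[F] W).toLinearMap = symP Q a d' := LinearMap.ext fun z => by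
    obtain ⟨w, rfl⟩ := k.surjective z
    have e1 : pS Q a (k w) = pS Q a w := by
      conv_lhs => rw [← hka]
      rw [pS_apply, pS_apply, Quad.polar_eq_of_mem hk]
    have e2 : pS Q d' (k w) = pS Q d w := by
      rw [← hkd, pS_apply, pS_apply, Quad.polar_eq_of_mem hk]
    simp only [LinearMap.comp_apply, LinearEquiv.coe_coe, Alt.inv_apply_self, symP_apply, map_add, map_smul, hka, hkd,
      e1, e2]
  have h1 := hO.inR_smul (hO.inR_add (hconj ▸ hO.inR_conj h hk) (hO.inR_neg (hO.inR_smul h x))) y⁻¹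
  suffices symP Q a e = y⁻¹ • (symP Q a d' + -(x • symP Q a d)) from this ▸ h1
  refine LinearMap.ext fun z => ?_
  simp only [hd', LinearMap.smul_apply, LinearMap.add_apply, LinearMap.neg_apply, symP_apply, map_add, map_smul,
    smul_eq_mul]
  match_scalars <;> field_simp <;> ring

/-- the radical step in dimension three -/
theorem step_three (hO : Over Q X) (h3 : finrank F W = 3) (hF : 5 ≤ Nat.card F) : Step Q X := by
  intro a d ha hd had h
  have two := hO.two
  obtain ⟨e, he, hae, hde⟩ := hO.exists_third h3 ha hd had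
  have hda : pS Q d a = 0 := (pS_symm _ _).trans had
  have hAE : InR X (symP Q a e) := hO.rot hF ha hd he had hae hde h
  have hDE : InR X (symP Q d e) := hO.rot hF hd ha he hda hde hae (symP_comm (Q := Q) a d ▸ h)
  by_cases hu : ∃ u : F, u ^ 2 * Q a + Q d = 0
  · obtain ⟨u, hu⟩ := hu
    refine hO.done_of_sing_prod (a := e) (s := u • a + d) he (fun h0 => ?_) ?_ ?_ ?_
    · have := congrArg (pS Q d) h0
      rw [map_add, map_smul, hda, smul_zero, zero_add, pS_self, map_zero] at this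
      exact mul_ne_zero two hd this
    · rw [q_add, q_smul, map_smul, LinearMap.smul_apply, had, smul_zero, add_zero]
      linear_combination hu
    · rw [map_add, map_smul, pS_symm e a, hae, pS_symm e d, hde, smul_zero, add_zero]
    · suffices symP Q e (u • a + d) = u • symP Q a e + symP Q d e from this ▸ hO.inR_add (hO.inR_smul hAE u) hDE
      refine LinearMap.ext fun z => ?_
      simp only [LinearMap.add_apply, LinearMap.smul_apply, symP_apply, map_add, map_smul, smul_eq_mul]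
      module
  push Not at hu
  -- the difference of the squares
  obtain ⟨t, ht, htne⟩ := exists_sq_ne hF (Q a / Q d)
  have hD : Q a + t ^ 2 * Q d ≠ 0 := fun h0 => hu t⁻¹ (by field_simp; linear_combination h0)
  set x := (Q a - t ^ 2 * Q d) / (Q a + t ^ 2 * Q d) with hx
  set y := 2 * t * Q a / (Q a + t ^ 2 * Q d) with hy
  have hy0 : y ≠ 0 := div_ne_zero (mul_ne_zero (mul_ne_zero two ht) ha) hD
  have hx0 : x ≠ 0 := div_ne_zero (fun h0 => htne (by field_simp; linear_combination -h0)) hD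
  have hconic : x ^ 2 * Q a + y ^ 2 * Q d = Q a := by rw [hx, hy]; field_simp; ring
  set a' := x • a + y • d with ha'
  set d' := (-(y * Q d) / Q a) • a + x • d with hd'
  have hQa' : Q a' = Q a := by
    simp only [ha', q_add, q_smul, map_smul, LinearMap.smul_apply, had, smul_eq_mul, mul_zero, add_zero]
    linear_combination hconic
  have hQd' : Q d' = Q d := by
    simp only [hd', q_add, q_smul, map_smul, LinearMap.smul_apply, had, smul_eq_mul, mul_zero, add_zero]
    field_simp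
    linear_combination hconic
  have had' : pS Q a' d' = 0 := by
    simp only [ha', hd', map_add, map_smul, LinearMap.add_apply, LinearMap.smul_apply, smul_eq_mul, had, hda, pS_self,
      mul_zero, add_zero, zero_add]
    field_simp
    ring
  have hne : ∀ {z : W}, Q z ≠ 0 → z ≠ 0 := fun hz h0 => hz (by rw [h0, QuadraticMap.map_zero])
  obtain ⟨k, hk, hka, hkd⟩ := hO.exists_map₂ (hO.indep_of_perp ha (hne hd) had)
    (hO.indep_of_perp (hQa'.symm ▸ ha) (hne (hQd'.symm ▸ hd)) had') hQa'.symm hQd'.symm (had.trans had'.symm)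
  have hconj : k.toLinearMap ∘ₗ symP Q a d ∘ₗ (k⁻¹ : W ≃ₗ[F] W).toLinearMap = symP Q a' d' := LinearMap.ext fun z => by
    obtain ⟨w, rfl⟩ := k.surjective z
    have e1 : pS Q a' (k w) = pS Q a w := by
      rw [← hka, pS_apply, pS_apply, Quad.polar_eq_of_mem hk]
    have e2 : pS Q d' (k w) = pS Q d w := by
      rw [← hkd, pS_apply, pS_apply, Quad.polar_eq_of_mem hk]
    simp only [LinearMap.comp_apply, LinearEquiv.coe_coe, Alt.inv_apply_self, symP_apply, map_add, map_smul, hka, hkd,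
      e1, e2]
  set D := Q d • symP Q a a - Q a • symP Q d d with hDdef
  have hDin : InR X D := by
    have h1 := hO.inR_smul (hO.inR_add (hconj ▸ hO.inR_conj h hk)
      (hO.inR_neg (hO.inR_smul h (x ^ 2 - y ^ 2 * Q d / Q a)))) (-(Q a / (x * y)))
    suffices D = (-(Q a / (x * y))) • (symP Q a' d' + -((x ^ 2 - y ^ 2 * Q d / Q a) • symP Q a d)) from this ▸ h1
    refine LinearMap.ext fun z => ?_
    simp only [hDdef, ha', hd', LinearMap.smul_apply, LinearMap.sub_apply, LinearMap.add_apply, LinearMap.neg_apply,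
      symP_apply, map_add, map_smul, LinearMap.add_apply, LinearMap.smul_apply, smul_eq_mul]
    match_scalars <;> field_simp <;> ring
  -- a singular vector with all components
  obtain ⟨p, r, hpr⟩ := hO.val _ _ (-Q e) ha hd
  set s := p • a + r • d + e with hs
  set a₀ := (r * Q d) • a + (-(p * Q a)) • d with ha₀
  have hQa₀ : Q a₀ = -(Q a * Q d * Q e) := by
    simp only [ha₀, q_add, q_smul, map_smul, LinearMap.smul_apply, had, smul_eq_mul, mul_zero, add_zero]
    linear_combination Q a * Q d * hpr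
  refine hO.done_of_sing_prod (a := a₀) (s := s) (hQa₀ ▸ neg_ne_zero.2 (mul_ne_zero (mul_ne_zero ha hd) he))
    (fun h0 => ?_) ?_ ?_ ?_
  · have := congrArg (pS Q e) h0
    simp only [hs, map_add, map_smul, smul_eq_mul, pS_symm e a, pS_symm e d, hae, hde, pS_self, map_zero, mul_zero,
      zero_add] at this
    exact mul_ne_zero two he this
  · simp only [hs, q_add, q_smul, map_add, LinearMap.add_apply, map_smul, LinearMap.smul_apply, smul_eq_mul, had, hae,
      hde, mul_zero, add_zero]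
    linear_combination hpr
  · simp only [hs, ha₀, map_add, map_smul, LinearMap.add_apply, LinearMap.smul_apply, smul_eq_mul, had, hda, hae, hde,
      pS_self, mul_zero, add_zero, zero_add]
    ring
  · suffices symP Q a₀ s = (p * r) • D + (r ^ 2 * Q d - p ^ 2 * Q a) • symP Q a d + (r * Q d) • symP Q a e +
        (-(p * Q a)) • symP Q d e from
      this ▸ hO.inR_add (hO.inR_add (hO.inR_add (hO.inR_smul hDin _) (hO.inR_smul h _)) (hO.inR_smul hAE _))
        (hO.inR_smul hDE _)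
    refine LinearMap.ext fun z => ?_
    simp only [hDdef, hs, ha₀, LinearMap.smul_apply, LinearMap.sub_apply, LinearMap.add_apply, symP_apply, map_add,
      map_smul, smul_eq_mul]
    module

/-- an element of order two fixing a pure anisotropic vector fixes its plane -/
theorem fix_plane (hO : Over Q X) (hstep : Step Q X) (hD : ¬ Done Q X) {s : (W × W) ≃ₗ[F] (W × W)} (hs : s ∈ X)
    (hss : ∀ z, s (s z) = z) {x : W} (hx : Q x ≠ 0) {u₁ u₂ : F} (hu : u₁ ≠ 0 ∨ u₂ ≠ 0)
    (hfix : s (u₁ • x, u₂ • x) = (u₁ • x, u₂ • x)) (w₁ w₂ : F) : s (w₁ • x, w₂ • x) = (w₁ • x, w₂ • x) := by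
  have two := hO.two
  obtain hpl := (hO.plane hstep hs hx hu hfix).resolve_left hD
  obtain ⟨z₁, z₂, hz⟩ := hpl w₁ w₂
  have hx0 : x ≠ 0 := fun h => hx (by rw [h, QuadraticMap.map_zero])
  have hpair := hO.iso s hs (u₁ • x, u₂ • x) (w₁ • x, w₂ • x)
  rw [hfix, hz] at hpair
  simp only [fW_apply, map_smul, LinearMap.smul_apply, smul_eq_mul, pS_self] at hpair
  have hdet : u₁ * (z₂ - w₂) = u₂ * (z₁ - w₁) :=
    mul_right_cancel₀ (mul_ne_zero two hx) (by linear_combination hpair)
  obtain ⟨t, ht1, ht2⟩ : ∃ t : F, z₁ = w₁ + t * u₁ ∧ z₂ = w₂ + t * u₂ := by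
    rcases hu with h | h
    · exact ⟨(z₁ - w₁) / u₁, by rw [div_mul_cancel₀ _ h]; ring, by
        rw [div_mul_eq_mul_div, ← mul_comm u₂, ← hdet, mul_div_cancel_left₀ _ h]; ring⟩
    · exact ⟨(z₂ - w₂) / u₂, by rw [div_mul_eq_mul_div, ← mul_comm u₁, hdet, mul_div_cancel_left₀ _ h]; ring,
        by rw [div_mul_cancel₀ _ h]; ring⟩
  have hz' : s (w₁ • x, w₂ • x) = (w₁ • x, w₂ • x) + t • ((u₁ • x, u₂ • x) : W × W) := by
    rw [hz, ht1, ht2]; ext <;> simp [add_smul, mul_smul]
  have h2 := hss (w₁ • x, w₂ • x)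
  rw [hz', map_add, map_smul, hfix, hz', add_assoc, ← add_smul, add_eq_left, smul_eq_zero] at h2
  rcases h2 with ht | ht
  · rw [hz', (mul_eq_zero.1 (show (2 : F) * t = 0 by linear_combination ht)).resolve_left two, zero_smul, add_zero]
  · rw [hz', ht, smul_zero, add_zero]

/-- orthogonality to an anisotropic plane passes from one pure vector to its plane -/
theorem perp_plane (hO : Over Q X) (hstep : Step Q X) (hD : ¬ Done Q X) {g : (W × W) ≃ₗ[F] (W × W)} (hg : g ∈ X)
    {c x : W} (hc : Q c ≠ 0) (hx : Q x ≠ 0) {u₁ u₂ : F} (hu : u₁ ≠ 0 ∨ u₂ ≠ 0)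
    (h₁ : pS Q x (g (u₁ • c, u₂ • c)).1 = 0) (h₂ : pS Q x (g (u₁ • c, u₂ • c)).2 = 0) (w₁ w₂ : F) :
    pS Q x (g (w₁ • c, w₂ • c)).1 = 0 ∧ pS Q x (g (w₁ • c, w₂ • c)).2 = 0 := by
  set r := Quad.refl hx with hr
  have hrr : ∀ v : W, r (r v) = v := fun v => by
    rw [hr, Quad.refl_apply, Quad.refl_apply, ← pS_apply, ← pS_apply, map_sub, map_smul, LinearMap.sub_apply,
      LinearMap.smul_apply, pS_self, smul_eq_mul]
    match_scalars <;> field_simp <;> ring
  have hrx : ∀ v : W, r v = v → pS Q x v = 0 := fun v hv => by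
    rw [hr, Quad.refl_apply, sub_eq_self, smul_eq_zero, div_eq_zero_iff] at hv
    rw [pS_symm]
    rcases hv with (h | h) | h
    · exact h
    · exact absurd h hx
    · exact absurd (by rw [h, QuadraticMap.map_zero]) hx
  set s := g⁻¹ * rt r * g
  have hs : s ∈ X := mul_mem (mul_mem (inv_mem hg) (hO.rt_mem r (Quad.refl_mem hx))) hg
  have hfix : s (u₁ • c, u₂ • c) = (u₁ • c, u₂ • c) := by
    show g⁻¹ (rt r (g (u₁ • c, u₂ • c))) = _
    rw [rt_apply, Quad.refl_fix hx ((pS_symm _ _).trans h₁), Quad.refl_fix hx ((pS_symm _ _).trans h₂)]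
    exact g.injective (by rw [Alt.apply_inv_self])
  have hss : ∀ z, s (s z) = z := fun z => by
    show g⁻¹ (rt r (g (g⁻¹ (rt r (g z))))) = z
    rw [Alt.apply_inv_self, show rt r (rt r (g z)) = g z by rw [rt_apply, rt_apply, hrr, hrr], Alt.inv_apply_self]
  have h := congrArg g (hO.fix_plane hstep hD hs hss hc hu hfix w₁ w₂)
  change g (g⁻¹ (rt r (g (w₁ • c, w₂ • c)))) = _ at h
  rw [Alt.apply_inv_self, rt_apply, Prod.ext_iff] at h
  exact ⟨hrx _ h.1, hrx _ h.2⟩

/-- a pure image of one vector gives a pure image of the plane -/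
theorem good_of_pure (hO : Over Q X) (hstep : Step Q X) (hD : ¬ Done Q X) {g : (W × W) ≃ₗ[F] (W × W)} (hg : g ∈ X)
    {c σ : W} (hc : Q c ≠ 0) {u₁ u₂ v₁ v₂ : F} (hu : u₁ ≠ 0 ∨ u₂ ≠ 0)
    (h : g (u₁ • c, u₂ • c) = (v₁ • σ, v₂ • σ)) :
    ∃ (σ : W) (α β γ δ : F), g (c, 0) = (α • σ, γ • σ) ∧ g (0, c) = (β • σ, δ • σ) := by
  have hpl := (hO.plane hstep hg hc hu h).resolve_left hD
  obtain ⟨α, γ, e1⟩ := hpl 1 0
  obtain ⟨β, δ, e2⟩ := hpl 0 1
  rw [one_smul, zero_smul] at e1 e2
  exact ⟨σ, α, β, γ, δ, e1, e2⟩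

/-- twisted planes orthogonal to an anisotropic vector do not occur -/
theorem good_of_perp (hO : Over Q X) (h3 : finrank F W = 3) (hF : 5 ≤ Nat.card F) (hD : ¬ Done Q X)
    {g : (W × W) ≃ₗ[F] (W × W)} (hg : g ∈ X) {c x : W} (hc : Q c ≠ 0) (hx : Q x ≠ 0)
    (hp : ∀ w₁ w₂ : F, pS Q x (g (w₁ • c, w₂ • c)).1 = 0 ∧ pS Q x (g (w₁ • c, w₂ • c)).2 = 0) :
    ∃ (σ : W) (α β γ δ : F), g (c, 0) = (α • σ, γ • σ) ∧ g (0, c) = (β • σ, δ • σ) := by
  have two := hO.two
  have hstep := hO.step_three h3 hF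
  by_contra hno
  have hnp : ∀ (w₁ w₂ v₁ v₂ : F) (σ : W), (w₁ ≠ 0 ∨ w₂ ≠ 0) → g (w₁ • c, w₂ • c) ≠ (v₁ • σ, v₂ • σ) :=
    fun w₁ w₂ v₁ v₂ σ hw h => hno (hO.good_of_pure hstep hD hg hc hw h)
  have hgw : ∀ w₁ w₂ : F, g (w₁ • c, w₂ • c) = w₁ • g (c, 0) + w₂ • g (0, c) := fun w₁ w₂ => by
    rw [← map_smul, ← map_smul, ← map_add]; simp
  have hp10 := hp 1 0
  have hp01 := hp 0 1
  rw [hgw, one_smul, zero_smul, add_zero] at hp10
  rw [hgw, zero_smul, one_smul, zero_add] at hp01
  set K := LinearMap.ker (pS Q x) with hK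
  have hKdim : finrank F K ≤ 2 := by
    by_contra hlt
    have htop : K = ⊤ := Submodule.eq_top_of_finrank_eq (by have := Submodule.finrank_le K; omega)
    have : x ∈ K := htop ▸ Submodule.mem_top
    exact mul_ne_zero two hx ((pS_self x).symm.trans this)
  have hli : LinearIndependent F ![(g (c, 0)).1, (g (0, c)).1] := LinearIndependent.pair_iff.2 fun s t h => by
    by_contra hne
    rw [not_and_or] at hne
    refine hnp s t 0 1 (s • (g (c, 0)).2 + t • (g (0, c)).2) hne ?_
    rw [hgw, zero_smul, one_smul]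
    ext
    · simpa using h
    · simp
  have hspan : ∀ v ∈ K, ∃ p q : F, p • (g (c, 0)).1 + q • (g (0, c)).1 = v := by
    have hle : Submodule.span F (Set.range ![(g (c, 0)).1, (g (0, c)).1]) ≤ K := Submodule.span_le.2 (by
      rintro z ⟨i, rfl⟩
      fin_cases i
      · exact hp10.1
      · exact hp01.1)
    have heq := Submodule.eq_of_le_of_finrank_le hle (by rw [finrank_span_eq_card hli, Fintype.card_fin]; exact hKdim)
    intro v hv
    rw [← heq, Matrix.range_cons, Matrix.range_cons, Matrix.range_empty, Set.union_empty, Set.singleton_union] at hv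
    exact Submodule.mem_span_pair.1 hv
  obtain ⟨p, r', hb1e⟩ := hspan _ hp10.2
  obtain ⟨q, s', hb2e⟩ := hspan _ hp01.2
  have hdet : ∀ t : F, (p - t) * (s' - t) - q * r' ≠ 0 := fun t h => by
    obtain ⟨w₁, w₂, hw, hw1, hw2⟩ : ∃ w₁ w₂ : F, (w₁ ≠ 0 ∨ w₂ ≠ 0) ∧ w₁ * (p - t) + w₂ * q = 0 ∧
        w₁ * r' + w₂ * (s' - t) = 0 := by
      by_cases h0 : q = 0 ∧ p - t = 0
      · by_cases h1 : r' = 0 ∧ s' - t = 0
        · exact ⟨1, 0, Or.inl one_ne_zero, by rw [h0.2]; ring, by rw [h1.1]; ring⟩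
        · refine ⟨s' - t, -r', ?_, by rw [h0.1, h0.2]; ring, by ring⟩
          by_contra! h2
          exact h1 ⟨neg_eq_zero.1 h2.2, h2.1⟩
      · refine ⟨q, -(p - t), ?_, by ring, by linear_combination -h⟩
        by_contra! h2
        exact h0 ⟨h2.1, neg_eq_zero.1 h2.2⟩
    refine hnp w₁ w₂ 1 t (w₁ • (g (c, 0)).1 + w₂ • (g (0, c)).1) hw ?_
    rw [hgw, one_smul]
    ext
    · simp
    · simp only [Prod.snd_add, Prod.smul_snd, ← hb1e, ← hb2e]
      linear_combination (norm := module) hw1 • (g (c, 0)).1 + hw2 • (g (0, c)).1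
  obtain ⟨a, b, ν, hab, hk, hν, ⟨s, hsX, hsx⟩, -, -, -, -, haK, hbK⟩ := hO.twist hg hc hli hb1e hb2e hdet
  have hspanK : Submodule.span F ({(g (c, 0)).1, (g (0, c)).1} : Set W) ≤ K := by
    rw [Submodule.span_le]
    rintro z (rfl | rfl)
    · exact hp10.1
    · exact hp01.1
  have hxa : pS Q x a = 0 := hspanK haK
  have hxb : pS Q x b = 0 := hspanK hbK
  have hax : pS Q a x = 0 := (pS_symm _ _).trans hxa
  have hbx : pS Q b x = 0 := (pS_symm _ _).trans hxb
  set κ := ν * Q a - Q b with hκ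
  set σ := pS Q a b with hσ
  set A := spA Q a b ν with hA
  set R := spR Q a b ν with hR
  set ρ := (σ ^ 2 - 4 * Q a * Q b) / κ ^ 2 with hρ
  obtain ⟨hRx, hAx⟩ := sp_fix (ν := ν) hax hbx
  have hν0 : ν ≠ 0 := fun h0 => hν 0 (by rw [h0]; ring)
  have hAa : A a = (-(ν * Q a + Q b) / κ) • a + (σ / κ) • b := by
    rw [hA, spA_apply, ← hκ, pS_self, pS_symm b a, ← hσ]
    match_scalars <;> field_simp <;> rw [hκ] <;> ring
  have hAb : A b = (-(ν * σ) / κ) • a + ((ν * Q a + Q b) / κ) • b := by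
    rw [hA, spA_apply, ← hκ, pS_self, ← hσ]
    match_scalars <;> field_simp <;> rw [hκ] <;> ring
  have hRa : R a = (σ / κ) • a + (-(2 * Q a) / κ) • b := by
    rw [hR, spR_apply, ← hκ, pS_self, pS_symm b a, ← hσ]
    match_scalars <;> field_simp
  have hRb : R b = (2 * Q b / κ) • a + (-σ / κ) • b := by
    rw [hR, spR_apply, ← hκ, pS_self, ← hσ]
    match_scalars <;> field_simp
  -- the identities on the plane orthogonal to `x`
  have hKspan : ∀ v, pS Q x v = 0 → ∃ i j : F, i • a + j • b = v := fun v hv => by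
    have hle : Submodule.span F (Set.range ![a, b]) ≤ K := Submodule.span_le.2 (by
      rintro z ⟨i, rfl⟩
      fin_cases i
      · exact hxa
      · exact hxb)
    have heq := Submodule.eq_of_le_of_finrank_le hle (by rw [finrank_span_eq_card hab, Fintype.card_fin]; exact hKdim)
    have hv' : v ∈ K := hv
    rw [← heq, Matrix.range_cons, Matrix.range_cons, Matrix.range_empty, Set.union_empty, Set.singleton_union] at hv'
    exact Submodule.mem_span_pair.1 hv'
  have key : ∀ v, pS Q x v = 0 → R (R v) = ρ • v ∧ A (A v) = (1 - ν * ρ) • v ∧ R (A v) = (-1 : F) • A (R v) := by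
    intro v hv
    obtain ⟨i, j, rfl⟩ := hKspan v hv
    refine ⟨?_, ?_, ?_⟩ <;>
      · simp only [map_add, map_smul, hAa, hAb, hRa, hRb, hρ]
        match_scalars <;> field_simp <;> (try simp only [hκ]) <;> ring
  have hperp : ∀ v, pS Q x v = 0 → pS Q x (A v) = 0 ∧ pS Q x (R v) = 0 := by
    intro v hv
    obtain ⟨i, j, rfl⟩ := hKspan v hv
    simp [map_add, map_smul, hAa, hAb, hRa, hRb, hxa, hxb]
  obtain ⟨a₀, ha₀, hxa₀⟩ := hO.exists_perp_one h3 x
  obtain ⟨b₀, hb₀, hxb₀, hab₀⟩ := hO.exists_third h3 hx ha₀ hxa₀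
  have hρ0 : ρ ≠ 0 := fun h0 => by
    -- the plane orthogonal to `x` is not degenerate
    have hdeg : σ ^ 2 - 4 * Q a * Q b = 0 := (div_eq_zero_iff.1 h0).resolve_right (pow_ne_zero 2 hk)
    obtain ⟨i, j, hij, hne⟩ : ∃ i j : F, (2 * Q a * i + σ * j = 0 ∧ σ * i + 2 * Q b * j = 0) ∧ (i ≠ 0 ∨ j ≠ 0) := by
      by_cases h1 : Q a = 0
      · have h2 : σ = 0 := pow_eq_zero_iff two_ne_zero |>.1 (by rw [h1] at hdeg; linear_combination hdeg)
        exact ⟨1, 0, ⟨by rw [h1]; ring, by rw [h2]; ring⟩, Or.inl one_ne_zero⟩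
      · exact ⟨σ, -(2 * Q a), ⟨by ring, by linear_combination hdeg⟩, Or.inr (neg_ne_zero.2 (mul_ne_zero two h1))⟩
    have za : pS Q (i • a + j • b) a = 0 := by
      simp only [map_add, map_smul, LinearMap.add_apply, LinearMap.smul_apply, smul_eq_mul, pS_self, pS_symm b a, ← hσ]
      linear_combination hij.1
    have zb : pS Q (i • a + j • b) b = 0 := by
      simp only [map_add, map_smul, LinearMap.add_apply, LinearMap.smul_apply, smul_eq_mul, pS_self, ← hσ]
      linear_combination hij.2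
    have zx : pS Q (i • a + j • b) x = 0 := by
      simp only [map_add, map_smul, LinearMap.add_apply, LinearMap.smul_apply, hax, hbx, smul_zero, add_zero]
    have hz : i • a + j • b = 0 := by
      refine hO.perp_self_zero fun y => ?_
      obtain ⟨i₁, j₁, e1⟩ := hKspan a₀ hxa₀
      obtain ⟨i₂, j₂, e2⟩ := hKspan b₀ hxb₀
      have z1 : pS Q (i • a + j • b) a₀ = 0 := by
        rw [← e1, map_add, map_smul, map_smul, za, zb, smul_zero, smul_zero, add_zero]
      have z2 : pS Q (i • a + j • b) b₀ = 0 := by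
        rw [← e2, map_add, map_smul, map_smul, za, zb, smul_zero, smul_zero, add_zero]
      rw [hO.eq_of_frame h3 hx ha₀ hb₀ hxa₀ hxb₀ hab₀ y]
      simp only [map_add (pS Q (i • a + j • b)), map_smul (pS Q (i • a + j • b)), zx, z1, z2, smul_zero, add_zero]
    exact hne.elim (fun h => h (LinearIndependent.pair_iff.1 hab i j hz).1)
      (fun h => h (LinearIndependent.pair_iff.1 hab i j hz).2)
  set J := A ∘ₗ R with hJ
  have hJv : ∀ v, J v = A (R v) := fun v => rfl
  -- the test element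
  have hy : ∀ t : F, ∃ y ∈ X, (∀ u₁ u₂ : F, y (u₁ • x, u₂ • x) = (u₁ • x, u₂ • x)) ∧
      ∀ v, pS Q x v = 0 → ∀ w₁ w₂ : F, y (w₁ • v, w₂ • v) =
        ((w₁ - t * ν * ρ * w₂) • v + (t * ν * (w₁ - t * w₂)) • J v,
          (t * ν ^ 2 * ρ * w₁ + (1 - t ^ 2 * ν ^ 2 * ρ) * w₂) • v + (-(t * ν * w₂)) • J v) := by
    intro t
    set m := (sl 1 t 0 1 (by ring) : (W × W) ≃ₗ[F] (W × W)) with hm
    have hmX : m ∈ X := hO.sl_mem _ _ _ _ _
    refine ⟨s * (m * s * m⁻¹), mul_mem hsX (mul_mem (mul_mem hmX hsX) (inv_mem hmX)), ?_⟩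
    have hyz : ∀ z : W × W, (s * (m * s * m⁻¹)) z = s (m (s (z.1 - t • z.2, z.2))) := fun z => by
      have e1 : m⁻¹ z = (z.1 - t • z.2, z.2) := m.injective (by
        rw [Alt.apply_inv_self, hm, sl_apply]; ext <;> simp)
      show s (m (s (m⁻¹ z))) = _
      rw [e1]
    refine ⟨fun u₁ u₂ => ?_, fun v hv w₁ w₂ => ?_⟩
    · rw [hyz]
      simp only [hsx, hm, sl_apply, hA, hR, map_sub, map_add, map_smul, map_zero, hRx, hAx, smul_zero, add_zero,
        zero_add, zero_smul, one_smul]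
      ext <;> module
    · obtain ⟨k1, k2, k3⟩ := key v hv
      rw [hyz]
      simp only [hsx, hm, sl_apply, map_sub, map_add, map_smul, ← hA, ← hR, k1, k2, k3, one_smul, zero_smul,
        zero_add, hJv]
      ext <;> module
  by_cases hA0 : ∀ v, pS Q x v = 0 → A v = 0
  · -- the twisted plane is a field extension plane
    have hνρ : ν * ρ = 1 := by
      have h1 := (key a₀ hxa₀).2.1
      rw [hA0 a₀ hxa₀, map_zero, eq_comm, smul_eq_zero] at h1
      have := h1.resolve_right (fun h => ha₀ (by rw [h, QuadraticMap.map_zero]))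
      linear_combination -this
    obtain ⟨w, hw, hwne⟩ := exists_sq_ne hF (-(4 * ν))
    set t := (-(4 * ν) / w - w) / (2 * ν) with ht
    set S := (w + -(4 * ν) / w) / 2 with hS
    have ht0 : t ≠ 0 := div_ne_zero (sub_ne_zero.2 fun h => hwne (by rw [eq_comm, eq_div_iff hw] at h; linear_combination h))
      (mul_ne_zero two hν0)
    have hdisc : S ^ 2 - ν ^ 2 * t ^ 2 = -(4 * ν) := by rw [hS, ht]; field_simp; ring
    obtain ⟨y, hyX, hyfix, hyv⟩ := hy t
    set m' := (sl (1 - t ^ 2 * ν) t (-(t * ν)) 1 (by ring) : (W × W) ≃ₗ[F] (W × W)) with hm'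
    set z := m' * y
    have hzX : z ∈ X := mul_mem (hO.sl_mem _ _ _ _ _) hyX
    have hzv : ∀ v, pS Q x v = 0 → ∀ w₁ w₂ : F, z (w₁ • v, w₂ • v) = (w₁ • v, w₂ • v) := fun v hv w₁ w₂ => by
      show m' (y _) = _
      rw [hyv v hv, hJv, hA0 _ (hperp v hv).2, hm', sl_apply]
      ext <;> simp only [smul_zero, add_zero] <;> match_scalars
      · linear_combination (-(t ^ 2 * ν) * 0 + t * ν * (t * w₁ - w₂) + t * (w₂ * 0)) * 0 +
          (t ^ 2 * ν * w₁ - t * w₂) * hνρ + (t ^ 3 * ν * w₂ - t ^ 2 * 0) * 0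
      · linear_combination (t * ν * w₁ - t ^ 2 * ν * w₂ + t ^ 2 * ν * w₂) * hνρ
    have hzx : ∀ u₁ u₂ : F, z (u₁ • x, u₂ • x) =
        ((u₁ * (1 - t ^ 2 * ν) + u₂ * t) • x, (-(t * ν) * u₁ + u₂) • x) := fun u₁ u₂ => by
      show m' (y _) = _
      rw [hyfix, hm', sl_apply]
      ext <;> module
    set lam := (2 - t ^ 2 * ν + t * S) / 2 with hlam
    obtain ⟨μ, hμ, hμne⟩ := exists_sq_ne hF (-(Q a₀ / Q x))
    have hQ' : Q (a₀ + μ • x) ≠ 0 := by
      rw [q_add, q_smul, map_smul, pS_symm a₀ x, hxa₀, smul_zero, add_zero]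
      intro h0
      exact hμne (by field_simp; linear_combination h0)
    have hgood : z (t • (a₀ + μ • x), (lam - (1 - t ^ 2 * ν)) • (a₀ + μ • x)) =
        (t • (a₀ + (lam * μ) • x), (lam - (1 - t ^ 2 * ν)) • (a₀ + (lam * μ) • x)) := by
      rw [show ((t • (a₀ + μ • x), (lam - (1 - t ^ 2 * ν)) • (a₀ + μ • x)) : W × W) =
        (t • a₀, (lam - (1 - t ^ 2 * ν)) • a₀) + ((t * μ) • x, ((lam - (1 - t ^ 2 * ν)) * μ) • x) by
          ext <;> simp [smul_add, smul_smul], map_add, hzv a₀ hxa₀, hzx]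
      have e1 : t * μ * (1 - t ^ 2 * ν) + (lam - (1 - t ^ 2 * ν)) * μ * t = t * (lam * μ) := by ring
      have e2 : -(t * ν) * (t * μ) + (lam - (1 - t ^ 2 * ν)) * μ = (lam - (1 - t ^ 2 * ν)) * (lam * μ) := by
        have gen : ∀ T S' L : F, S' ^ 2 - ν ^ 2 * T ^ 2 = -(4 * ν) → L = (2 - T ^ 2 * ν + T * S') / 2 →
            -(T * ν) * (T * μ) + (L - (1 - T ^ 2 * ν)) * μ = (L - (1 - T ^ 2 * ν)) * (L * μ) := fun T S' L h1 h2 => by
          subst h2
          field_simp
          linear_combination (-(T ^ 2)) * h1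
        exact gen t S lam hdisc hlam
      rw [e1, e2]
      ext <;> simp [smul_add, smul_smul]
    obtain ⟨σ', α, β, γ, δ, f1, -⟩ := hO.good_of_pure hstep hD hzX hQ' (Or.inl ht0) hgood
    rw [show ((a₀ + μ • x, 0) : W × W) = ((1 : F) • a₀, (0 : F) • a₀) + (μ • x, (0 : F) • x) by simp, map_add,
      hzv a₀ hxa₀, hzx, Prod.ext_iff] at f1
    simp only [Prod.fst_add, Prod.snd_add, zero_smul, one_smul, zero_mul, add_zero, zero_add] at f1
    have g1 := congrArg (pS Q a₀) f1.1
    have g2 := congrArg (pS Q a₀) f1.2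
    simp only [map_add, map_smul, pS_self, pS_symm a₀ x, hxa₀, smul_eq_mul, mul_zero, add_zero] at g1 g2
    rcases mul_eq_zero.1 g2.symm with h | h
    · have := f1.2
      rw [h, zero_smul, smul_eq_zero] at this
      exact this.elim (mul_ne_zero (neg_ne_zero.2 (mul_ne_zero ht0 hν0)) hμ)
        (fun h0 => hx (by rw [h0, QuadraticMap.map_zero]))
    · exact mul_ne_zero two ha₀ (g1.trans (by rw [h, mul_zero]))
  · push Not at hA0
    obtain ⟨v₀, hv₀, hAv₀⟩ := hA0
    obtain ⟨z, hxz, hQz, hJz⟩ : ∃ z, pS Q x z = 0 ∧ Q z ≠ 0 ∧ ∀ μ : F, J z ≠ μ • z := by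
      by_contra! hall
      have hne : ∀ {z : W}, Q z ≠ 0 → z ≠ 0 := fun hz h0 => hz (by rw [h0, QuadraticMap.map_zero])
      obtain ⟨l, hl, hlne⟩ := exists_sq_ne hF (-(Q a₀ / Q b₀))
      obtain ⟨μ₁, h1⟩ := hall a₀ hxa₀ ha₀
      obtain ⟨μ₂, h2⟩ := hall b₀ hxb₀ hb₀
      obtain ⟨μ₃, h3'⟩ := hall (a₀ + l • b₀) (by rw [map_add, map_smul, hxa₀, hxb₀, smul_zero, add_zero]) (by
        rw [q_add, q_smul, map_smul, hab₀, smul_zero, add_zero]
        intro h0
        exact hlne (by field_simp; linear_combination h0))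
      rw [map_add, map_smul, h1, h2] at h3'
      obtain ⟨f1, f2⟩ := LinearIndependent.pair_iff.1 (hO.indep_of_perp ha₀ (hne hb₀) hab₀) (μ₁ - μ₃) (l * μ₂ - μ₃ * l)
        (by linear_combination (norm := module) h3')
      have e31 : μ₃ = μ₁ := by linear_combination -f1
      have e21 : μ₂ = μ₁ := mul_left_cancel₀ hl (by linear_combination f2 - l * f1)
      have hscal : ∀ v, pS Q x v = 0 → J v = μ₁ • v := fun v hv => by
        rw [hO.eq_of_frame h3 hx ha₀ hb₀ hxa₀ hxb₀ hab₀ v, hv, zero_div, zero_smul, zero_add, map_add, map_smul, map_smul,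
          h1, h2, e21, smul_add, smul_comm μ₁, smul_comm μ₁]
      have hμ : μ₁ = 0 := by
        have e1 := congrArg R (hscal a₀ hxa₀)
        rw [hJv, (key _ (hperp a₀ hxa₀).2).2.2, (key a₀ hxa₀).1, map_smul, map_smul, neg_one_smul] at e1
        have e2 := hscal _ (hperp a₀ hxa₀).2
        rw [hJv, (key a₀ hxa₀).1, map_smul] at e2
        have e3 : μ₁ • R a₀ = 0 := by
          have h4 : (2 : F) • (μ₁ • R a₀) = 0 := by linear_combination (norm := module) -e1 - e2
          exact (smul_eq_zero.1 h4).resolve_left two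
        refine (smul_eq_zero.1 e3).resolve_right fun h0 => ?_
        have := (key a₀ hxa₀).1
        rw [h0, map_zero, eq_comm, smul_eq_zero] at this
        exact this.elim hρ0 (hne ha₀)
      refine hAv₀ ?_
      have h4 := hscal _ (hperp v₀ hv₀).2
      rw [hJv, (key v₀ hv₀).1, map_smul, hμ, zero_smul, smul_eq_zero] at h4
      exact h4.resolve_left hρ0
    set cc := ν * (ν * ρ) * (ν * ρ - 1) with hcc
    obtain ⟨t, r, ht0, hr⟩ : ∃ t r : F, t ≠ 0 ∧ r ^ 2 = 1 + cc * t ^ 2 := by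
      by_cases hc0 : cc = 0
      · exact ⟨1, 1, one_ne_zero, by rw [hc0]; ring⟩
      · obtain ⟨l, hl, hlne⟩ := exists_sq_ne hF cc
        refine ⟨2 * l / (cc - l ^ 2), 1 + l * (2 * l / (cc - l ^ 2)),
          div_ne_zero (mul_ne_zero two hl) (sub_ne_zero.2 (Ne.symm hlne)), ?_⟩
        have : cc - l ^ 2 ≠ 0 := sub_ne_zero.2 (Ne.symm hlne)
        field_simp
        ring
    obtain ⟨y, hyX, -, hyv⟩ := hy t
    have hli' : ∀ i j : F, i • z + j • J z = 0 → i = 0 ∧ j = 0 := fun i j h => by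
      rcases eq_or_ne j 0 with rfl | hj
      · rw [zero_smul, add_zero, smul_eq_zero] at h
        exact ⟨h.resolve_right fun h0 => hQz (by rw [h0, QuadraticMap.map_zero]), rfl⟩
      · refine absurd ?_ (hJz (-i / j))
        rw [div_eq_inv_mul, mul_smul, eq_inv_smul_iff₀ hj]
        linear_combination (norm := module) h
    set k := t * ν * ρ with hkd
    set w₁ := r - (1 - t * ν * k) with hw₁
    set w₂ := ν * k with hw₂
    have hw20 : w₂ ≠ 0 := mul_ne_zero hν0 (mul_ne_zero (mul_ne_zero ht0 hν0) hρ0)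
    set p₀ := w₁ - t * ν * ρ * w₂ with hp₀
    set p₁ := t * ν * (w₁ - t * w₂) with hp₁
    set q₀ := t * ν ^ 2 * ρ * w₁ + (1 - t ^ 2 * ν ^ 2 * ρ) * w₂ with hq₀
    set q₁ := -(t * ν * w₂) with hq₁
    have hdet : p₀ * q₁ = p₁ * q₀ := by
      rw [hp₀, hp₁, hq₀, hq₁, hw₁, hw₂, hkd]
      linear_combination (-(t ^ 2 * ν ^ 3 * ρ)) * hr + 0 * hcc
    have hq10 : q₁ ≠ 0 := neg_ne_zero.2 (mul_ne_zero (mul_ne_zero ht0 hν0) hw20)
    have himg : y (w₁ • z, w₂ • z) = ((p₁ / q₁) • (q₀ • z + q₁ • J z), (1 : F) • (q₀ • z + q₁ • J z)) := by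
      rw [hyv z hxz, one_smul, smul_add, smul_smul, smul_smul,
        show p₁ / q₁ * q₀ = p₀ by rw [div_mul_eq_mul_div, ← hdet, mul_div_cancel_right₀ _ hq10],
        show p₁ / q₁ * q₁ = p₁ by rw [div_mul_cancel₀ _ hq10]]
    obtain ⟨σ', α, β, γ, δ, f1, -⟩ := hO.good_of_pure hstep hD hyX hQz (Or.inr hw20) himg
    have e := hyv z hxz 1 0
    rw [one_smul, zero_smul, f1, Prod.mk.injEq] at e
    obtain ⟨e1, e2⟩ := e
    simp only [mul_zero, sub_zero, mul_one, add_zero, neg_zero, zero_smul] at e1 e2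
    obtain ⟨f2, f3⟩ := hli' (α * (t * ν ^ 2 * ρ) - γ) (-(γ * (t * ν))) (by
      have e3 : γ • (α • σ') = α • (γ • σ') := smul_comm γ α σ'
      rw [e1, e2] at e3
      linear_combination (norm := module) -e3)
    have hγ : γ = 0 := (mul_eq_zero.1 (neg_eq_zero.1 f3)).resolve_right (mul_ne_zero ht0 hν0)
    rw [hγ, zero_smul, eq_comm, smul_eq_zero] at e2
    exact e2.elim (mul_ne_zero (mul_ne_zero ht0 (pow_ne_zero 2 hν0)) hρ0)
      (fun h0 => hQz (by rw [h0, QuadraticMap.map_zero]))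

end Over

end Cfsg.Agent.ClassicalMax.SpTwo
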